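import Mathlib

/-!
The symplectic group as the unitary group of the quaternion algebra: monomial elements and reflections.
-/

set_option autoImplicit false
set_option linter.unusedSectionVars false
set_option linter.unusedSimpArgs false
set_option linter.style.haveILetI false

namespace H47.PSp

open Matrix Equiv

variable {F : Type*} [Field F] {ι : Type*} [Fintype ι] [DecidableEq ι]

/-- The quaternion algebra `(-1, -1)`. -/
abbrev HQ (F : Type*) [Field F] := Quaternion F

/-- Quaternions of norm one. -/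
abbrev SL1 (F : Type*) [Field F] := ↥(unitary (Quaternion F))

/-- Unitary matrices over the quaternions. -/
abbrev SpH (ι : Type*) [Fintype ι] [DecidableEq ι] (F : Type*) [Field F] :=
  ↥(unitary (Matrix ι ι (Quaternion F)))

instance instFiniteHQ [Finite F] : Finite (Quaternion F) :=
  Finite.of_equiv _ (QuaternionAlgebra.equivProd (-1 : F) 0 (-1)).symm

instance instFiniteMat [Finite F] : Finite (Matrix ι ι (Quaternion F)) :=
  inferInstanceAs (Finite (ι → ι → Quaternion F))

theorem SpH.ext {g h : SpH ι F} (e : ∀ a b, (g : Matrix ι ι (HQ F)) a b = (h : Matrix ι ι (HQ F)) a b) :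
    g = h := Subtype.ext (Matrix.ext e)

theorem inv_apply (g : SpH ι F) (a b : ι) :
    ((g⁻¹ : SpH ι F) : Matrix ι ι (HQ F)) a b = star ((g : Matrix ι ι (HQ F)) b a) := rfl

theorem mul_apply' (g h : SpH ι F) (a b : ι) :
    ((g * h : SpH ι F) : Matrix ι ι (HQ F)) a b =
      ∑ c, (g : Matrix ι ι (HQ F)) a c * (h : Matrix ι ι (HQ F)) c b := rfl

theorem coe_inv_SL1 (d : SL1 F) : ((d⁻¹ : SL1 F) : HQ F) = star (d : HQ F) := rfl

theorem star_mul_coe (d : SL1 F) : star (d : HQ F) * (d : HQ F) = 1 := Unitary.star_mul_self_of_mem d.2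

theorem mul_star_coe (d : SL1 F) : (d : HQ F) * star (d : HQ F) = 1 := Unitary.mul_star_self_of_mem d.2

theorem coe_ne_zero (d : SL1 F) : (d : HQ F) ≠ 0 := fun h => by
  have := star_mul_coe d
  rw [h, mul_zero] at this
  exact zero_ne_one this

/-- The element `-1`. -/
def negOne : SL1 F := ⟨-1, by rw [Unitary.mem_iff]; simp⟩

theorem coe_negOne : ((negOne : SL1 F) : HQ F) = -1 := rfl

theorem negOne_mul_self : (negOne : SL1 F) * negOne = 1 := Subtype.ext (by simp [coe_negOne])

theorem negOne_comm (d : SL1 F) : negOne * d = d * negOne := Subtype.ext (by simp [coe_negOne])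

theorem negOne_inv : (negOne : SL1 F)⁻¹ = negOne := inv_eq_of_mul_eq_one_right negOne_mul_self

/-! ### Monomial elements -/

/-- The monomial matrix sending the basis vector at `b` to `d b` times the one at `π b`. -/
def monM (π : Perm ι) (d : ι → SL1 F) : Matrix ι ι (HQ F) :=
  Matrix.of fun a b => if a = π b then (d b : HQ F) else 0

theorem monM_apply (π : Perm ι) (d : ι → SL1 F) (a b : ι) :
    monM π d a b = if a = π b then (d b : HQ F) else 0 := rfl

theorem monM_mul (π π' : Perm ι) (d d' : ι → SL1 F) :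
    monM π d * monM π' d' = monM (π * π') (fun b => d (π' b) * d' b) := by
  ext a b : 1
  rw [Matrix.mul_apply, Finset.sum_eq_single (π' b)]
  · rw [monM_apply, monM_apply, monM_apply, if_pos rfl, Perm.mul_apply]
    split_ifs with h
    · rfl
    · rw [zero_mul]
  · intro c _ hc
    rw [monM_apply π' d', if_neg hc, mul_zero]
  · simp

theorem monM_one : monM (1 : Perm ι) (fun _ => (1 : SL1 F)) = 1 := by
  ext a b : 1
  rw [monM_apply, Matrix.one_apply]
  rfl

theorem star_monM (π : Perm ι) (d : ι → SL1 F) :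
    star (monM π d) = monM π⁻¹ (fun b => (d (π⁻¹ b))⁻¹) := by
  ext a b : 1
  rw [Matrix.star_apply, monM_apply, monM_apply]
  by_cases h : b = π a
  · subst h
    simp [coe_inv_SL1]
  · rw [if_neg h, if_neg, star_zero]
    rintro rfl
    simp at h

theorem monM_mem (π : Perm ι) (d : ι → SL1 F) : monM π d ∈ unitary (Matrix ι ι (HQ F)) := by
  rw [Unitary.mem_iff, star_monM, monM_mul, monM_mul]
  refine ⟨?_, ?_⟩
  · rw [inv_mul_cancel, ← monM_one]
    congr 1
    funext b
    simp
  · rw [mul_inv_cancel, ← monM_one]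
    congr 1
    funext b
    simp

/-- Monomial elements. -/
def mon (π : Perm ι) (d : ι → SL1 F) : SpH ι F := ⟨monM π d, monM_mem π d⟩

theorem mon_apply (π : Perm ι) (d : ι → SL1 F) (a b : ι) :
    (mon π d : Matrix ι ι (HQ F)) a b = if a = π b then (d b : HQ F) else 0 := rfl

theorem mon_mul (π π' : Perm ι) (d d' : ι → SL1 F) :
    mon π d * mon π' d' = mon (π * π') (fun b => d (π' b) * d' b) := Subtype.ext (monM_mul _ _ _ _)

theorem mon_one : mon (1 : Perm ι) (fun _ => (1 : SL1 F)) = 1 := Subtype.ext monM_one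

theorem mon_inv (π : Perm ι) (d : ι → SL1 F) :
    (mon π d)⁻¹ = mon π⁻¹ (fun b => (d (π⁻¹ b))⁻¹) := Subtype.ext (star_monM π d)

theorem mon_inj {π π' : Perm ι} {d d' : ι → SL1 F} (h : mon π d = mon π' d') : π = π' ∧ d = d' := by
  have hb : ∀ b, π b = π' b ∧ d b = d' b := by
    intro b
    have e : (mon π d : Matrix ι ι (HQ F)) (π b) b = (mon π' d' : Matrix ι ι (HQ F)) (π b) b := by rw [h]
    rw [mon_apply, mon_apply, if_pos rfl] at e
    split_ifs at e with h'
    · exact ⟨h', Subtype.ext e⟩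
    · exact absurd e (coe_ne_zero _)
  exact ⟨Equiv.ext fun b => (hb b).1, funext fun b => (hb b).2⟩

/-- The group of monomial elements. -/
def Mon (ι : Type*) [Fintype ι] [DecidableEq ι] (F : Type*) [Field F] : Subgroup (SpH ι F) where
  carrier := {g | ∃ π d, g = mon π d}
  one_mem' := ⟨1, _, mon_one.symm⟩
  mul_mem' := by
    rintro _ _ ⟨π, d, rfl⟩ ⟨π', d', rfl⟩
    exact ⟨_, _, mon_mul _ _ _ _⟩
  inv_mem' := by
    rintro _ ⟨π, d, rfl⟩
    exact ⟨_, _, mon_inv _ _⟩

theorem mem_Mon {g : SpH ι F} : g ∈ Mon ι F ↔ ∃ π d, g = mon π d := Iff.rfl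

/-- Diagonal elements. -/
def diag : (ι → SL1 F) →* SpH ι F where
  toFun d := mon 1 d
  map_one' := mon_one
  map_mul' d d' := by rw [mon_mul, mul_one]; rfl

theorem diag_def (d : ι → SL1 F) : diag d = mon 1 d := rfl

theorem diag_apply (d : ι → SL1 F) (a b : ι) :
    (diag d : Matrix ι ι (HQ F)) a b = if a = b then (d b : HQ F) else 0 := rfl

theorem diag_injective : Function.Injective (diag (F := F) (ι := ι)) := fun _ _ h => (mon_inj h).2

theorem mon_eq_diag_mul (π : Perm ι) (d : ι → SL1 F) :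
    mon π d = mon π (fun _ => 1) * diag d := by
  rw [diag_def, mon_mul, mul_one]
  congr 1
  funext b
  rw [one_mul]

theorem mon_conj_diag (π : Perm ι) (d e : ι → SL1 F) :
    mon π d * diag e * (mon π d)⁻¹ =
      diag (fun b => d (π⁻¹ b) * e (π⁻¹ b) * (d (π⁻¹ b))⁻¹) := by
  rw [diag_def, mon_inv, mon_mul, mon_mul, mul_one, mul_inv_cancel]
  rfl

/-- The sign change at the coordinates in `B`. -/
def zB (B : Finset ι) : SpH ι F := diag fun c => if c ∈ B then negOne else 1

theorem zB_apply (B : Finset ι) (a b : ι) :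
    ((zB B : SpH ι F) : Matrix ι ι (HQ F)) a b = if a = b then (if b ∈ B then -1 else 1) else 0 := by
  rw [zB, diag_apply]
  split_ifs <;> rfl

theorem zB_mul (B C : Finset ι) :
    (zB B : SpH ι F) * zB C = zB (symmDiff B C) := by
  rw [zB, zB, zB, ← map_mul]
  congr 1
  funext c
  simp only [Pi.mul_apply, Finset.mem_symmDiff]
  by_cases h1 : c ∈ B <;> by_cases h2 : c ∈ C <;> simp [h1, h2, negOne_mul_self]

theorem zB_empty : (zB (∅ : Finset ι) : SpH ι F) = 1 := by
  rw [zB, ← map_one (diag (F := F) (ι := ι))]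
  simp [Pi.one_def]

theorem zB_sq (B : Finset ι) : (zB B : SpH ι F) * zB B = 1 := by
  rw [zB_mul, symmDiff_self]
  exact zB_empty

theorem zB_inv (B : Finset ι) : (zB B : SpH ι F)⁻¹ = zB B := inv_eq_of_mul_eq_one_right (zB_sq B)

theorem mon_conj_zB (π : Perm ι) (d : ι → SL1 F) (B : Finset ι) :
    mon π d * zB B * (mon π d)⁻¹ = zB (B.image π) := by
  rw [zB, mon_conj_diag, zB]
  congr 1
  funext b
  have hiff : b ∈ B.image π ↔ π⁻¹ b ∈ B := by
    rw [Finset.mem_image]
    refine ⟨?_, fun h => ⟨_, h, by simp⟩⟩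
    rintro ⟨c, hc, rfl⟩
    simpa using hc
  simp only [hiff]
  split_ifs
  · rw [← negOne_comm, mul_inv_cancel_right]
  · simp

/-- The sign change at one coordinate. -/
def z (a : ι) : SpH ι F := zB {a}

theorem z_apply (a c b : ι) :
    ((z a : SpH ι F) : Matrix ι ι (HQ F)) c b = if c = b then (if b = a then -1 else 1) else 0 := by
  rw [z, zB_apply]
  simp only [Finset.mem_singleton]

theorem z_sq (a : ι) : (z a : SpH ι F) * z a = 1 := zB_sq _

theorem z_inv (a : ι) : (z a : SpH ι F)⁻¹ = z a := zB_inv _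

theorem mon_conj_z (π : Perm ι) (d : ι → SL1 F) (a : ι) :
    mon π d * z a * (mon π d)⁻¹ = z (π a) := by
  rw [z, mon_conj_zB, Finset.image_singleton]
  rfl

theorem zB_conj_z (B : Finset ι) (a : ι) : (zB B : SpH ι F) * z a * (zB B)⁻¹ = z a := by
  rw [zB, diag_def, mon_conj_z, Perm.one_apply]

/-! ### Conjugates of sign changes -/

theorem col_norm (k : SpH ι F) (a b : ι) :
    ∑ c, star ((k : Matrix ι ι (HQ F)) c a) * (k : Matrix ι ι (HQ F)) c b = if a = b then 1 else 0 := by
  have h : (star (k : Matrix ι ι (HQ F)) * (k : Matrix ι ι (HQ F))) a b = (1 : Matrix ι ι (HQ F)) a b := by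
    rw [Unitary.star_mul_self_of_mem k.2]
  rw [Matrix.mul_apply, Matrix.one_apply] at h
  exact h

theorem row_norm (k : SpH ι F) (a b : ι) :
    ∑ c, (k : Matrix ι ι (HQ F)) a c * star ((k : Matrix ι ι (HQ F)) b c) = if a = b then 1 else 0 := by
  have h : ((k : Matrix ι ι (HQ F)) * star (k : Matrix ι ι (HQ F))) a b = (1 : Matrix ι ι (HQ F)) a b := by
    rw [Unitary.mul_star_self_of_mem k.2]
  rw [Matrix.mul_apply, Matrix.one_apply] at h
  exact h

theorem conj_z_apply (k : SpH ι F) (a c b : ι) :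
    ((k * z a * k⁻¹ : SpH ι F) : Matrix ι ι (HQ F)) c b =
      (if c = b then 1 else 0) -
        2 * ((k : Matrix ι ι (HQ F)) c a * star ((k : Matrix ι ι (HQ F)) b a)) := by
  rw [mul_apply', ← row_norm k c b]
  have e : ∀ e, ((k * z a : SpH ι F) : Matrix ι ι (HQ F)) c e =
      (k : Matrix ι ι (HQ F)) c e * (if e = a then -1 else 1) := fun e => by
    rw [mul_apply', Finset.sum_eq_single e]
    · rw [z_apply, if_pos rfl]
    · intro f _ hf
      rw [z_apply, if_neg hf, mul_zero]
    · simp
  simp only [e, inv_apply]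
  rw [eq_sub_iff_add_eq, ← Finset.sum_erase_add _ _ (Finset.mem_univ a),
    ← Finset.sum_erase_add (f := fun x => (k : Matrix ι ι (HQ F)) c x * star ((k : Matrix ι ι (HQ F)) b x))
      _ (Finset.mem_univ a)]
  rw [Finset.sum_congr rfl (g := fun x => (k : Matrix ι ι (HQ F)) c x * star ((k : Matrix ι ι (HQ F)) b x))
    (fun x hx => by rw [if_neg (Finset.ne_of_mem_erase hx), mul_one])]
  simp only [if_true, mul_neg, mul_one, neg_mul, two_mul]
  abel

theorem scalar_of_star_eq (h2 : (2 : F) ≠ 0) {x : HQ F} (h : star x = x) : x = (x.re : HQ F) := by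
  have half : ∀ r : F, -r = r → r = 0 := fun r hr => by
    have : (2 : F) * r = 0 := by linear_combination -hr
    exact (mul_eq_zero.1 this).resolve_left h2
  have h1 := congrArg QuaternionAlgebra.imI h
  have h3 := congrArg QuaternionAlgebra.imJ h
  have h4 := congrArg QuaternionAlgebra.imK h
  simp at h1 h3 h4
  ext <;> simp [half _ h1, half _ h3, half _ h4]

theorem eq_zero_of_neg (h2 : (2 : F) ≠ 0) {x : HQ F} (h : -x = x) : x = 0 := by
  have e : ((2 : F) : HQ F) * x = 0 := by
    rw [Quaternion.coe_mul_eq_smul, two_smul]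
    nth_rewrite 1 [← h]
    exact neg_add_cancel x
  rw [Quaternion.coe_mul_eq_smul] at e
  exact (smul_eq_zero.1 e).resolve_left h2

theorem two_mul_cancel (h2 : (2 : F) ≠ 0) {x : HQ F} (h : 2 * x = 0) : x = 0 :=
  eq_zero_of_neg h2 (neg_eq_of_add_eq_zero_right (by rwa [← two_mul]))

/-- A reflection commuting with a sign change lives on the coordinates changed or on those fixed. -/
theorem commute_zB (h2 : (2 : F) ≠ 0) (k : SpH ι F) (a : ι) (B : Finset ι)
    (h : k * z a * k⁻¹ * zB B = zB B * (k * z a * k⁻¹)) :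
    (∀ c ∈ B, (k : Matrix ι ι (HQ F)) c a = 0) ∨ (∀ c ∉ B, (k : Matrix ι ι (HQ F)) c a = 0) := by
  set u : ι → HQ F := fun c => (k : Matrix ι ι (HQ F)) c a with hu
  have hcb : ∀ c ∈ B, ∀ b ∉ B, u c * star (u b) = 0 := by
    intro c hc b hb
    have hne : c ≠ b := fun e => hb (e ▸ hc)
    have e : ((k * z a * k⁻¹ * zB B : SpH ι F) : Matrix ι ι (HQ F)) c b =
        ((zB B * (k * z a * k⁻¹) : SpH ι F) : Matrix ι ι (HQ F)) c b := by rw [h]
    rw [mul_apply' (k * z a * k⁻¹) (zB B), mul_apply' (zB B) (k * z a * k⁻¹)] at e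
    rw [Finset.sum_eq_single b (fun f _ hf => by rw [zB_apply, if_neg hf, mul_zero]) (by simp),
      Finset.sum_eq_single c (fun f _ hf => by rw [zB_apply, if_neg (Ne.symm hf), zero_mul]) (by simp),
      zB_apply, zB_apply, if_pos rfl, if_pos rfl, if_neg hb, if_pos hc, conj_z_apply, if_neg hne,
      zero_sub, mul_one, neg_one_mul, neg_neg] at e
    exact two_mul_cancel h2 (eq_zero_of_neg h2 e)
  set N : ι → F := fun c => Quaternion.normSq (u c) with hN
  have hN' : ∀ c, star (u c) * u c = (N c : HQ F) := fun c => Quaternion.star_mul_self (u c)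
  have htot : ∑ c, N c = 1 := by
    have := col_norm k a a
    rw [if_pos rfl] at this
    have e : ((∑ c, N c : F) : HQ F) = ((1 : F) : HQ F) := by
      rw [show ((∑ c, N c : F) : HQ F) = ∑ c, ((N c : F) : HQ F) from
        map_sum (algebraMap F (HQ F)) N Finset.univ, Quaternion.coe_one, ← this]
      exact Finset.sum_congr rfl fun c _ => (hN' c).symm
    exact Quaternion.coe_inj.1 e
  by_cases hC : ∑ c ∈ Bᶜ, N c = 0
  · right
    intro b hb
    have hB : ∑ c ∈ B, N c = 1 := by
      rw [← htot, ← Finset.sum_add_sum_compl B, hC, add_zero]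
    have : u b * ((∑ c ∈ B, N c : F) : HQ F) = 0 := by
      rw [show ((∑ c ∈ B, N c : F) : HQ F) = ∑ c ∈ B, ((N c : F) : HQ F) from
        map_sum (algebraMap F (HQ F)) N B, Finset.mul_sum]
      refine Finset.sum_eq_zero fun c hc => ?_
      have e := congrArg star (hcb c hc b hb)
      rw [star_mul, star_star, star_zero] at e
      rw [← hN', ← mul_assoc, e, zero_mul]
    simpa [hB] using this
  · left
    intro c hc
    have : u c * ((∑ b ∈ Bᶜ, N b : F) : HQ F) = 0 := by
      rw [show ((∑ b ∈ Bᶜ, N b : F) : HQ F) = ∑ b ∈ Bᶜ, ((N b : F) : HQ F) from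
        map_sum (algebraMap F (HQ F)) N Bᶜ, Finset.mul_sum]
      refine Finset.sum_eq_zero fun b hb => ?_
      rw [← hN', ← mul_assoc, hcb c hc b (Finset.mem_compl.1 hb), zero_mul]
    rw [← Quaternion.coe_commutes, Quaternion.coe_mul_eq_smul] at this
    exact (smul_eq_zero.1 this).resolve_left hC

/-- A conjugate of a sign change with a single nonzero coordinate is a sign change. -/
theorem conj_z_eq_z_of_single (k : SpH ι F) (a d : ι)
    (h : ∀ c, c ≠ d → (k : Matrix ι ι (HQ F)) c a = 0) : k * z a * k⁻¹ = z d := by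
  refine SpH.ext fun c b => ?_
  rw [conj_z_apply, z_apply]
  have hn := col_norm k a a
  rw [if_pos rfl, Finset.sum_eq_single d (fun c _ hc => by rw [h c hc, mul_zero]) (by simp)] at hn
  have hn' : (k : Matrix ι ι (HQ F)) d a * star ((k : Matrix ι ι (HQ F)) d a) = 1 := by
    rw [Quaternion.self_mul_star]
    rwa [Quaternion.star_mul_self] at hn
  by_cases hcb : c = b
  · subst hcb
    by_cases hcd : c = d
    · subst hcd
      rw [if_pos rfl, if_pos rfl, if_pos rfl, hn', mul_one]
      norm_num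
    · rw [if_pos rfl, if_pos rfl, if_neg hcd, h c hcd, zero_mul, mul_zero, sub_zero]
  · rw [if_neg hcb, if_neg hcb]
    by_cases hcd : c = d
    · rw [h b (fun e => hcb (hcd.trans e.symm)), star_zero, mul_zero, mul_zero, sub_zero]
    · rw [h c hcd, zero_mul, mul_zero, sub_zero]

theorem single_of_conj_z_eq_z (h2 : (2 : F) ≠ 0) (k : SpH ι F) (a d : ι) (h : k * z a * k⁻¹ = z d) :
    ∀ c, c ≠ d → (k : Matrix ι ι (HQ F)) c a = 0 := by
  intro c hc
  have h' : k * z a = z d * k := mul_inv_eq_iff_eq_mul.1 h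
  have e : ((k * z a : SpH ι F) : Matrix ι ι (HQ F)) c a =
      ((z d * k : SpH ι F) : Matrix ι ι (HQ F)) c a := by rw [h']
  rw [mul_apply', mul_apply'] at e
  rw [Finset.sum_eq_single a (fun f _ hf => by rw [z_apply, if_neg hf, mul_zero]) (by simp),
    Finset.sum_eq_single c (fun f _ hf => by rw [z_apply, if_neg (Ne.symm hf), zero_mul]) (by simp),
    z_apply, z_apply, if_pos rfl, if_pos rfl, if_pos rfl, if_neg hc, one_mul, mul_neg, mul_one] at e
  exact eq_zero_of_neg h2 e

/-- An element all of whose columns have a single nonzero entry is monomial. -/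
theorem mem_Mon_of_conj (h2 : (2 : F) ≠ 0) {k : SpH ι F} (h : ∀ a, ∃ d, k * z a * k⁻¹ = z d) :
    k ∈ Mon ι F := by
  choose f hf using h
  have hs : ∀ a c, c ≠ f a → (k : Matrix ι ι (HQ F)) c a = 0 := fun a => single_of_conj_z_eq_z h2 k a _ (hf a)
  have hmem : ∀ a, (k : Matrix ι ι (HQ F)) (f a) a ∈ unitary (HQ F) := by
    intro a
    have hn := col_norm k a a
    rw [if_pos rfl, Finset.sum_eq_single (f a) (fun c _ hc => by rw [hs a c hc, mul_zero]) (by simp)] at hn
    rw [Unitary.mem_iff]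
    exact ⟨hn, by rwa [Quaternion.self_mul_star, ← Quaternion.star_mul_self]⟩
  have hinj : Function.Injective f := by
    intro a b hab
    by_contra hne
    have hn := col_norm k a b
    rw [if_neg hne, Finset.sum_eq_single (f a) (fun c _ hc => by rw [hs a c hc, star_zero, zero_mul])
      (by simp)] at hn
    have hu : (k : Matrix ι ι (HQ F)) (f a) b = 0 := by
      calc (k : Matrix ι ι (HQ F)) (f a) b
          = ((k : Matrix ι ι (HQ F)) (f a) a * star ((k : Matrix ι ι (HQ F)) (f a) a)) *
              (k : Matrix ι ι (HQ F)) (f a) b := by rw [Unitary.mul_star_self_of_mem (hmem a), one_mul]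
        _ = 0 := by rw [mul_assoc, hn, mul_zero]
    exact coe_ne_zero ⟨_, hmem b⟩ (show (k : Matrix ι ι (HQ F)) (f b) b = 0 by rw [← hab]; exact hu)
  refine ⟨Equiv.ofBijective f (Finite.injective_iff_bijective.1 hinj),
    fun a => ⟨_, hmem a⟩, SpH.ext fun c a => ?_⟩
  rw [mon_apply, Equiv.ofBijective_apply]
  split_ifs with hc
  · rw [hc]
  · exact hs a c hc

end H47.PSp
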