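import Cfsg.Agent.H47.PSp.Basic

/-!
The quaternionic unitary group is the symplectic group.
-/

set_option autoImplicit false
set_option linter.unusedSectionVars false
set_option linter.unusedSimpArgs false
set_option maxHeartbeats 1000000

namespace H47.PSp

open Matrix

variable {F : Type*} [Field F] {ι : Type*} [Fintype ι] [DecidableEq ι] (a b : F)

/-- The four entries of the two-dimensional representation of the quaternions. -/
def ent11 (x : HQ F) : F := x.re + a * x.imI + b * x.imK
/-- Upper right entry. -/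
def ent12 (x : HQ F) : F := b * x.imI - x.imJ - a * x.imK
/-- Lower left entry. -/
def ent21 (x : HQ F) : F := b * x.imI + x.imJ - a * x.imK
/-- Lower right entry. -/
def ent22 (x : HQ F) : F := x.re - a * x.imI - b * x.imK

/-- Additive maps from the entries. -/
def entHom (f : HQ F → F) (hf : ∀ x y, f (x + y) = f x + f y) : HQ F →+ F := AddMonoidHom.mk' f hf

theorem ent11_add (x y : HQ F) : ent11 a b (x + y) = ent11 a b x + ent11 a b y := by simp [ent11]; ring
theorem ent12_add (x y : HQ F) : ent12 a b (x + y) = ent12 a b x + ent12 a b y := by simp [ent12]; ring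
theorem ent21_add (x y : HQ F) : ent21 a b (x + y) = ent21 a b x + ent21 a b y := by simp [ent21]; ring
theorem ent22_add (x y : HQ F) : ent22 a b (x + y) = ent22 a b x + ent22 a b y := by simp [ent22]; ring

variable {a b}

theorem ent11_mul (hab : a ^ 2 + b ^ 2 = -1) (x y : HQ F) :
    ent11 a b (x * y) = ent11 a b x * ent11 a b y + ent12 a b x * ent21 a b y := by
  simp [ent11, ent12, ent21]
  linear_combination (-(x.imI * y.imI) - x.imK * y.imK) * hab

theorem ent12_mul (hab : a ^ 2 + b ^ 2 = -1) (x y : HQ F) :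
    ent12 a b (x * y) = ent11 a b x * ent12 a b y + ent12 a b x * ent22 a b y := by
  simp [ent11, ent12, ent22]
  linear_combination (x.imI * y.imK - x.imK * y.imI) * hab

theorem ent21_mul (hab : a ^ 2 + b ^ 2 = -1) (x y : HQ F) :
    ent21 a b (x * y) = ent21 a b x * ent11 a b y + ent22 a b x * ent21 a b y := by
  simp [ent11, ent21, ent22]
  linear_combination (x.imK * y.imI - x.imI * y.imK) * hab

theorem ent22_mul (hab : a ^ 2 + b ^ 2 = -1) (x y : HQ F) :
    ent22 a b (x * y) = ent21 a b x * ent12 a b y + ent22 a b x * ent22 a b y := by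
  simp [ent12, ent21, ent22]
  linear_combination (-(x.imI * y.imI) - x.imK * y.imK) * hab

/-- The representation of quaternion matrices. -/
def toBlocks (a b : F) (A : Matrix ι ι (HQ F)) : Matrix (ι ⊕ ι) (ι ⊕ ι) F :=
  Matrix.fromBlocks (A.map (ent11 a b)) (A.map (ent12 a b)) (A.map (ent21 a b)) (A.map (ent22 a b))

theorem toBlocks_mul (hab : a ^ 2 + b ^ 2 = -1) (A B : Matrix ι ι (HQ F)) :
    toBlocks a b (A * B) = toBlocks a b A * toBlocks a b B := by
  rw [toBlocks, toBlocks, toBlocks, Matrix.fromBlocks_multiply]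
  congr 1 <;> ext f h : 1 <;>
    simp only [Matrix.map_apply, Matrix.add_apply, Matrix.mul_apply, ← Finset.sum_add_distrib]
  · rw [show ent11 a b = ⇑(AddMonoidHom.mk' (ent11 a b) (ent11_add a b)) from rfl, map_sum]
    exact Finset.sum_congr rfl fun c _ => ent11_mul hab _ _
  · rw [show ent12 a b = ⇑(AddMonoidHom.mk' (ent12 a b) (ent12_add a b)) from rfl, map_sum]
    exact Finset.sum_congr rfl fun c _ => ent12_mul hab _ _
  · rw [show ent21 a b = ⇑(AddMonoidHom.mk' (ent21 a b) (ent21_add a b)) from rfl, map_sum]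
    exact Finset.sum_congr rfl fun c _ => ent21_mul hab _ _
  · rw [show ent22 a b = ⇑(AddMonoidHom.mk' (ent22 a b) (ent22_add a b)) from rfl, map_sum]
    exact Finset.sum_congr rfl fun c _ => ent22_mul hab _ _

theorem toBlocks_one : toBlocks a b (1 : Matrix ι ι (HQ F)) = 1 := by
  rw [toBlocks, ← Matrix.fromBlocks_one]
  congr 1 <;> ext f h <;> by_cases hfh : f = h <;>
    simp [hfh, ent11, ent12, ent21, ent22, Matrix.one_apply, Quaternion.re_one, Quaternion.imI_one,
      Quaternion.imJ_one, Quaternion.imK_one, Quaternion.re_zero, Quaternion.imI_zero, Quaternion.imJ_zero,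
      Quaternion.imK_zero]

theorem toBlocks_star (A : Matrix ι ι (HQ F)) :
    toBlocks a b (star A) = -Matrix.J ι F * (toBlocks a b A)ᵀ * Matrix.J ι F := by
  rw [toBlocks, toBlocks, Matrix.fromBlocks_transpose, Matrix.J, Matrix.fromBlocks_neg,
    Matrix.fromBlocks_multiply, Matrix.fromBlocks_multiply]
  congr 1 <;> ext f h <;>
    simp [Matrix.star_apply, ent11, ent12, ent21, ent22] <;> ring

theorem toBlocks_injective (h2 : (2 : F) ≠ 0) (hab : a ^ 2 + b ^ 2 = -1) :
    Function.Injective (toBlocks (ι := ι) a b) := by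
  intro A B h
  obtain ⟨h11, h12, h21, h22⟩ := Matrix.fromBlocks_inj.1 h
  ext f g
  all_goals
    have e1 := congrFun (congrFun h11 f) g
    have e2 := congrFun (congrFun h12 f) g
    have e3 := congrFun (congrFun h21 f) g
    have e4 := congrFun (congrFun h22 f) g
    simp only [Matrix.map_apply, ent11, ent12, ent21, ent22] at e1 e2 e3 e4
    apply mul_left_cancel₀ h2
  · linear_combination e1 + e4
  · linear_combination -a * (e1 - e4) - b * (e2 + e3) + 2 * ((A f g).imI - (B f g).imI) * hab
  · linear_combination e3 - e2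
  · linear_combination -b * (e1 - e4) + a * (e2 + e3) + 2 * ((A f g).imK - (B f g).imK) * hab

theorem exists_ent (h2 : (2 : F) ≠ 0) (hab : a ^ 2 + b ^ 2 = -1) (p q r s : F) :
    ∃ x : HQ F, ent11 a b x = p ∧ ent12 a b x = q ∧ ent21 a b x = r ∧ ent22 a b x = s := by
  refine ⟨⟨2⁻¹ * (p + s), -(2⁻¹ * (a * (p - s) + b * (q + r))), 2⁻¹ * (r - q),
    -(2⁻¹ * (b * (p - s) - a * (q + r)))⟩, ?_, ?_, ?_, ?_⟩ <;>
    simp only [ent11, ent12, ent21, ent22] <;> field_simp
  · linear_combination (s - p) * hab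
  · linear_combination -(q + r) * hab
  · linear_combination -(q + r) * hab
  · linear_combination (p - s) * hab

theorem toBlocks_surjective (h2 : (2 : F) ≠ 0) (hab : a ^ 2 + b ^ 2 = -1) :
    Function.Surjective (toBlocks (ι := ι) a b) := by
  intro M
  choose A h11 h12 h21 h22 using fun f g : ι => exists_ent h2 hab (M (Sum.inl f) (Sum.inl g))
    (M (Sum.inl f) (Sum.inr g)) (M (Sum.inr f) (Sum.inl g)) (M (Sum.inr f) (Sum.inr g))
  refine ⟨Matrix.of A, ?_⟩
  conv_rhs => rw [← Matrix.fromBlocks_toBlocks M]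
  rw [toBlocks]
  congr 1 <;> ext f g
  exacts [h11 f g, h12 f g, h21 f g, h22 f g]

/-- Symplectic matrices are the images of unitary quaternion matrices. -/
theorem toBlocks_mem_iff (h2 : (2 : F) ≠ 0) (hab : a ^ 2 + b ^ 2 = -1) (A : Matrix ι ι (HQ F)) :
    toBlocks a b A ∈ Matrix.symplecticGroup ι F ↔ A ∈ unitary (Matrix ι ι (HQ F)) := by
  rw [SymplecticGroup.mem_iff, Unitary.mem_iff]
  constructor
  · intro h
    have h1 : toBlocks a b A * toBlocks a b (star A) = 1 := by
      rw [toBlocks_star, ← Matrix.mul_assoc, ← Matrix.mul_assoc, Matrix.mul_neg, Matrix.neg_mul,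
        Matrix.neg_mul, h, Matrix.J_squared, neg_neg]
    refine ⟨toBlocks_injective h2 hab ?_, toBlocks_injective h2 hab ?_⟩
    · rw [toBlocks_mul hab, toBlocks_one]
      exact mul_eq_one_comm.1 h1
    · rw [toBlocks_mul hab, toBlocks_one, h1]
  · rintro ⟨-, h⟩
    have h1 := congrArg (toBlocks a b) h
    rw [toBlocks_mul hab, toBlocks_one, toBlocks_star] at h1
    have h3 := congrArg (· * Matrix.J ι F) h1
    simp only [Matrix.mul_assoc, Matrix.J_squared, Matrix.mul_neg, Matrix.mul_one, Matrix.neg_mul,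
      neg_neg, Matrix.one_mul] at h3
    rwa [Matrix.mul_assoc]

/-- The symplectic group is the quaternionic unitary group. -/
theorem exists_equiv_symplectic [Finite F] (h2 : (2 : F) ≠ 0) :
    Nonempty (SpH ι F ≃* Matrix.symplecticGroup ι F) := by
  obtain ⟨p, hp⟩ := CharP.exists F
  haveI : NeZero p := ⟨(CharP.char_is_prime F p).ne_zero⟩
  obtain ⟨a', b', hab'⟩ := CharP.sq_add_sq F p (-1)
  obtain ⟨a, b, hab⟩ : ∃ a b : F, a ^ 2 + b ^ 2 = -1 := ⟨(a' : F), (b' : F), by rw [hab']; simp⟩
  let φ : SpH ι F →* Matrix.symplecticGroup ι F :=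
    { toFun := fun g => ⟨toBlocks a b (g : Matrix ι ι (HQ F)), (toBlocks_mem_iff h2 hab _).2 g.2⟩
      map_one' := Subtype.ext toBlocks_one
      map_mul' := fun g h => Subtype.ext (toBlocks_mul hab _ _) }
  refine ⟨MulEquiv.ofBijective φ ⟨fun g h e => Subtype.ext (toBlocks_injective h2 hab (congrArg Subtype.val e)), ?_⟩⟩
  rintro ⟨M, hM⟩
  obtain ⟨A, rfl⟩ := toBlocks_surjective h2 hab M
  exact ⟨⟨A, (toBlocks_mem_iff h2 hab A).1 hM⟩, rfl⟩

end H47.PSp
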