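import Cfsg.Agent.H47.PSp.Local
import Cfsg.Agent.H2.FixedGen.Basic
import Cfsg.Agent.S0215

/-!
Groups containing the diagonal quaternion groups, in which commuting conjugates of sign changes form frames,
permute the frame.
-/

set_option autoImplicit false
set_option linter.unusedSectionVars false
set_option linter.unusedSimpArgs false
set_option linter.style.haveILetI false
set_option maxHeartbeats 1000000

namespace H47.PSp

open Matrix Equiv Subgroup
open scoped Quaternion commutatorElement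

variable {F : Type*} [Field F] {ι : Type*} [Fintype ι] [DecidableEq ι]

/-- The hypotheses on a group forced to permute the frame. -/
structure FrameHyp (K : Subgroup (SpH ι F)) : Prop where
  h2 : (2 : F) ≠ 0
  quat : ∀ a, ∀ x ∈ Q8 F, diag (Pi.mulSingle a x) ∈ K
  cover : ∀ a b : ι, a ≠ b → ∃ c, c ≠ a ∧ ∃ φ, sw a c φ ∈ K
  comm : ∀ T : Subgroup (SpH ι F), T ≤ K → IsPGroup 2 T → ∀ k ∈ K, ∀ l ∈ K, ∀ a b : ι,
    k * z a * k⁻¹ ∈ T → l * z b * l⁻¹ ∈ T → Commute (k * z a * k⁻¹) (l * z b * l⁻¹)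

/-- Conjugates of sign changes supported on `A` are sign changes. -/
def CL (K : Subgroup (SpH ι F)) (A : Finset ι) : Prop :=
  ∀ k ∈ K, ∀ a, (∀ c ∉ A, (k : Matrix ι ι (HQ F)) c a = 0) → ∃ d, k * z a * k⁻¹ = z d

variable [Finite F] {K : Subgroup (SpH ι F)}

namespace FrameHyp

variable (H : FrameHyp K)
include H

theorem zB_mem (B : Finset ι) : zB B ∈ K := by
  induction B using Finset.induction_on with
  | empty => rw [zB_empty]; exact one_mem _
  | @insert a B ha ih =>
    have e : (zB (insert a B) : SpH ι F) = zB {a} * zB B := by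
      rw [zB_mul]
      congr 1
      ext c
      simp only [Finset.mem_insert, Finset.mem_symmDiff, Finset.mem_singleton]
      by_cases hc : c = a
      · subst hc; simp [ha]
      · simp [hc]
    rw [e, ← z, ← sq_diag_single a]
    exact mul_mem (mul_mem (H.quat a qi qi_mem_Q8) (H.quat a qi qi_mem_Q8)) ih

theorem signs_le (A : Finset ι) : signs A ≤ K := by
  rintro _ ⟨B, -, rfl⟩
  exact H.zB_mem B

end FrameHyp

section step

variable {A : Finset ι} (H : FrameHyp K) (IH : ∀ B, B ⊂ A → CL K B)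
include H IH

theorem commute_split {k : SpH ι F} (hk : k ∈ K) {a : ι}
    (hs : ∀ c ∉ A, (k : Matrix ι ι (HQ F)) c a = 0) {B : Finset ι} (h1 : ∃ c ∈ A, c ∈ B)
    (h2 : ∃ c ∈ A, c ∉ B) (hc : k * z a * k⁻¹ * zB B = zB B * (k * z a * k⁻¹)) :
    ∃ d, k * z a * k⁻¹ = z d := by
  rcases commute_zB H.h2 k a B hc with h | h
  · refine IH (A \ B) ?_ k hk a fun c hc' => ?_
    · obtain ⟨c, hcA, hcB⟩ := h1
      refine Finset.ssubset_iff_subset_ne.2 ⟨Finset.sdiff_subset, fun e => ?_⟩
      rw [← e] at hcA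
      exact (Finset.mem_sdiff.1 hcA).2 hcB
    · by_cases hcA : c ∈ A
      · exact h c (by simpa [hcA] using hc')
      · exact hs c hcA
  · refine IH (A ∩ B) ?_ k hk a fun c hc' => ?_
    · obtain ⟨c, hcA, hcB⟩ := h2
      refine Finset.ssubset_iff_subset_ne.2 ⟨Finset.inter_subset_left, fun e => ?_⟩
      rw [← e] at hcA
      exact hcB (Finset.mem_inter.1 hcA).2
    · by_cases hcA : c ∈ A
      · exact h c (fun hcB => hc' (Finset.mem_inter.2 ⟨hcA, hcB⟩))
      · exact hs c hcA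

omit IH in
theorem supp_of_mem {g : SpH ι F} (hg : g ∈ Fix A) {a : ι} (ha : a ∈ A) :
    ∀ c ∉ A, (g : Matrix ι ι (HQ F)) c a = 0 := fun c hc => Fix_row hg hc (fun e => hc (e ▸ ha))

omit IH in
theorem conj_z_outside {g : SpH ι F} (hg : g ∈ Fix A) {b : ι} (hb : b ∉ A) : g * z b * g⁻¹ = z b :=
  conj_z_eq_z_of_single g b b fun c hc => by rw [hg b hb c, if_neg hc]

omit IH in
theorem dest_mem {g : SpH ι F} (hg : g ∈ Fix A) {a d : ι} (ha : a ∈ A) (h : g * z a * g⁻¹ = z d) : d ∈ A := by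
  by_contra hd
  have hn := col_norm g a a
  rw [if_pos rfl, Finset.sum_eq_zero (fun c _ => ?_)] at hn
  · exact zero_ne_one hn
  · by_cases hc : c = d
    · subst hc; rw [supp_of_mem H hg ha c hd, mul_zero]
    · rw [single_of_conj_z_eq_z H.h2 g a d h c hc, mul_zero]

theorem mem_Mon_of_one {g : SpH ι F} (hg : g ∈ K ⊓ Fix A) (hA : 2 ≤ A.card) {a d : ι} (ha : a ∈ A)
    (h : g * z a * g⁻¹ = z d) : g ∈ Mon ι F := by
  have hd := dest_mem H hg.2 ha h
  obtain ⟨e, he, hed⟩ := Finset.exists_mem_ne (by omega : 1 < A.card) d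
  refine mem_Mon_of_conj H.h2 fun l => ?_
  by_cases hl : l ∈ A
  · refine commute_split H IH hg.1 (supp_of_mem H hg.2 hl) (B := {d}) ⟨d, hd, Finset.mem_singleton_self _⟩
      ⟨e, he, by simpa using hed⟩ ?_
    show g * z l * g⁻¹ * z d = z d * (g * z l * g⁻¹)
    rw [← h]
    have : z l * z a = (z a * z l : SpH ι F) := by
      rw [z, z, zB_mul, zB_mul, symmDiff_comm]
    simp only [mul_assoc, inv_mul_cancel_left]
    rw [← mul_assoc (z l) (z a), this, mul_assoc]
  · exact ⟨l, conj_z_outside H hg.2 hl⟩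

theorem mem_Mon_of_commute {g : SpH ι F} (hg : g ∈ K ⊓ Fix A) {B : Finset ι} (h1 : ∃ c ∈ A, c ∈ B)
    (h2 : ∃ c ∈ A, c ∉ B) (hc : g * zB B = zB B * g) : g ∈ Mon ι F := by
  refine mem_Mon_of_conj H.h2 fun l => ?_
  by_cases hl : l ∈ A
  · refine commute_split H IH hg.1 (supp_of_mem H hg.2 hl) h1 h2 ?_
    have hc' : g⁻¹ * zB B = zB B * g⁻¹ := ((show Commute g (zB B) from hc).inv_left).eq
    have hz : z l * zB B = (zB B * z l : SpH ι F) := by rw [z, zB_mul, zB_mul, symmDiff_comm]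
    rw [mul_assoc _ g⁻¹, hc', ← mul_assoc, mul_assoc g (z l), hz, ← mul_assoc g, hc]
    simp [mul_assoc]
  · exact ⟨l, conj_z_outside H hg.2 hl⟩

omit IH in
theorem mem_KA_conj {k : SpH ι F} (hk : k ∈ K) {a : ι} (hs : ∀ c ∉ A, (k : Matrix ι ι (HQ F)) c a = 0) :
    k * z a * k⁻¹ ∈ K ⊓ Fix A := by
  refine ⟨K.mul_mem (K.mul_mem hk (H.zB_mem _)) (K.inv_mem hk), fun b hb c => ?_⟩
  rw [conj_z_apply, hs b hb, star_zero, mul_zero, mul_zero, sub_zero]

omit IH in
theorem Fix_mul_supp {g k : SpH ι F} (hg : g ∈ Fix A) {a : ι}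
    (hs : ∀ c ∉ A, (k : Matrix ι ι (HQ F)) c a = 0) :
    ∀ c ∉ A, ((g * k : SpH ι F) : Matrix ι ι (HQ F)) c a = 0 := by
  intro c hc
  rw [mul_apply']
  refine Finset.sum_eq_zero fun e _ => ?_
  by_cases he : e ∈ A
  · rw [Fix_row hg hc (fun h => hc (h ▸ he)), zero_mul]
  · rw [hs e he, mul_zero]

/-- The group of signs extends to a Sylow subgroup consisting of monomial elements. -/
theorem two_group_le_Mon (hA : 2 ≤ A.card) {T : Subgroup (SpH ι F)} (hT : IsPGroup 2 T)
    (hTK : T ≤ K ⊓ Fix A) {c : ι} (hc : c ∈ A) (hcT : z c ∈ T) : T ≤ Mon ι F := by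
  intro g hg
  have hgK := hTK hg
  have hm : g * z c * g⁻¹ ∈ T := mul_mem (mul_mem hg hcT) (inv_mem hg)
  have hcomm := H.comm T (hTK.trans inf_le_left) hT g hgK.1 1 (one_mem _) c c hm (by simpa using hcT)
  rw [one_mul, inv_one, mul_one] at hcomm
  obtain ⟨e, he, hec⟩ := Finset.exists_mem_ne (by omega : 1 < A.card) c
  obtain ⟨d, hd⟩ := commute_split H IH hgK.1 (supp_of_mem H hgK.2 hc) (B := {c})
    ⟨c, hc, Finset.mem_singleton_self _⟩ ⟨e, he, by simpa using hec⟩ hcomm.eq
  exact mem_Mon_of_one H IH hgK hA hc hd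

omit IH in
theorem zA_comm {g : SpH ι F} (hg : g ∈ K ⊓ Fix A) : zB A * g = g * zB A := by
  refine SpH.ext fun e f => ?_
  rw [mul_apply', mul_apply', Finset.sum_eq_single e (fun x _ hx => by rw [zB_apply, if_neg (Ne.symm hx), zero_mul]) (by simp),
    Finset.sum_eq_single f (fun x _ hx => by rw [zB_apply, if_neg hx, mul_zero]) (by simp),
    zB_apply, zB_apply, if_pos rfl, if_pos rfl]
  by_cases he : e ∈ A <;> by_cases hf : f ∈ A
  · rw [if_pos he, if_pos hf, neg_one_mul, mul_neg_one]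
  · rw [hg.2 f hf e, if_neg (fun h : e = f => hf (h ▸ he))]; simp
  · rw [Fix_row hg.2 he (fun h => he (h ▸ hf))]; simp
  · rw [if_neg he, if_neg hf, one_mul, mul_one]

omit IH in
/-- The two-coordinate core, pulled back. -/
theorem two_pullback {a b : ι} (hab : a ≠ b) (hAab : A = {a, b}) {O : Subgroup (SpH ι F)}
    (hOK : O ≤ K ⊓ Fix A) (hOodd : Odd (Nat.card O))
    (hOn : K ⊓ Fix A ≤ normalizer (O : Set (SpH ι F))) : ∀ x ∈ O, x * z a = z a * x := by
  classical
  have haA : a ∈ A := by rw [hAab]; simp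
  have hbA : b ∈ A := by rw [hAab]; simp
  have hcc : ∀ x, x ∈ K ⊓ Fix A → zB A * x = x * zB A := fun x hx => zA_comm H hx
  set KA := K ⊓ Fix A
  let T : Matrix ι (Fin 2) (HQ F) := Matrix.of fun e j => if e = ![a, b] j then 1 else 0
  have Te : ∀ e j, T e j = if e = ![a, b] j then 1 else 0 := fun _ _ => rfl
  have hT : Tᴴ * T = 1 := by
    ext j l : 1
    rw [Matrix.mul_apply, Finset.sum_eq_single (![a, b] j)]
    · simp only [Te, Matrix.conjTranspose_apply, if_true, star_one, one_mul, Matrix.one_apply]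
      fin_cases j <;> fin_cases l <;> simp [hab, hab.symm]
    · intro e _ he
      simp [Te, Matrix.conjTranspose_apply, he]
    · simp
  have hTl : ∀ (g : Matrix ι ι (HQ F)) e j, (g * T) e j = g e (![a, b] j) := by
    intro g e j
    rw [Matrix.mul_apply, Finset.sum_eq_single (![a, b] j)]
    · simp [Te]
    · intro x _ hx; simp [Te, hx]
    · simp
  have hTh : ∀ (v : Matrix ι (Fin 2) (HQ F)) j l, (Tᴴ * v) j l = v (![a, b] j) l := by
    intro v j l
    rw [Matrix.mul_apply, Finset.sum_eq_single (![a, b] j)]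
    · simp [Te, Matrix.conjTranspose_apply]
    · intro x _ hx; simp [Te, Matrix.conjTranspose_apply, hx]
    · simp
  have hX : ∀ g ∈ KA, T * (Tᴴ * ((g : Matrix ι ι (HQ F)) * T)) = (g : Matrix ι ι (HQ F)) * T := by
    intro g hg
    ext e j : 1
    rw [Matrix.mul_apply, Fin.sum_univ_two, hTh, hTh, hTl, hTl, hTl]
    by_cases he : e ∈ A
    · rw [hAab, Finset.mem_insert, Finset.mem_singleton] at he
      rcases he with rfl | rfl <;> simp [Te, hab, hab.symm]
    · have hea : e ≠ a := fun h => he (h ▸ haA)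
      have heb : e ≠ b := fun h => he (h ▸ hbA)
      have : ![a, b] j ∈ A := by fin_cases j <;> simp [haA, hbA]
      rw [supp_of_mem H hg.2 this e he]
      simp [Te, hea, heb]
  set φ := compress T hT KA hX
  have hφ : ∀ (g : KA) j l, (φ g : Matrix (Fin 2) (Fin 2) (HQ F)) j l =
      ((g : SpH ι F) : Matrix ι ι (HQ F)) (![a, b] j) (![a, b] l) := by
    intro g j l
    rw [compress_apply, Matrix.mul_assoc, hTh, hTl]
  set OX := O.subgroupOf KA
  have hcore := two_core H.h2 (N := OX.map φ) (hOodd.of_dvd_nat (by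
    refine (Subgroup.card_map_dvd _ _).trans ?_
    rw [Nat.card_congr (subgroupOfEquivOfLe hOK).toEquiv])) (by
    intro d hd
    have hq : diag (Pi.mulSingle a (d 0)) * diag (Pi.mulSingle b (d 1)) ∈ KA :=
      ⟨mul_mem (H.quat a _ (hd 0)) (H.quat b _ (hd 1)),
        mul_mem (diag_single_mem_Fix haA _) (diag_single_mem_Fix hbA _)⟩
    set q : KA := ⟨_, hq⟩
    have hqd : φ q = diag d := by
      refine SpH.ext fun j l => ?_
      rw [hφ, diag_apply]
      show ((diag (Pi.mulSingle a (d 0)) * diag (Pi.mulSingle b (d 1)) : SpH ι F) : Matrix ι ι (HQ F)) _ _ = _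
      rw [← map_mul, diag_apply]
      fin_cases j <;> fin_cases l <;> simp [hab, hab.symm]
    rw [← hqd]
    have hqn : q ∈ normalizer (OX : Set KA) := by
      have hn := hOn q.2
      rw [mem_normalizer_iff] at hn ⊢
      intro x
      exact hn x
    exact le_normalizer_map φ ⟨q, hqn, rfl⟩)
  intro x hx
  have h := hcore _ ⟨⟨x, hOK hx⟩, hx, rfl⟩
  have h01 := upper_zero_of_commute H.h2 h
  rw [hφ] at h01
  simp only [Matrix.cons_val_zero, Matrix.cons_val_one, Matrix.head_cons] at h01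
  have hxb : ∀ e, e ≠ b → (x : Matrix ι ι (HQ F)) e b = 0 := by
    intro e he
    by_cases heA : e ∈ A
    · rw [hAab, Finset.mem_insert, Finset.mem_singleton] at heA
      rcases heA with rfl | rfl
      exacts [h01, absurd rfl he]
    · exact supp_of_mem H (hOK hx).2 hbA e heA
  have hbb := conj_z_eq_z_of_single x b b hxb
  have e : (z a : SpH ι F) = zB A * z b := by
    rw [z, z, zB_mul]
    congr 1
    ext y
    rw [hAab]
    simp only [Finset.mem_symmDiff, Finset.mem_insert, Finset.mem_singleton]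
    by_cases hy : y = b
    · subst hy; simp [hab.symm]
    · simp [hy]
  have h1 : x * z b = z b * x := mul_inv_eq_iff_eq_mul.1 hbb
  have h3 : zB A * x = x * zB A := hcc x (hOK hx)
  rw [e, ← mul_assoc, ← h3, mul_assoc, h1, mul_assoc]

/-- Two coordinates. -/
theorem two_case (hA : A.card = 2) : CL K A := by
  classical
  haveI : Fact (Nat.Prime 2) := ⟨Nat.prime_two⟩
  obtain ⟨a, b, hab, hAab⟩ := Finset.card_eq_two.1 hA
  have haA : a ∈ A := by rw [hAab]; simp
  have hbA : b ∈ A := by rw [hAab]; simp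
  set KA := K ⊓ Fix A
  have hsK : signs A ≤ KA := le_inf (H.signs_le A) fun g ⟨B, hB, e⟩ => e ▸ zB_mem_Fix hB
  set t : KA := ⟨z a, hsK ⟨{a}, by simpa using haA, rfl⟩⟩
  set c : KA := ⟨zB A, hsK ⟨A, subset_rfl, rfl⟩⟩
  have hc2 : c * c = 1 := Subtype.ext (zB_sq A)
  have hcc : ∀ g : KA, c * g = g * c := fun g => Subtype.ext (zA_comm H g.2)
  have hzne : ∀ B : Finset ι, B.Nonempty → (zB B : SpH ι F) ≠ 1 := by
    rintro B ⟨x, hx⟩ h
    rw [zB, ← map_one (diag (F := F) (ι := ι))] at h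
    have := congrFun (diag_injective h) x
    rw [if_pos hx] at this
    exact negOne_ne_one H.h2 this
  have hc1 : c ≠ 1 := fun h => hzne A ⟨a, haA⟩ (congrArg Subtype.val h)
  obtain ⟨P, hP⟩ := ((isPGroup_signs A).comap_subtype (K := KA)).exists_le_sylow
  have hcP : c ∈ (P : Subgroup KA) := hP (show (c : SpH ι F) ∈ signs A from ⟨A, subset_rfl, rfl⟩)
  have htP : t ∈ (P : Subgroup KA) := hP (show (t : SpH ι F) ∈ signs A from ⟨{a}, by simpa using haA, rfl⟩)
  -- isolation modulo the centre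
  have hiso : ∀ g : KA, g * t * g⁻¹ ∈ (P : Subgroup KA) → g * t * g⁻¹ = t ∨ g * t * g⁻¹ = c * t := by
    intro g hg
    set T := (P : Subgroup KA).map KA.subtype
    have hT : IsPGroup 2 T := P.2.map _
    have hMon := two_group_le_Mon H IH (by omega) hT (map_subtype_le _) haA ⟨t, htP, rfl⟩
    have hm : (g : SpH ι F) * z a * (g : SpH ι F)⁻¹ ∈ T := ⟨_, hg, rfl⟩
    obtain ⟨π, d, hd⟩ := hMon hm
    have hcomm := H.comm T ((map_subtype_le _).trans inf_le_left) hT g g.2.1 1 (one_mem _) a a hm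
      (by rw [one_mul, inv_one, mul_one]; exact (⟨t, htP, rfl⟩ : z a ∈ T))
    rw [one_mul, inv_one, mul_one] at hcomm
    obtain ⟨e, he⟩ := commute_split H IH g.2.1 (supp_of_mem H g.2.2 haA) (B := {a})
      ⟨a, haA, Finset.mem_singleton_self _⟩ ⟨b, hbA, by simpa using hab.symm⟩ hcomm.eq
    have heA := dest_mem H g.2.2 haA he
    rw [hAab, Finset.mem_insert, Finset.mem_singleton] at heA
    rcases heA with rfl | rfl
    · exact Or.inl (Subtype.ext he)
    · refine Or.inr (Subtype.ext (he.trans ?_))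
      show z e = zB A * z a
      rw [z, z, zB_mul]
      congr 1
      ext x
      rw [hAab]
      simp only [Finset.mem_symmDiff, Finset.mem_insert, Finset.mem_singleton]
      by_cases hx : x = a
      · subst hx; simp [hab]
      · simp [hx]
  set Z : Subgroup KA := zpowers c
  haveI : Z.Normal := ⟨fun x hx g => by
    obtain ⟨k, rfl⟩ := hx
    have : Commute g c := (hcc g).symm
    rw [(this.zpow_right k).eq, mul_inv_cancel_right]
    exact ⟨k, rfl⟩⟩
  set f := QuotientGroup.mk' Z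
  have hf := QuotientGroup.mk'_surjective Z
  have hZmem : ∀ x : KA, x ∈ Z → x = 1 ∨ x = c := by
    rintro x ⟨i, rfl⟩
    have hc2' : c ^ (2 : ℤ) = 1 := by rw [zpow_two, hc2]
    rcases Int.even_or_odd' i with ⟨j, rfl | rfl⟩
    · left; show c ^ (2 * j) = 1; rw [_root_.zpow_mul, hc2', _root_.one_zpow]
    · right; show c ^ (2 * j + 1) = c; rw [_root_.zpow_add, _root_.zpow_mul, hc2', _root_.one_zpow, one_mul, zpow_one]
  have ht2 : t * t = 1 := Subtype.ext (z_sq a)
  have hft : orderOf (f t) = 2 := by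
    refine orderOf_eq_prime (by rw [pow_two, ← map_mul, ht2, map_one]) fun h => ?_
    rcases hZmem t ((QuotientGroup.eq_one_iff t).1 h) with e | e
    · exact hzne {a} ⟨a, Finset.mem_singleton_self a⟩ (congrArg Subtype.val e)
    · have e' : (z a : SpH ι F) = zB A := congrArg Subtype.val e
      rw [z, zB, zB] at e'
      have := congrFun (diag_injective e') b
      rw [if_neg (by simpa using hab.symm), if_pos hbA] at this
      exact negOne_ne_one H.h2 this.symm
  obtain ⟨N, hNn, hNodd, hN⟩ := Cfsg.Agent.S0215.result (P.mapSurjective hf) (f t) hft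
    ⟨t, htP, rfl⟩ (by
      intro g hg
      obtain ⟨g, rfl⟩ := hf g
      rw [← map_inv, ← map_mul, ← map_mul] at hg ⊢
      obtain ⟨x, hx, hxe⟩ := hg
      have hxe' : x⁻¹ * (g * t * g⁻¹) ∈ Z := QuotientGroup.eq.1 hxe
      have hmem : g * t * g⁻¹ ∈ (P : Subgroup KA) := by
        have : x * (x⁻¹ * (g * t * g⁻¹)) ∈ (P : Subgroup KA) := by
          rcases hZmem _ hxe' with e | e <;> rw [e]
          · rw [mul_one]; exact hx
          · exact mul_mem hx hcP
        simpa using this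
      rcases hiso g hmem with e | e <;> rw [e]
      rw [map_mul f c t, show f c = 1 from (QuotientGroup.eq_one_iff c).2 (mem_zpowers c), one_mul])
  set M := (N.comap f).map KA.subtype with hMdef
  have hcard : ∃ o, Odd o ∧ Nat.card M = 2 * o := by
    refine ⟨Nat.card N, hNodd, ?_⟩
    rw [hMdef, card_map_of_injective KA.subtype_injective]
    have e1 : Nat.card (N.comap f) * N.index = Nat.card (KA ⧸ Z) * Nat.card Z := by
      rw [← index_comap_of_surjective N hf, Subgroup.card_mul_index]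
      exact Subgroup.card_eq_card_quotient_mul_card_subgroup Z
    rw [← N.card_mul_index, Nat.card_zpowers, orderOf_eq_prime (by rw [pow_two]; exact hc2) hc1] at e1
    have : 0 < N.index := Nat.pos_of_ne_zero Subgroup.index_ne_zero_of_finite
    nlinarith
  have hcM : (c : SpH ι F) ∈ M := ⟨c, show f c ∈ N by
    rw [show f c = 1 from (QuotientGroup.eq_one_iff c).2 (mem_zpowers c)]; exact one_mem _, rfl⟩
  obtain ⟨O, hOM, hOodd, hO, hsplit⟩ := exists_oddPart hcM (congrArg Subtype.val hc2)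
    (fun h => hc1 (Subtype.ext h)) (fun x hx => by
      obtain ⟨y, -, rfl⟩ := hx
      exact congrArg Subtype.val (hcc y)) hcard
  have hMn : ∀ g ∈ KA, g ∈ normalizer (M : Set (SpH ι F)) := by
    refine fun g hg => H8.le_normalizer_of_conj_mem (A := KA) (fun g hg x hx => ?_) hg
    obtain ⟨y, hy, rfl⟩ := hx
    refine ⟨(⟨g, hg⟩ : KA) * y * (⟨g, hg⟩ : KA)⁻¹, ?_, by simp only [map_mul, map_inv, Subgroup.coe_subtype]⟩
    rw [SetLike.mem_coe, Subgroup.mem_comap] at hy
    rw [SetLike.mem_coe, Subgroup.mem_comap, map_mul, map_mul, map_inv]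
    exact hNn.conj_mem _ hy _
  have hOK : O ≤ KA := hOM.trans (map_subtype_le _)
  have hOcomm : ∀ x ∈ O, x * z a = z a * x :=
    two_pullback H hab hAab hOK hOodd fun g hg => mem_normalizer_oddPart hO (hMn g hg)
  have hMcomm : ∀ x ∈ M, x * z a = z a * x := by
    intro x hx
    rcases hsplit x hx with h | h
    · exact hOcomm x h
    · have hcz : (c : SpH ι F) * z a = z a * (c : SpH ι F) := (congrArg Subtype.val (hcc t) :)
      have h' : (c : SpH ι F) * (x * z a) = (c : SpH ι F) * (z a * x) := by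
        rw [← mul_assoc, hOcomm _ h, ← mul_assoc, ← hcz, mul_assoc]
      exact mul_left_cancel h'
  have hall : ∀ g ∈ KA, g ∈ Mon ι F := by
    intro g hg
    have hm : z a * g * (z a)⁻¹ * g⁻¹ ∈ M := by
      refine ⟨t * ⟨g, hg⟩ * t⁻¹ * (⟨g, hg⟩ : KA)⁻¹, ?_, ?_⟩
      · rw [SetLike.mem_coe, Subgroup.mem_comap, map_mul, map_mul, map_mul, map_inv, map_inv]
        exact hN (f ⟨g, hg⟩)
      · rw [map_mul, map_mul, map_mul, map_inv, map_inv]
        rfl
    have h' := hMcomm _ hm
    rw [z_inv] at h'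
    have hc' : g * z a * g⁻¹ * z a = z a * (g * z a * g⁻¹) := by
      have e : z a * (z a * g * z a * g⁻¹ * z a) = z a * (z a * (z a * g * z a * g⁻¹)) := by rw [h']
      simp only [← mul_assoc, z_sq, one_mul] at e
      simpa only [mul_assoc] using e
    obtain ⟨d, hd⟩ := commute_split H IH hg.1 (supp_of_mem H hg.2 haA) (B := {a})
      ⟨a, haA, Finset.mem_singleton_self _⟩ ⟨b, hbA, by simpa using hab.symm⟩ hc'
    exact mem_Mon_of_one H IH hg (by omega) haA hd
  intro k hk e hs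
  set y : KA := ⟨_, mem_KA_conj H hk hs⟩
  have hy2 : IsPGroup 2 (zpowers y) := by
    rintro ⟨_, i, rfl⟩
    refine ⟨1, Subtype.ext ?_⟩
    show (y ^ i) ^ 2 ^ 1 = 1
    rw [pow_one, ← zpow_natCast, ← _root_.zpow_mul, mul_comm, _root_.zpow_mul, zpow_natCast, pow_two,
      show y * y = 1 from Subtype.ext (by
        show k * z e * k⁻¹ * (k * z e * k⁻¹) = 1
        simp [mul_assoc, ← mul_assoc (z e) (z e), z_sq]), _root_.one_zpow]
  obtain ⟨Q, hQ⟩ := hy2.exists_le_sylow
  obtain ⟨g, hg⟩ := MulAction.exists_smul_eq KA Q P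
  have hgy : g * y * g⁻¹ ∈ (P : Subgroup KA) := by
    rw [← hg, Sylow.coe_subgroup_smul]
    exact ⟨y, hQ (mem_zpowers y), rfl⟩
  set T' := (P : Subgroup KA).map KA.subtype
  have hT' : IsPGroup 2 T' := P.2.map _
  have hm : ((g : SpH ι F) * k) * z e * ((g : SpH ι F) * k)⁻¹ ∈ T' := by
    refine ⟨_, hgy, ?_⟩
    show (g : SpH ι F) * (k * z e * k⁻¹) * (g : SpH ι F)⁻¹ = _
    simp [mul_assoc]
  have hcomm := H.comm T' ((map_subtype_le _).trans inf_le_left) hT' _ (mul_mem g.2.1 hk) 1 (one_mem _)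
    e a hm (by rw [one_mul, inv_one, mul_one]; exact (⟨t, htP, rfl⟩ : z a ∈ T'))
  rw [one_mul, inv_one, mul_one] at hcomm
  obtain ⟨d, hd⟩ := commute_split H IH (mul_mem g.2.1 hk) (Fix_mul_supp H g.2.2 hs) (B := {a})
    ⟨a, haA, Finset.mem_singleton_self _⟩ ⟨b, hbA, by simpa using hab.symm⟩ hcomm.eq
  obtain ⟨π, δ, hπ⟩ := (Mon ι F).inv_mem (hall (g : SpH ι F) g.2)
  refine ⟨π d, ?_⟩
  rw [← mon_conj_z π δ d, ← hπ, ← hd]
  simp [mul_assoc]

end step

end H47.PSp
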