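import Cfsg.Agent.H47.PSp.CL

/-!
Three or more coordinates, and the induction.
-/

set_option autoImplicit false
set_option linter.unusedSectionVars false
set_option linter.unusedSimpArgs false
set_option linter.style.haveILetI false
set_option maxHeartbeats 8000000

namespace H47.PSp

open Matrix Equiv Subgroup
open scoped Quaternion

variable {F : Type*} [Field F] {ι : Type*} [Fintype ι] [DecidableEq ι] [Finite F]
  {K : Subgroup (SpH ι F)}

section step

variable {A : Finset ι} (H : FrameHyp K) (IH : ∀ B, B ⊂ A → CL K B) (hA : 3 ≤ A.card)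
include H IH hA

omit IH in
theorem exists_third {a b : ι} : ∃ c ∈ A, c ≠ a ∧ c ≠ b := by
  by_contra h
  push Not at h
  have hsub : A ⊆ {a, b} := fun c hc => by
    rw [Finset.mem_insert, Finset.mem_singleton]
    by_cases hca : c = a
    · exact Or.inl hca
    · exact Or.inr (h c hc hca)
  have := (Finset.card_le_card hsub).trans Finset.card_le_two
  omega

theorem conj_sign {k : SpH ι F} (hk : k ∈ K) {e : ι} (hs : ∀ c ∉ A, (k : Matrix ι ι (HQ F)) c e = 0)
    {i : ι} (hi : i ∈ A) :
    (∃ d, k * z e * k⁻¹ = z d) ∨ ∃ g ∈ K ⊓ Fix A, k * z e * k⁻¹ = g * z i * g⁻¹ := by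
  haveI : Fact (Nat.Prime 2) := ⟨Nat.prime_two⟩
  set KA := K ⊓ Fix A
  have hyK := mem_KA_conj H hk hs
  obtain ⟨y, hydef⟩ : ∃ y, y = k * z e * k⁻¹ := ⟨_, rfl⟩
  rw [← hydef] at hyK ⊢
  have hy2 : y * y = 1 := by
    rw [hydef]
    simp [mul_assoc, ← mul_assoc (z e) (z e), z_sq]
  have hzK : z i ∈ KA := ⟨H.zB_mem _, zB_mem_Fix (by simpa using hi)⟩
  obtain ⟨m, r, hr, hmr⟩ := Nat.exists_eq_two_pow_mul_odd (orderOf_pos (z i * y)).ne'
  set h' := (z i * y) ^ r with hh'
  have hzconj : z i * (z i * y) * z i = (z i * y)⁻¹ := by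
    rw [← mul_assoc, z_sq, one_mul, _root_.mul_inv_rev, z_inv, inv_eq_of_mul_eq_one_right hy2]
  have hzc' : z i * h' * z i = h'⁻¹ := by
    have e1 : z i * h' * z i = z i * h' * (z i)⁻¹ := by rw [z_inv]
    rw [e1, hh', ← conj_pow, z_inv, hzconj, inv_pow]
  have hT1 : IsPGroup 2 (zpowers h') := by
    rintro ⟨_, j, rfl⟩
    refine ⟨m, Subtype.ext ?_⟩
    show (h' ^ j) ^ 2 ^ m = 1
    rw [← zpow_natCast, ← _root_.zpow_mul, mul_comm, _root_.zpow_mul, zpow_natCast, hh', ← pow_mul,
      mul_comm r, ← hmr, pow_orderOf_eq_one, _root_.one_zpow]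
  have hT2 : IsPGroup 2 (zpowers (z i : SpH ι F)) := by
    rintro ⟨_, j, rfl⟩
    refine ⟨1, Subtype.ext ?_⟩
    show ((z i : SpH ι F) ^ j) ^ 2 ^ 1 = 1
    rw [pow_one, ← zpow_natCast, ← _root_.zpow_mul, mul_comm, _root_.zpow_mul, zpow_natCast, pow_two,
      z_sq, _root_.one_zpow]
  have hnorm : zpowers (z i : SpH ι F) ≤ normalizer (zpowers h' : Set (SpH ι F)) := by
    rw [zpowers_le, mem_normalizer_iff_map_conj_eq, MonoidHom.map_zpowers]
    show zpowers (z i * h' * (z i)⁻¹) = zpowers h'
    rw [z_inv, hzc', zpowers_inv]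
  set T := zpowers (z i : SpH ι F) ⊔ zpowers h'
  have hT : IsPGroup 2 T := hT2.to_sup_of_normal_right' hT1 hnorm
  have hzT : z i ∈ T := mem_sup_left (mem_zpowers _)
  have hhT : h' ∈ T := mem_sup_right (mem_zpowers _)
  have hhK : h' ∈ KA := pow_mem (mul_mem hzK hyK) r
  have hTK : T ≤ KA := sup_le (zpowers_le.2 hzK) (zpowers_le.2 hhK)
  obtain ⟨g, hg, hgy⟩ := exists_conj_dihedral (K := KA) hzK hyK (z_sq i) hy2 hr
  have hgk : g * y * g⁻¹ = (g * k) * z e * (g * k)⁻¹ := by rw [hydef]; simp [mul_assoc]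
  have hyT : (g * k) * z e * (g * k)⁻¹ ∈ T := by
    rw [← hgk, ← hgy]; exact mul_mem hzT hhT
  have hcomm := H.comm T (hTK.trans inf_le_left) hT _ (K.mul_mem hg.1 hk) 1 K.one_mem e i hyT
    (by rw [one_mul, inv_one, mul_one]; exact hzT)
  rw [one_mul, inv_one, mul_one] at hcomm
  obtain ⟨c, hcA, hci, -⟩ := exists_third (A := A) H hA (a := i) (b := i)
  obtain ⟨j, hj⟩ := commute_split H IH (K.mul_mem hg.1 hk) (Fix_mul_supp H hg.2 hs) (B := {i})
    ⟨i, hi, Finset.mem_singleton_self _⟩ ⟨c, hcA, by simpa using hci⟩ hcomm.eq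
  have hj' : z i * h' = z j := by rw [hgy, hgk, hj]
  by_cases hji : j = i
  · subst hji
    refine Or.inr ⟨g⁻¹, inv_mem hg, ?_⟩
    rw [← hj, ← hgk]
    simp [mul_assoc]
  · refine Or.inl ?_
    have hh : h' = zB {i, j} := by
      rw [eq_inv_mul_iff_mul_eq.2 hj', z_inv, z, z, zB_mul]
      congr 1
      ext x
      simp only [Finset.mem_symmDiff, Finset.mem_insert, Finset.mem_singleton]
      by_cases hx : x = i
      · subst hx; simp [Ne.symm hji]
      · simp [hx]
    have hyc : y * h' = h' * y := by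
      have e1 : y * h' * y = h'⁻¹ := by
        have hyconj : y * (z i * y) * y = (z i * y)⁻¹ := by
          rw [mul_assoc, mul_assoc, hy2, mul_one, _root_.mul_inv_rev, z_inv,
            inv_eq_of_mul_eq_one_right hy2]
        have e2 : y * h' * y = y * h' * y⁻¹ := by rw [inv_eq_of_mul_eq_one_right hy2]
        rw [e2, hh', ← conj_pow, inv_eq_of_mul_eq_one_right hy2, hyconj, inv_pow]
      have hinv : h'⁻¹ = h' := by rw [hh, zB_inv]
      rw [hinv] at e1
      calc y * h' = y * h' * y * y := by rw [mul_assoc _ y y, hy2, mul_one]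
        _ = h' * y := by rw [e1]
    obtain ⟨c', hc'A, hc'i, hc'j⟩ := exists_third (A := A) H hA (a := i) (b := j)
    rw [hydef] at hyc ⊢
    exact commute_split H IH hk hs (B := {i, j}) ⟨i, hi, by simp⟩ ⟨c', hc'A, by simp [hc'i, hc'j]⟩
      (by rw [← hh]; exact hyc)

theorem exists_transition {k : SpH ι F} (hk : k ∈ K) {e : ι}
    (hs : ∀ c ∉ A, (k : Matrix ι ι (HQ F)) c e = 0) (hne : ¬ ∃ d, k * z e * k⁻¹ = z d)
    {i j : ι} (hi : i ∈ A) (hj : j ∈ A) :
    ∃ π d, mon π d ∈ K ⊓ Fix A ∧ π i = j := by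
  obtain ⟨g, hg, hge⟩ := (conj_sign H IH hA hk hs hi).resolve_left hne
  obtain ⟨g', hg', hge'⟩ := (conj_sign H IH hA hk hs hj).resolve_left hne
  have h : g'⁻¹ * g * z i * (g'⁻¹ * g)⁻¹ = z j := by
    rw [show g'⁻¹ * g * z i * (g'⁻¹ * g)⁻¹ = g'⁻¹ * (g * z i * g⁻¹) * g' by simp [mul_assoc], ← hge, hge']
    simp [mul_assoc]
  have hm : g'⁻¹ * g ∈ K ⊓ Fix A := mul_mem (inv_mem hg') hg
  obtain ⟨π, d, hπ⟩ := mem_Mon_of_one H IH hm (by omega) hi h
  refine ⟨π, d, hπ ▸ hm, ?_⟩
  rw [hπ, mon_conj_z] at h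
  by_contra hne'
  have h' := congrArg (fun g : SpH ι F => (g : Matrix ι ι (HQ F)) (π i) (π i)) h
  simp only [z_apply, if_true] at h'
  rw [if_neg hne'] at h'
  exact negOne_ne_one H.h2 (Subtype.ext h')

theorem exists_transposition {k : SpH ι F} (hk : k ∈ K) {e : ι}
    (hs : ∀ c ∉ A, (k : Matrix ι ι (HQ F)) c e = 0) (hne : ¬ ∃ d, k * z e * k⁻¹ = z d) :
    ∃ a ∈ A, ∃ b ∈ A, a ≠ b ∧ ∃ φ, sw a b φ ∈ K := by
  obtain ⟨a, ha⟩ : A.Nonempty := Finset.card_pos.1 (by omega)
  obtain ⟨c, hc, hca, -⟩ := exists_third (A := A) H hA (a := a) (b := a)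
  obtain ⟨p, hpa, φ, hφ⟩ := H.cover a c (Ne.symm hca)
  by_cases hp : p ∈ A
  · exact ⟨a, ha, p, hp, Ne.symm hpa, φ, hφ⟩
  obtain ⟨π, d, hπK, hπ⟩ := exists_transition H IH hA hk hs hne ha hc
  obtain ⟨hπp, -⟩ := mon_mem_Fix.1 hπK.2 p hp
  have hcp : c ≠ p := fun h => hp (h ▸ hc)
  have hap : a ≠ p := Ne.symm hpa
  have h1 : sw c p (d p * φ * (d a)⁻¹) ∈ K := by
    have := K.mul_mem (K.mul_mem hπK.1 hφ) (K.inv_mem hπK.1)
    rwa [mon_conj_sw hap, hπ, hπp] at this
  have h2 := K.mul_mem (K.mul_mem h1 hφ) (K.inv_mem h1)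
  set ψ := d p * φ * (d a)⁻¹
  have e : ∀ δ : ι → SL1 F, mon (swap c p) δ * sw a p φ * (mon (swap c p) δ)⁻¹ =
      sw a c (δ p * φ * (δ a)⁻¹) := fun δ => by
    rw [mon_conj_sw hap, swap_apply_of_ne_of_ne (Ne.symm hca) hap, swap_apply_right]
  have e' : sw c p ψ = mon (swap c p) (fun x => if x = c then ψ else if x = p then ψ⁻¹ else 1) := rfl
  rw [e', e] at h2
  exact ⟨a, ha, c, hc, Ne.symm hca, _, h2⟩

variable {a b : ι} (ha : a ∈ A) (hb : b ∈ A) (hab : a ≠ b)
include ha hb hab

omit H IH hA ha hb hab in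
theorem perm_pair {π : Perm ι} {d : ι → SL1 F} {φ : SL1 F} (hab : a ≠ b)
    (h : mon π d * sw a b φ = sw a b φ * mon π d) :
    (π a = a ∧ π b = b) ∨ (π a = b ∧ π b = a) :=
  (commute_sw_mon hab h).imp (fun h => ⟨h.1, h.2.1⟩) (fun h => ⟨h.1, h.2.1⟩)

omit IH hA hb hab in
theorem image_rest {π : Perm ι} {d : ι → SL1 F} (hfix : mon π d ∈ Fix A)
    (h : (π a = a ∧ π b = b) ∨ (π a = b ∧ π b = a)) :
    (A.filter fun c => c ≠ a ∧ c ≠ b).image π = A.filter fun c => c ≠ a ∧ c ≠ b := by
  have hiff : ∀ c, π c ∈ A ↔ c ∈ A := by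
    intro c
    constructor
    · intro hc
      by_contra hcA
      exact hcA ((mon_mem_Fix.1 hfix c hcA).1 ▸ hc)
    · intro hc
      by_contra hcA
      have := (mon_mem_Fix.1 hfix _ hcA).1
      exact hcA (by rw [π.injective this]; exact hc)
  ext c
  obtain ⟨x, rfl⟩ := π.surjective c
  simp only [Finset.mem_image, Finset.mem_filter, π.injective.eq_iff, exists_eq_right, hiff x]
  have key : ∀ x' y', π x' = y' → (π x = y' ↔ x = x') := fun x' y' h => by
    rw [← h]; exact π.injective.eq_iff
  rcases h with ⟨h1, h2⟩ | ⟨h1, h2⟩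
  · simp only [ne_eq, key a a h1, key b b h2]
  · simp only [ne_eq, key a b h1, key b a h2]
    tauto

/-- A conjugate of `e` which is monomial comes from a monomial element. -/
theorem mem_Mon_of_conj_rest {φ : SL1 F} (hv : sw a b φ ∈ K) {g : SpH ι F} (hg : g ∈ K ⊓ Fix A)
    (hgv : g * sw a b φ = sw a b φ * g)
    (hx : g * zB (A.filter fun c => c ≠ a ∧ c ≠ b) * g⁻¹ ∈ Mon ι F) : g ∈ Mon ι F := by
  set A' := A.filter fun c => c ≠ a ∧ c ≠ b
  obtain ⟨c, hc, hca, hcb⟩ := exists_third (A := A) H hA (a := a) (b := b)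
  have hcA' : c ∈ A' := Finset.mem_filter.2 ⟨hc, hca, hcb⟩
  have h1 : ∃ x ∈ A, x ∈ A' := ⟨c, hc, hcA'⟩
  have h2 : ∃ x ∈ A, x ∉ A' := ⟨a, ha, fun h => (Finset.mem_filter.1 h).2.1 rfl⟩
  obtain ⟨π, d, hπd⟩ := hx
  have heF : (zB A' : SpH ι F) ∈ K ⊓ Fix A := ⟨H.zB_mem _, zB_mem_Fix (Finset.filter_subset _ _)⟩
  have hxK : mon π d ∈ K ⊓ Fix A := hπd ▸ mul_mem (mul_mem hg heF) (inv_mem hg)
  set v := sw a b φ with hvdef
  have hev : zB A' * v = v * zB A' := by
    have hBim : A'.image (swap a b) = A' := by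
      ext x
      simp only [Finset.mem_image]
      constructor
      · rintro ⟨y, hy, rfl⟩
        obtain ⟨-, hxa, hxb⟩ := Finset.mem_filter.1 hy
        rwa [swap_apply_of_ne_of_ne hxa hxb]
      · intro hx'
        obtain ⟨-, hxa, hxb⟩ := Finset.mem_filter.1 hx'
        exact ⟨x, hx', swap_apply_of_ne_of_ne hxa hxb⟩
    have e := mul_inv_eq_iff_eq_mul.1 (mon_conj_zB (swap a b)
      (fun c => if c = a then φ else if c = b then φ⁻¹ else 1) A')
    rw [hBim] at e
    exact e.symm
  have hgiv : g⁻¹ * v = v * g⁻¹ := ((show Commute g v from hgv).inv_left).eq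
  have hxv : mon π d * v = v * mon π d := by
    rw [← hπd]
    exact (((show Commute g v from hgv).mul_left (show Commute (zB A') v from hev)).mul_left hgiv).eq
  by_cases hfix : ∃ l ∈ A, π l = l
  · obtain ⟨l, hl, hπl⟩ := hfix
    have hgi : g⁻¹ ∈ K ⊓ Fix A := inv_mem hg
    have hcomm : mon π d * z l = z l * mon π d := by
      have := mul_inv_eq_iff_eq_mul.1 (mon_conj_z π d l)
      rwa [hπl] at this
    obtain ⟨x, hx'⟩ := commute_split H IH hgi.1 (supp_of_mem H hgi.2 hl) (B := A') h1 h2 (by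
      rw [inv_inv]
      have e : g * zB A' = mon π d * g := mul_inv_eq_iff_eq_mul.1 hπd
      have e2 : zB A' * g⁻¹ = g⁻¹ * mon π d := by
        rw [eq_inv_mul_iff_mul_eq, ← mul_assoc, e, mul_inv_cancel_right]
      rw [mul_assoc (g⁻¹ * z l), e, ← mul_assoc (zB A'), ← mul_assoc (zB A'), e2, mul_assoc g⁻¹,
        mul_assoc g⁻¹, ← mul_assoc (z l), ← hcomm]
      simp [mul_assoc])
    have := (Mon ι F).inv_mem (mem_Mon_of_one H IH hgi (by omega) hl hx')
    rwa [inv_inv] at this
  push Not at hfix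
  obtain ⟨hπa, hπb, hd⟩ := (commute_sw_mon hab hxv).resolve_left fun h => hfix a ha h.1
  have hsq : mon π d * mon π d = 1 := by
    rw [← hπd]
    simp [mul_assoc, ← mul_assoc (zB A') (zB A'), zB_sq]
  have hdd : d b * d a = 1 := by
    rw [mon_mul, ← mon_one] at hsq
    have := congrFun (mon_inj hsq).2 a
    simpa [hπa] using this
  have hdb : d b = (d a)⁻¹ := eq_inv_of_mul_eq_one_left hdd
  rw [hdb] at hd
  have hχ : φ⁻¹ * d a * (φ⁻¹ * d a) = 1 := by
    conv_lhs => arg 1; rw [← hd]
    simp [mul_assoc]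
  have hda : d a * qi * (d a)⁻¹ = φ * qi * φ⁻¹ := by
    rcases sq_one_SL1 H.h2 hχ with h | h
    · rw [← inv_mul_eq_one.1 h]
    · rw [inv_mul_eq_iff_eq_mul] at h
      rw [h, _root_.mul_inv_rev, mul_assoc φ negOne qi, negOne_comm qi]
      simp [mul_assoc]
  set δ : ι → SL1 F := fun x => if x = a then qi else if x = b then φ * qi * φ⁻¹ else 1 with hδ
  set q : SpH ι F := diag δ with hq
  have hqsplit : q = diag (Pi.mulSingle a qi) * (v * diag (Pi.mulSingle a qi) * v⁻¹) := by
    rw [hvdef, sw, mon_conj_diag, hq, ← map_mul]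
    congr 1
    funext x
    simp only [Pi.mul_apply, hδ, Equiv.swap_inv]
    by_cases h1 : x = a
    · subst h1
      simp [hab, Ne.symm hab]
    by_cases h2 : x = b
    · subst h2
      simp [hab, Ne.symm hab, h1]
    · simp [swap_apply_of_ne_of_ne h1 h2, h1, h2]
  have hqK : q ∈ K ⊓ Fix A := by
    refine ⟨hqsplit ▸ K.mul_mem (H.quat a qi qi_mem_Q8)
      (K.mul_mem (K.mul_mem hv (H.quat a qi qi_mem_Q8)) (K.inv_mem hv)), mon_mem_Fix.2 fun x hx => ⟨rfl, ?_⟩⟩
    have h1 : x ≠ a := fun h => hx (h ▸ ha)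
    have h2 : x ≠ b := fun h => hx (h ▸ hb)
    simp [hδ, h1, h2]
  have hqv : q * v = v * q := by
    symm
    rw [← mul_inv_eq_iff_eq_mul, hvdef, sw, hq, mon_conj_diag]
    congr 1
    funext x
    simp only [hδ, Equiv.swap_inv]
    by_cases h1 : x = a
    · subst h1
      simp [hab, Ne.symm hab, mul_assoc]
    by_cases h2 : x = b
    · subst h2
      simp [hab, Ne.symm hab, h1]
    simp [swap_apply_of_ne_of_ne h1 h2, h1, h2]
  have hqx : q * mon π d = mon π d * q := by
    symm
    rw [← mul_inv_eq_iff_eq_mul, hq, mon_conj_diag]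
    congr 1
    funext x
    obtain ⟨y, rfl⟩ := π.surjective x
    rw [Perm.coe_inv, Equiv.symm_apply_apply]
    simp only [hδ]
    rcases eq_or_ne y a with rfl | hy1
    · rw [if_pos rfl, hπa, if_neg (Ne.symm hab), if_pos rfl, hda]
    rcases eq_or_ne y b with rfl | hy2'
    · rw [if_neg hy1, if_pos rfl, hπb, if_pos rfl, hdb, inv_inv]
      calc (d a)⁻¹ * (φ * qi * φ⁻¹) * d a = (d a)⁻¹ * (d a * qi * (d a)⁻¹) * d a := by rw [hda]
        _ = qi := by simp [mul_assoc]
    rw [if_neg hy1, if_neg hy2', if_neg (fun h => hy2' (π.injective (h.trans hπb.symm))),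
      if_neg (fun h => hy1 (π.injective (h.trans hπa.symm)))]
    simp
  have hq'e : g⁻¹ * q * g * zB A' = zB A' * (g⁻¹ * q * g) := by
    have e : g * zB A' = mon π d * g := mul_inv_eq_iff_eq_mul.1 hπd
    have e2 : zB A' * g⁻¹ = g⁻¹ * mon π d := by
      rw [eq_inv_mul_iff_mul_eq, ← mul_assoc, e, mul_inv_cancel_right]
    calc g⁻¹ * q * g * zB A' = g⁻¹ * q * (g * zB A') := mul_assoc _ _ _
      _ = g⁻¹ * (q * mon π d) * g := by rw [e]; simp [mul_assoc]
      _ = g⁻¹ * mon π d * q * g := by rw [hqx]; simp [mul_assoc]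
      _ = zB A' * (g⁻¹ * q * g) := by rw [← e2]; simp [mul_assoc]
  have hq'v : g⁻¹ * q * g * v = v * (g⁻¹ * q * g) := by
    exact (((show Commute g⁻¹ v from hgiv).mul_left (show Commute q v from hqv)).mul_left hgv).eq
  have hq'K : g⁻¹ * q * g ∈ K ⊓ Fix A := mul_mem (mul_mem (inv_mem hg) hqK) hg
  obtain ⟨π', d', hq'd⟩ := mem_Mon_of_commute H IH hq'K h1 h2 hq'e
  rw [hq'd] at hq'v
  have hq2 : q * q = zB {a, b} := by
    rw [hq, ← map_mul, zB]
    congr 1
    funext x
    have hii : (qi : SL1 F) * qi = negOne := by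
      apply SL1.ext <;> simp [coe_mul_SL1, coe_negOne]
    simp only [Pi.mul_apply, hδ, Finset.mem_insert, Finset.mem_singleton]
    rcases eq_or_ne x a with rfl | hx1
    · simp [hii]
    rcases eq_or_ne x b with rfl | hx2
    · simp only [hx1, if_false, or_true, if_true]
      rw [show φ * qi * φ⁻¹ * (φ * qi * φ⁻¹) = φ * (qi * qi) * φ⁻¹ by simp [mul_assoc], hii, ← negOne_comm,
        mul_inv_cancel_right]
    simp [hx1, hx2]
  have hπ'2 : (π' * π') a = a := by
    rcases perm_pair hab hq'v with h | h <;> simp [h.1, h.2]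
  have hcomm : g⁻¹ * zB {a, b} * g * z a = z a * (g⁻¹ * zB {a, b} * g) := by
    have e : g⁻¹ * zB {a, b} * g = mon (π' * π') (fun x => d' (π' x) * d' x) := by
      rw [← hq2, ← mon_mul, ← hq'd]
      simp [mul_assoc]
    have e3 := mul_inv_eq_iff_eq_mul.1 (mon_conj_z (π' * π') (fun x => d' (π' x) * d' x) a)
    rw [hπ'2] at e3
    rw [e, e3]
  obtain ⟨x, hx'⟩ := commute_split H IH hg.1 (supp_of_mem H hg.2 ha) (B := {a, b}) ⟨a, ha, by simp⟩
    ⟨c, hc, by simp [hca, hcb]⟩ (by
      have e : zB {a, b} * g = g * (g⁻¹ * zB {a, b} * g) := by simp [mul_assoc]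
      calc g * z a * g⁻¹ * zB {a, b} = g * (z a * (g⁻¹ * zB {a, b} * g)) * g⁻¹ := by simp [mul_assoc]
        _ = g * (g⁻¹ * zB {a, b} * g * z a) * g⁻¹ := by rw [hcomm]
        _ = zB {a, b} * (g * z a * g⁻¹) := by simp [mul_assoc])
  exact mem_Mon_of_one H IH hg (by omega) ha hx'

/-- An odd normal subgroup of the centraliser of the transposition is monomial when `|A| = 3`. -/
theorem three_core {φ : SL1 F} (hv : sw a b φ ∈ K) (h3 : A.card = 3) {O : Subgroup (SpH ι F)}
    (hO : O ≤ K ⊓ Fix A ⊓ centralizer {sw a b φ}) (hodd : Odd (Nat.card O))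
    (hn : K ⊓ Fix A ⊓ centralizer {sw a b φ} ≤ normalizer (O : Set (SpH ι F))) : O ≤ Mon ι F := by
  classical
  obtain ⟨c, hc, hca, hcb⟩ := exists_third (A := A) H hA (a := a) (b := b)
  have hAabc : A = {a, b, c} := by
    symm
    refine Finset.eq_of_subset_of_card_le ?_ (le_of_eq ?_)
    · intro x; simp only [Finset.mem_insert, Finset.mem_singleton]; rintro (rfl | rfl | rfl) <;> assumption
    · rw [h3, Finset.card_insert_of_notMem (by simp [hab, Ne.symm hca]),
        Finset.card_insert_of_notMem (by simpa using Ne.symm hcb), Finset.card_singleton]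
  set X := K ⊓ Fix A ⊓ centralizer {sw a b φ}
  have hvent : ∀ x y, ((sw a b φ : SpH ι F) : Matrix ι ι (HQ F)) x y =
      if x = swap a b y then (if y = a then (φ : HQ F) else if y = b then star (φ : HQ F) else 1) else 0 := by
    intro x y
    rw [sw, mon_apply]
    by_cases h1 : y = a
    · simp [h1]
    by_cases h2 : y = b
    · simp only [h1, h2, Ne.symm hab, if_false, if_true, swap_apply_right, coe_inv_SL1]
    · simp [h1, h2]
  -- rows `a` and `b` of elements of `X`
  have hrow : ∀ g ∈ X, ∀ y, (∑ x, (g : Matrix ι ι (HQ F)) b x *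
        ((sw a b φ : SpH ι F) : Matrix ι ι (HQ F)) x y) = (φ : HQ F) * (g : Matrix ι ι (HQ F)) a y := by
    intro g hg y
    have hc' : g * sw a b φ = sw a b φ * g := mem_centralizer_singleton_iff.1 hg.2
    rw [← mul_apply', hc', mul_apply', Finset.sum_eq_single a]
    · rw [hvent, if_pos (by rw [swap_apply_left]), if_pos rfl]
    · intro x _ hx
      rw [hvent, if_neg, zero_mul]
      intro h
      exact hx (by rw [← swap_apply_self a b x, ← h, swap_apply_right])
    · simp
  have hgc : ∀ g ∈ X, (g : Matrix ι ι (HQ F)) b c = (φ : HQ F) * (g : Matrix ι ι (HQ F)) a c := by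
    intro g hg
    rw [← hrow g hg c, Finset.sum_eq_single c]
    · rw [hvent, if_pos (swap_apply_of_ne_of_ne hca hcb).symm, if_neg hca, if_neg hcb, mul_one]
    · intro x _ hx; rw [hvent, if_neg (fun h => hx (h.trans (swap_apply_of_ne_of_ne hca hcb))), mul_zero]
    · simp
  have hga : ∀ g ∈ X, (g : Matrix ι ι (HQ F)) b b * (φ : HQ F) = (φ : HQ F) * (g : Matrix ι ι (HQ F)) a a := by
    intro g hg
    rw [← hrow g hg a, Finset.sum_eq_single b]
    · rw [hvent, if_pos (by rw [swap_apply_left]), if_pos rfl]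
    · intro x _ hx; rw [hvent, if_neg (fun h => hx (h.trans (swap_apply_left a b))), mul_zero]
    · simp
  have hgb : ∀ g ∈ X, (g : Matrix ι ι (HQ F)) b a * star (φ : HQ F) = (φ : HQ F) * (g : Matrix ι ι (HQ F)) a b := by
    intro g hg
    rw [← hrow g hg b, Finset.sum_eq_single a]
    · rw [hvent, if_pos (by rw [swap_apply_right]), if_neg (Ne.symm hab), if_pos rfl]
    · intro x _ hx; rw [hvent, if_neg (fun h => hx (h.trans (swap_apply_right a b))), mul_zero]
    · simp
  have hφ1 : star (φ : HQ F) * φ = 1 := star_mul_coe φ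
  set η : HQ F := ⟨2⁻¹, 2⁻¹, 0, 0⟩ with hη
  have η0 : η.re = 2⁻¹ := rfl
  have η1 : η.imI = 2⁻¹ := rfl
  have η2 : η.imJ = 0 := rfl
  have η3 : η.imK = 0 := rfl
  have hηη : η * star η + η * star η = 1 := by
    have := H.h2
    ext <;> simp [η0, η1, η2, η3] <;> field_simp <;> ring
  have hηη' : star η * η + star η * η = 1 := by
    have := H.h2
    ext <;> simp [η0, η1, η2, η3] <;> field_simp <;> ring
  let T : Matrix ι (Fin 2) (HQ F) := Matrix.of fun x j =>
    if j = 0 then (if x = a then η else if x = b then (φ : HQ F) * η else 0) else (if x = c then 1 else 0)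
  have T0 : ∀ x, T x 0 = if x = a then η else if x = b then (φ : HQ F) * η else 0 := fun x => rfl
  have T1 : ∀ x, T x 1 = if x = c then 1 else 0 := fun x => rfl
  have hTl0 : ∀ (g : Matrix ι ι (HQ F)) x, (g * T) x 0 = g x a * η + g x b * ((φ : HQ F) * η) := by
    intro g x
    rw [Matrix.mul_apply, Finset.sum_eq_add a b hab]
    · simp [T0, Ne.symm hab]
    · intro y _ hy; simp [T0, hy.1, hy.2]
    · simp
    · simp
  have hTl1 : ∀ (g : Matrix ι ι (HQ F)) x, (g * T) x 1 = g x c := by
    intro g x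
    rw [Matrix.mul_apply, Finset.sum_eq_single c]
    · simp [T1]
    · intro y _ hy; simp [T1, hy]
    · simp
  have hTh0 : ∀ (v : Matrix ι (Fin 2) (HQ F)) l,
      (Tᴴ * v) 0 l = star η * (v a l + star (φ : HQ F) * v b l) := by
    intro v l
    rw [Matrix.mul_apply, Finset.sum_eq_add a b hab]
    · simp [Matrix.conjTranspose_apply, T0, Ne.symm hab, mul_add, mul_assoc]
    · intro y _ hy; simp [Matrix.conjTranspose_apply, T0, hy.1, hy.2]
    · simp
    · simp
  have hTh1 : ∀ (v : Matrix ι (Fin 2) (HQ F)) l, (Tᴴ * v) 1 l = v c l := by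
    intro v l
    rw [Matrix.mul_apply, Finset.sum_eq_single c]
    · simp [Matrix.conjTranspose_apply, T1]
    · intro y _ hy; simp [Matrix.conjTranspose_apply, T1, hy]
    · simp
  have hT : Tᴴ * T = 1 := by
    ext j l : 1
    have e00 : (Tᴴ * T) 0 0 = 1 := by
      rw [hTh0, T0, T0, if_pos rfl, if_neg (Ne.symm hab), if_pos rfl, ← mul_assoc (star (φ : HQ F)), hφ1,
        one_mul, mul_add, hηη']
    have e01 : (Tᴴ * T) 0 1 = 0 := by
      rw [hTh0, T1, T1, if_neg (Ne.symm hca), if_neg (Ne.symm hcb)]; simp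
    have e10 : (Tᴴ * T) 1 0 = 0 := by rw [hTh1, T0, if_neg hca, if_neg hcb]
    have e11 : (Tᴴ * T) 1 1 = 1 := by rw [hTh1, T1, if_pos rfl]
    fin_cases j <;> fin_cases l
    exacts [e00, e01, e10, e11]
  have hX : ∀ g ∈ X, T * (Tᴴ * ((g : Matrix ι ι (HQ F)) * T)) = (g : Matrix ι ι (HQ F)) * T := by
    intro g hg
    have hgT : ∀ j, ((g : Matrix ι ι (HQ F)) * T) b j = (φ : HQ F) * ((g : Matrix ι ι (HQ F)) * T) a j := by
      refine Fin.forall_fin_two.2 ⟨?_, ?_⟩
      · rw [hTl0, hTl0, ← mul_assoc ((g : Matrix ι ι (HQ F)) b b), hga g hg, mul_add]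
        have e : (g : Matrix ι ι (HQ F)) b a = (φ : HQ F) * (g : Matrix ι ι (HQ F)) a b * (φ : HQ F) := by
          rw [← hgb g hg, mul_assoc, hφ1, mul_one]
        rw [e]
        simp [mul_assoc, add_comm]
      · rw [hTl1, hTl1, hgc g hg]
    ext x j : 1
    rw [Matrix.mul_apply, Fin.sum_univ_two, T0, T1, hTh0, hTh1]
    have hhalf : ∀ y : HQ F, η * (star η * (y + y)) = y := fun y => by
      rw [← mul_assoc, mul_add, ← add_mul, hηη, one_mul]
    rw [hgT, ← mul_assoc (star (φ : HQ F)), hφ1, one_mul]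
    by_cases h1 : x = a
    · subst h1; rw [if_pos rfl, if_neg (Ne.symm hca), hhalf]; simp
    by_cases h2 : x = b
    · subst h2; rw [if_neg h1, if_pos rfl, if_neg (Ne.symm hcb), mul_assoc, hhalf, ← hgT]; simp
    by_cases h3' : x = c
    · subst h3'; simp [h1, h2]
    · have hxA : x ∉ A := by rw [hAabc]; simp [h1, h2, h3']
      rw [if_neg h1, if_neg h2, if_neg h3']
      simp only [zero_mul, add_zero]
      revert j
      refine Fin.forall_fin_two.2 ⟨?_, ?_⟩
      · rw [hTl0, supp_of_mem H hg.1.2 ha x hxA, supp_of_mem H hg.1.2 hb x hxA]; simp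
      · rw [hTl1, supp_of_mem H hg.1.2 hc x hxA]
  set ψ := compress T hT X hX
  have hψ01 : ∀ g : X, (ψ g : Matrix (Fin 2) (Fin 2) (HQ F)) 0 1 =
      star η * (((g : SpH ι F) : Matrix ι ι (HQ F)) a c + ((g : SpH ι F) : Matrix ι ι (HQ F)) a c) := by
    intro g
    rw [compress_apply, Matrix.mul_assoc, hTh0, hTl1, hTl1, hgc g g.2, ← mul_assoc (star (φ : HQ F)), hφ1,
      one_mul]
  set OX := O.subgroupOf X
  have hcore := two_core H.h2 (N := OX.map ψ) (hodd.of_dvd_nat (by
    refine (Subgroup.card_map_dvd _ _).trans ?_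
    rw [Nat.card_congr (subgroupOfEquivOfLe hO).toEquiv])) (by
    intro δ hδ
    obtain ⟨β, hβ, hβη⟩ : ∃ β ∈ Q8 F, (β : HQ F) * η = η * (δ 0 : HQ F) := by
      obtain ⟨e, he, hd0⟩ := mem_Q8.1 (hδ 0)
      obtain ⟨e', he', hee⟩ : ∃ e' ∈ Q8 F, (e' : HQ F) * η = η * (e : HQ F) := by
        rcases he with rfl | rfl | rfl | rfl
        · exact ⟨1, one_mem _, by simp⟩
        · exact ⟨qi, qi_mem_Q8, by ext <;> simp [η0, η1, η2, η3]⟩
        · exact ⟨qk, qk_mem_Q8, by ext <;> simp [η0, η1, η2, η3]⟩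
        · exact ⟨negOne * qj, mul_mem negOne_mem_Q8 qj_mem_Q8, by
            ext <;> simp [coe_mul_SL1, coe_negOne, η0, η1, η2, η3]⟩
      rcases hd0 with h | h
      · exact ⟨e', he', by rw [hee, h]⟩
      · refine ⟨negOne * e', mul_mem negOne_mem_Q8 he', ?_⟩
        rw [h, coe_mul_SL1, coe_mul_SL1, coe_negOne]
        simp [hee]
    set qd : ι → SL1 F := fun x => if x = a then β else if x = b then φ * β * φ⁻¹ else if x = c then δ 1 else 1
      with hqd
    have hsplit : diag qd = diag (Pi.mulSingle a β) *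
        (sw a b φ * diag (Pi.mulSingle a β) * (sw a b φ)⁻¹) * diag (Pi.mulSingle c (δ 1)) := by
      rw [sw, mon_conj_diag, ← map_mul, ← map_mul]
      congr 1
      funext x
      simp only [Pi.mul_apply, hqd, Equiv.swap_inv]
      by_cases h1 : x = a
      · subst h1
        simp [hab, Ne.symm hab, Ne.symm hca]
      by_cases h2 : x = b
      · subst h2
        simp [hab, Ne.symm hab, Ne.symm hcb, h1]
      by_cases h3' : x = c
      · subst h3'
        simp [swap_apply_of_ne_of_ne h1 h2, h1, h2]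
      simp [swap_apply_of_ne_of_ne h1 h2, h1, h2, h3']
    have hqX : diag qd ∈ X := by
      refine ⟨⟨hsplit ▸ K.mul_mem (K.mul_mem (H.quat a β hβ)
        (K.mul_mem (K.mul_mem hv (H.quat a β hβ)) (K.inv_mem hv))) (H.quat c _ (hδ 1)),
        mon_mem_Fix.2 fun x hx => ⟨rfl, ?_⟩⟩, ?_⟩
      · have h1 : x ≠ a := fun h => hx (h ▸ ha)
        have h2 : x ≠ b := fun h => hx (h ▸ hb)
        have h3' : x ≠ c := fun h => hx (h ▸ hc)
        simp [hqd, h1, h2, h3']
      · show diag qd ∈ centralizer {sw a b φ}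
        rw [mem_centralizer_singleton_iff, eq_comm, ← mul_inv_eq_iff_eq_mul, sw, mon_conj_diag]
        congr 1
        funext x
        simp only [hqd, Equiv.swap_inv]
        by_cases h1 : x = a
        · subst h1; simp [hab, Ne.symm hab, mul_assoc]
        by_cases h2 : x = b
        · subst h2; simp [hab, Ne.symm hab, h1]
        simp [swap_apply_of_ne_of_ne h1 h2, h1, h2]
    set q : X := ⟨diag qd, hqX⟩
    have hqd2 : ψ q = diag δ := by
      refine SpH.ext fun j l => ?_
      rw [compress_apply, Matrix.mul_assoc, diag_apply]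
      have q00 : ∀ x y, ((q : SpH ι F) : Matrix ι ι (HQ F)) x y = if x = y then (qd y : HQ F) else 0 :=
        fun x y => diag_apply qd x y
      have e00 : (Tᴴ * (((q : SpH ι F) : Matrix ι ι (HQ F)) * T)) 0 0 = (δ 0 : HQ F) := by
        rw [hTh0, hTl0, hTl0, q00, q00, q00, q00, if_pos rfl, if_neg hab, if_neg (Ne.symm hab), if_pos rfl]
        simp only [zero_mul, add_zero, zero_add, hqd, if_pos rfl, if_neg (Ne.symm hab), if_true, coe_mul_SL1,
          coe_inv_SL1]
        rw [show star (φ : HQ F) * ((φ : HQ F) * (β : HQ F) * star (φ : HQ F) * ((φ : HQ F) * η)) =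
          (star (φ : HQ F) * φ) * (β : HQ F) * (star (φ : HQ F) * φ) * η by simp only [mul_assoc], hφ1, one_mul,
          mul_one, hβη, ← mul_add, ← mul_assoc, mul_add, ← add_mul, hηη', one_mul]
      have e01 : (Tᴴ * (((q : SpH ι F) : Matrix ι ι (HQ F)) * T)) 0 1 = 0 := by
        rw [hTh0, hTl1, hTl1, q00, q00, if_neg (Ne.symm hca), if_neg (Ne.symm hcb)]; simp
      have e10 : (Tᴴ * (((q : SpH ι F) : Matrix ι ι (HQ F)) * T)) 1 0 = 0 := by
        rw [hTh1, hTl0, q00, q00, if_neg hca, if_neg hcb]; simp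
      have e11 : (Tᴴ * (((q : SpH ι F) : Matrix ι ι (HQ F)) * T)) 1 1 = (δ 1 : HQ F) := by
        rw [hTh1, hTl1, q00, if_pos rfl]; simp [hqd, hca, hcb]
      fin_cases j <;> fin_cases l
      exacts [e00, e01, e10, e11]
    rw [← hqd2]
    have hqn : q ∈ normalizer (OX : Set X) := by
      have hn' := hn q.2
      rw [mem_normalizer_iff] at hn' ⊢
      intro x
      exact hn' x
    exact le_normalizer_map ψ ⟨q, hqn, rfl⟩)
  intro g hg
  have h01 := upper_zero_of_commute H.h2 (hcore _ ⟨⟨g, hO hg⟩, hg, rfl⟩)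
  rw [hψ01] at h01
  have hgac : (g : Matrix ι ι (HQ F)) a c = 0 := by
    have h' : η * (star η * ((g : Matrix ι ι (HQ F)) a c + (g : Matrix ι ι (HQ F)) a c)) = 0 := by
      show η * (star η * ((((⟨g, hO hg⟩ : X) : SpH ι F) : Matrix ι ι (HQ F)) a c +
        (((⟨g, hO hg⟩ : X) : SpH ι F) : Matrix ι ι (HQ F)) a c)) = 0
      rw [h01, mul_zero]
    rwa [← mul_assoc, mul_add, ← add_mul, hηη, one_mul] at h'
  refine mem_Mon_of_one H IH (hO hg).1 (by omega) hc (conj_z_eq_z_of_single g c c fun x hx => ?_)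
  by_cases hxA : x ∈ A
  · rw [hAabc] at hxA
    simp only [Finset.mem_insert, Finset.mem_singleton] at hxA
    rcases hxA with rfl | rfl | rfl
    · exact hgac
    · rw [hgc g (hO hg), hgac, mul_zero]
    · exact absurd rfl hx
  · exact supp_of_mem H (hO hg).1.2 hc x hxA

/-- Elements commuting with a transposition of two coordinates of `A` are monomial. -/
theorem mem_Mon_of_commute_sw {φ : SL1 F} (hv : sw a b φ ∈ K) :
    ∀ g ∈ K ⊓ Fix A, g * sw a b φ = sw a b φ * g → g ∈ Mon ι F := by
  classical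
  haveI : Fact (Nat.Prime 2) := ⟨Nat.prime_two⟩
  set A' := A.filter fun c => c ≠ a ∧ c ≠ b with hA'
  set X := K ⊓ Fix A ⊓ centralizer {sw a b φ}
  obtain ⟨c, hc, hca, hcb⟩ := exists_third (A := A) H hA (a := a) (b := b)
  have hcA' : c ∈ A' := Finset.mem_filter.2 ⟨hc, hca, hcb⟩
  have hzX : ∀ B ⊆ A', (zB B : SpH ι F) ∈ X := by
    intro B hB
    refine ⟨⟨H.zB_mem _, zB_mem_Fix (hB.trans (Finset.filter_subset _ _))⟩, ?_⟩
    show zB B ∈ centralizer {sw a b φ}
    rw [mem_centralizer_singleton_iff, eq_comm]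
    have e := mul_inv_eq_iff_eq_mul.1 (mon_conj_zB (swap a b)
      (fun c => if c = a then φ else if c = b then φ⁻¹ else 1) B)
    have hBim : B.image (swap a b) = B := by
      ext x
      simp only [Finset.mem_image]
      constructor
      · rintro ⟨y, hy, rfl⟩
        obtain ⟨-, h1, h2⟩ := Finset.mem_filter.1 (hB hy)
        rwa [swap_apply_of_ne_of_ne h1 h2]
      · intro hx
        obtain ⟨-, h1, h2⟩ := Finset.mem_filter.1 (hB hx)
        exact ⟨x, hx, swap_apply_of_ne_of_ne h1 h2⟩
    rw [hBim] at e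
    exact e
  have hes : signs A' ≤ X := fun g ⟨B, hB, e⟩ => e ▸ hzX B hB
  set e : X := ⟨zB A', hzX A' subset_rfl⟩
  have hconj : ∀ g : X, (g : SpH ι F) * zB A' * (g : SpH ι F)⁻¹ ∈ Mon ι F → g * e * g⁻¹ = e := by
    intro g hg
    have hgv : (g : SpH ι F) * sw a b φ = sw a b φ * g := (mem_centralizer_singleton_iff.1 g.2.2)
    obtain ⟨π, d, hπ⟩ := mem_Mon_of_conj_rest H IH hA ha hb hab hv g.2.1 hgv hg
    refine Subtype.ext ?_
    show (g : SpH ι F) * zB A' * (g : SpH ι F)⁻¹ = zB A'
    rw [hπ, mon_conj_zB, hA']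
    rw [image_rest (A := A) H ha (hπ ▸ g.2.1.2) (perm_pair hab (hπ ▸ hgv))]
  have hfrom : ∀ g : X, (g : SpH ι F) * zB A' * (g : SpH ι F)⁻¹ ∈ Mon ι F → (g : SpH ι F) ∈ Mon ι F :=
    fun g hg => mem_Mon_of_conj_rest H IH hA ha hb hab hv g.2.1 (mem_centralizer_singleton_iff.1 g.2.2) hg
  obtain ⟨P, hP⟩ := ((isPGroup_signs A').comap_subtype (K := X)).exists_le_sylow
  set T := (P : Subgroup X).map X.subtype
  have hTMon : T ≤ Mon ι F := two_group_le_Mon H IH (by omega) (P.2.map _)
    ((map_subtype_le _).trans inf_le_left) hc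
    ⟨⟨z c, hes ⟨{c}, by simpa using hcA', rfl⟩⟩, hP (show z c ∈ signs A' from ⟨{c}, by simpa using hcA', rfl⟩), rfl⟩
  have heP : e ∈ (P : Subgroup X) := hP (show zB A' ∈ signs A' from ⟨A', subset_rfl, rfl⟩)
  have he2 : orderOf e = 2 := by
    refine orderOf_eq_prime (by rw [pow_two]; exact Subtype.ext (zB_sq A')) fun h => ?_
    have h' : (zB A' : SpH ι F) = 1 := congrArg Subtype.val h
    rw [zB, ← map_one (diag (F := F) (ι := ι))] at h'
    have := congrFun (diag_injective h') c
    rw [if_pos hcA'] at this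
    exact negOne_ne_one H.h2 this
  obtain ⟨N, hNn, hNodd, hN⟩ := Cfsg.Agent.S0215.result P e he2 heP fun g hg =>
    hconj g (hTMon ⟨_, hg, rfl⟩)
  set O := N.map X.subtype
  have hOodd : Odd (Nat.card O) := by rwa [card_map_of_injective X.subtype_injective]
  have hOn : X ≤ normalizer (O : Set (SpH ι F)) := by
    refine H8.le_normalizer_of_conj_mem fun g hg x hx => ?_
    obtain ⟨y, hy, rfl⟩ := hx
    refine ⟨(⟨g, hg⟩ : X) * y * (⟨g, hg⟩ : X)⁻¹, hNn.conj_mem y hy _, ?_⟩
    rw [map_mul, map_mul, map_inv]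
    rfl
  have hOMon : O ≤ Mon ι F := by
    rcases eq_or_lt_of_le hA with h3 | h4
    · exact three_core H IH hA ha hb hab hv h3.symm (map_subtype_le _) hOodd hOn
    have hA'2 : 2 ≤ A'.card := by
      have hsub : A ⊆ insert a (insert b A') := fun x hx => by
        simp only [Finset.mem_insert, hA', Finset.mem_filter]
        tauto
      have := (Finset.card_le_card hsub).trans ((Finset.card_insert_le _ _).trans
        (Nat.succ_le_succ (Finset.card_insert_le _ _)))
      omega
    obtain ⟨c', hc', hcc'⟩ := Finset.exists_mem_ne (by omega : 1 < A'.card) c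
    refine H2.FixedGen.le_of_fixed_cycQ (signs_comm A') (isPGroup_signs A') O ⊥ hOodd
      (hes.trans hOn) bot_le (fun x _ => mem_centralizer_iff.2 fun y hy => by
        rw [SetLike.mem_coe, Subgroup.mem_bot] at hy; rw [hy, one_mul, mul_one]) ?_
    rintro K' ⟨hK', b0, hb0, hcyc⟩ g ⟨hgO, hgK'⟩
    have hex : ∃ x ∈ K', x ≠ 1 := by
      by_contra h
      push Not at h
      obtain ⟨i, hi⟩ := hcyc (z c) ⟨{c}, by simpa using hcA', rfl⟩
      obtain ⟨j, hj⟩ := hcyc (z c') ⟨{c'}, by simpa using hc', rfl⟩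
      have hi' := inv_mul_eq_one.1 (h _ hi)
      have hj' := inv_mul_eq_one.1 (h _ hj)
      obtain ⟨B0, -, rfl⟩ := hb0
      have hpow : ∀ n : ℤ, (zB B0 : SpH ι F) ^ n = 1 ∨ (zB B0 : SpH ι F) ^ n = zB B0 := by
        intro n
        have h2' : (zB B0 : SpH ι F) ^ (2 : ℤ) = 1 := by rw [zpow_two, zB_sq]
        rcases Int.even_or_odd' n with ⟨t, rfl | rfl⟩
        · left; rw [_root_.zpow_mul, h2', _root_.one_zpow]
        · right; rw [_root_.zpow_add, _root_.zpow_mul, h2', _root_.one_zpow, one_mul, zpow_one]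
      have hne1 : ∀ x, (z x : SpH ι F) ≠ 1 := fun x h' => by
        have e1 := congrArg (fun g : SpH ι F => (g : Matrix ι ι (HQ F)) x x) h'
        simp only [z_apply, if_true, OneMemClass.coe_one, Matrix.one_apply_eq] at e1
        exact negOne_ne_one H.h2 (Subtype.ext e1)
      have e1 : (z c : SpH ι F) = zB B0 := by
        rcases hpow i with e' | e' <;> rw [e'] at hi'
        exacts [absurd hi'.symm (hne1 c), hi'.symm]
      have e2 : (z c' : SpH ι F) = zB B0 := by
        rcases hpow j with e' | e' <;> rw [e'] at hj'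
        exacts [absurd hj'.symm (hne1 c'), hj'.symm]
      have e3 := congrArg (fun g : SpH ι F => (g : Matrix ι ι (HQ F)) c c) (e1.trans e2.symm)
      simp only [z_apply, if_true] at e3
      rw [if_neg hcc'.symm] at e3
      exact negOne_ne_one H.h2 (Subtype.ext e3)
    obtain ⟨x, hx, hx1⟩ := hex
    obtain ⟨B, hB, rfl⟩ := hK' hx
    have hBne : B.Nonempty := Finset.nonempty_iff_ne_empty.2 fun h => hx1 (by rw [h]; exact zB_empty)
    obtain ⟨y, hy⟩ := hBne
    exact mem_Mon_of_commute H IH ((map_subtype_le _ hgO : g ∈ X)).1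
      ⟨y, (Finset.mem_filter.1 (hB hy)).1, hy⟩ ⟨a, ha, fun h => (Finset.mem_filter.1 (hB h)).2.1 rfl⟩
      (mem_centralizer_iff.1 hgK' _ hx).symm
  intro g hg hgv
  set gX : X := ⟨g, hg, mem_centralizer_singleton_iff.2 hgv⟩
  refine hfrom gX ?_
  have hm := hN gX
  have h : g * zB A' * g⁻¹ = zB A' * (zB A' * g * (zB A')⁻¹ * g⁻¹) := by
    rw [zB_inv, ← mul_assoc, ← mul_assoc, ← mul_assoc, zB_sq, one_mul]
  show g * zB A' * g⁻¹ ∈ Mon ι F
  rw [h]
  refine (Mon ι F).mul_mem ⟨1, _, rfl⟩ (hOMon ⟨_, hm, ?_⟩)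
  rw [map_mul, map_mul, map_mul, map_inv, map_inv]
  rfl

omit ha hb hab in
/-- The step for at least three coordinates. -/
theorem big_case : CL K A := by
  classical
  haveI : Fact (Nat.Prime 2) := ⟨Nat.prime_two⟩
  intro k0 hk0 e0 hs0
  by_contra hne0
  obtain ⟨a, ha, b, hb, hab, φ, hv⟩ := exists_transposition H IH hA hk0 hs0 hne0
  set KA := K ⊓ Fix A
  set v := sw a b φ with hvdef
  have hvKA : v ∈ KA := ⟨hv, sw_mem_Fix ha hb φ⟩
  -- nonzero coordinates
  have hnz : ∀ k ∈ K, ∀ e, (∀ c ∉ A, (k : Matrix ι ι (HQ F)) c e = 0) → (¬ ∃ d, k * z e * k⁻¹ = z d) →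
      ∀ c ∈ A, (k : Matrix ι ι (HQ F)) c e ≠ 0 := by
    intro k hk e hs hne c hc h
    refine hne (IH (A.erase c) (Finset.erase_ssubset hc) k hk e fun x hx => ?_)
    by_cases hxc : x = c
    · rw [hxc]; exact h
    · exact hs x fun hxA => hx (Finset.mem_erase.2 ⟨hxc, hxA⟩)
  -- the commuting case is impossible
  have hnocomm : ∀ ψ, sw a b ψ ∈ K → ∀ k ∈ K, ∀ e, (∀ c ∉ A, (k : Matrix ι ι (HQ F)) c e = 0) →
      (¬ ∃ d, k * z e * k⁻¹ = z d) → ¬ (k * z e * k⁻¹ * sw a b ψ = sw a b ψ * (k * z e * k⁻¹)) := by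
    intro ψ hψ k hk e hs hne hcomm
    have hyK := mem_KA_conj H hk hs
    obtain ⟨π, d, hπ⟩ := mem_Mon_of_commute_sw H IH hA ha hb hab hψ _ hyK hcomm
    obtain ⟨c, hc, hca, -⟩ := exists_third (A := A) H hA (a := a) (b := a)
    set y := k * z e * k⁻¹ with hy
    have hy2 : y * y = 1 := by
      show k * z e * k⁻¹ * (k * z e * k⁻¹) = 1
      simp [mul_assoc, ← mul_assoc (z e) (z e), z_sq]
    have hn : zpowers y ≤ normalizer ((signs A : Subgroup (SpH ι F)) : Set (SpH ι F)) := by
      rw [zpowers_le, mem_normalizer_iff_map_conj_eq]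
      refine Subgroup.eq_of_le_of_card_ge ?_ (le_of_eq (card_map_of_injective (MulAut.conj y).injective).symm)
      rintro _ ⟨_, ⟨B, hB, rfl⟩, rfl⟩
      refine ⟨B.image π, fun x hx => ?_, ?_⟩
      · obtain ⟨x', hx', rfl⟩ := Finset.mem_image.1 hx
        by_contra hxA
        have := (mon_mem_Fix.1 (hπ ▸ hyK.2) _ hxA).1
        exact hxA (by rw [π.injective this]; exact hB hx')
      · show y * zB B * y⁻¹ = _
        rw [hπ, mon_conj_zB]
    have hp : IsPGroup 2 (zpowers y) := by
      rintro ⟨_, i, rfl⟩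
      refine ⟨1, Subtype.ext ?_⟩
      show (y ^ i) ^ 2 ^ 1 = 1
      rw [pow_one, ← zpow_natCast, ← _root_.zpow_mul, mul_comm, _root_.zpow_mul, zpow_natCast, pow_two, hy2,
        _root_.one_zpow]
    have hT := hp.to_sup_of_normal_right' (isPGroup_signs A) hn
    have hcm := H.comm _ (sup_le (zpowers_le.2 hyK.1) (H.signs_le A)) hT k hk 1 K.one_mem e c
      (mem_sup_left (mem_zpowers y))
      (by rw [one_mul, inv_one, mul_one]; exact mem_sup_right ⟨{c}, by simpa using hc, rfl⟩)
    rw [one_mul, inv_one, mul_one] at hcm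
    exact hne (commute_split H IH hk hs (B := {c}) ⟨c, hc, Finset.mem_singleton_self _⟩
      ⟨a, ha, by simpa using Ne.symm hca⟩ hcm.eq)
  -- the relation between the coordinates at `a` and `b`
  have hrel : ∀ k ∈ K, ∀ e, (∀ c ∉ A, (k : Matrix ι ι (HQ F)) c e = 0) → (¬ ∃ d, k * z e * k⁻¹ = z d) →
      (k : Matrix ι ι (HQ F)) b e = -((φ : HQ F) * (k : Matrix ι ι (HQ F)) a e) := by
    intro k hk e hs hne
    have hyKA := mem_KA_conj H hk hs
    set y := k * z e * k⁻¹ with hy
    set u : ι → HQ F := fun c => (k : Matrix ι ι (HQ F)) c e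
    have hy2 : y * y = 1 := by
      show k * z e * k⁻¹ * (k * z e * k⁻¹) = 1
      simp [mul_assoc, ← mul_assoc (z e) (z e), z_sq]
    obtain ⟨c0, hc0, hc0a, hc0b⟩ := exists_third (A := A) H hA (a := a) (b := b)
    rcases conj_or_central (K := KA) hvKA hyKA (sw_sq hab φ) hy2 with ⟨g, hg, hvg⟩ | ⟨w, hwK, hw2, hw1, hwv, hwy, j, hwj⟩
    · exfalso
      have hv' : (g * k) * z e * (g * k)⁻¹ = v := by
        rw [hvg, hy]; simp [mul_assoc]
      obtain ⟨d, hd⟩ := commute_split H IH (K.mul_mem hg.1 hk) (Fix_mul_supp H hg.2 hs) (B := {c0})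
        ⟨c0, hc0, Finset.mem_singleton_self _⟩ ⟨a, ha, by simpa using Ne.symm hc0a⟩ (by
          rw [hv', hvdef, sw]
          have e1 := mul_inv_eq_iff_eq_mul.1 (mon_conj_z (swap a b)
            (fun c => if c = a then φ else if c = b then φ⁻¹ else 1) c0)
          rw [swap_apply_of_ne_of_ne hc0a hc0b] at e1
          exact e1)
      rw [hv', hvdef, sw, z, zB, diag_def] at hd
      have := congrArg (fun f : Perm ι => f a) (mon_inj hd).1
      simp at this
      exact hab this.symm
    obtain ⟨π, d, hwπ⟩ := mem_Mon_of_commute_sw H IH hA ha hb hab hv w hwK hwv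
    -- fixed vectors
    have hfix : ∀ x : ι → HQ F, (∑ c, star (u c) * x c = 0) → x b = (φ : HQ F) * x a →
        ∀ c, (d c : HQ F) * x c = x (π c) := by
      intro x hxu hxb
      let St : Subgroup (SpH ι F) :=
        { carrier := {g | (g : Matrix ι ι (HQ F)) *ᵥ x = x}
          one_mem' := Matrix.one_mulVec x
          mul_mem' := fun {g h} hg hh => by
            show ((g : Matrix ι ι (HQ F)) * (h : Matrix ι ι (HQ F))) *ᵥ x = x
            rw [← Matrix.mulVec_mulVec]
            exact (congrArg _ hh).trans hg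
          inv_mem' := fun {g} hg => by
            show ((g⁻¹ : SpH ι F) : Matrix ι ι (HQ F)) *ᵥ x = x
            conv_lhs => rw [← hg]
            rw [Matrix.mulVec_mulVec, show ((g⁻¹ : SpH ι F) : Matrix ι ι (HQ F)) * (g : Matrix ι ι (HQ F)) = 1
              from congrArg Subtype.val (inv_mul_cancel g), Matrix.one_mulVec] }
      have hySt : y ∈ St := by
        show (y : Matrix ι ι (HQ F)) *ᵥ x = x
        funext c
        show ∑ f, (y : Matrix ι ι (HQ F)) c f * x f = x c
        simp only [hy, conj_z_apply, sub_mul, Finset.sum_sub_distrib, ite_mul, one_mul, zero_mul,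
          Finset.sum_ite_eq, Finset.mem_univ, if_true]
        simp only [mul_assoc, ← Finset.mul_sum]
        rw [show ∑ f, star ((k : Matrix ι ι (HQ F)) f e) * x f = 0 from hxu]
        simp
      have hvSt : v ∈ St := by
        show (v : Matrix ι ι (HQ F)) *ᵥ x = x
        funext c
        show ∑ f, (v : Matrix ι ι (HQ F)) c f * x f = x c
        rw [Finset.sum_eq_single (swap a b c)]
        · rw [hvdef, sw, mon_apply, swap_apply_self, if_pos rfl]
          by_cases h1 : c = a
          · subst h1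
            rw [swap_apply_left, if_neg (Ne.symm hab), if_pos rfl, hxb, coe_inv_SL1, ← mul_assoc, star_mul_coe,
              one_mul]
          by_cases h2 : c = b
          · subst h2
            rw [swap_apply_right, if_pos rfl, hxb]
          · rw [swap_apply_of_ne_of_ne h1 h2, if_neg h1, if_neg h2, coe_one_SL1, one_mul]
        · intro f _ hf
          rw [hvdef, sw, mon_apply, if_neg, zero_mul]
          intro h
          exact hf (by rw [h, swap_apply_self])
        · simp
      have hwSt : w ∈ St := hwj ▸ pow_mem (mul_mem hvSt hySt) j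
      intro c
      have := congrFun (show (w : Matrix ι ι (HQ F)) *ᵥ x = x from hwSt) (π c)
      rw [← this]
      show _ = ∑ f, (w : Matrix ι ι (HQ F)) (π c) f * x f
      rw [hwπ, Finset.sum_eq_single c]
      · rw [mon_apply, if_pos rfl]
      · intro f _ hf; rw [mon_apply, if_neg (fun h => hf (π.injective h).symm), zero_mul]
      · simp
    -- `u` is an eigenvector
    obtain ⟨ε, hε, hwu⟩ : ∃ ε : F, (ε = 1 ∨ ε = -1) ∧ ∀ c, u (π c) * (ε : HQ F) = (d c : HQ F) * u c := by
      set c' := k⁻¹ * w * k with hc'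
      have hcz : c' * z e * c'⁻¹ = z e := by
        rw [mul_inv_eq_iff_eq_mul, hc']
        calc k⁻¹ * w * k * z e = k⁻¹ * (w * y) * k := by rw [hy]; simp [mul_assoc]
          _ = z e * (k⁻¹ * w * k) := by rw [hwy, hy]; simp [mul_assoc]
      have hoff := single_of_conj_z_eq_z H.h2 c' e e hcz
      set ce := (c' : Matrix ι ι (HQ F)) e e
      have hc2 : c' * c' = 1 := by
        rw [hc']; simp [mul_assoc, ← mul_assoc w w, hw2]
      have hci : c'⁻¹ = c' := inv_eq_of_mul_eq_one_right hc2
      have hstar : star ce = ce := by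
        show star ((c' : Matrix ι ι (HQ F)) e e) = _
        rw [← inv_apply, hci]
      have hsc := scalar_of_star_eq H.h2 hstar
      have hn := col_norm c' e e
      rw [if_pos rfl, Finset.sum_eq_single e (fun x _ hx => by rw [hoff x hx, mul_zero]) (by simp)] at hn
      change star ce * ce = 1 at hn
      rw [hstar, hsc, ← Quaternion.coe_mul, ← Quaternion.coe_one] at hn
      refine ⟨ce.re, mul_self_eq_one_iff.1 (Quaternion.coe_inj.1 hn), fun c => ?_⟩
      have h1 : w * k = k * c' := by rw [hc']; simp [mul_assoc]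
      have h2 : ((w * k : SpH ι F) : Matrix ι ι (HQ F)) (π c) e = ((k * c' : SpH ι F) : Matrix ι ι (HQ F)) (π c) e := by
        rw [h1]
      rw [mul_apply', mul_apply', Finset.sum_eq_single c, Finset.sum_eq_single e] at h2
      · rw [hwπ, mon_apply, if_pos rfl] at h2
        rw [← hsc]
        exact h2.symm
      · intro f _ hf; rw [hoff f hf, mul_zero]
      · simp
      · intro f _ hf; rw [hwπ, mon_apply, if_neg (fun h => hf (π.injective h).symm), zero_mul]
      · simp
    have hwinv : ∀ c, π (π c) = c ∧ (d (π c) : HQ F) * (d c : HQ F) = 1 := by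
      intro c
      have h := hw2
      rw [hwπ, mon_mul, ← mon_one] at h
      obtain ⟨h1, h2⟩ := mon_inj h
      exact ⟨congrArg (fun f : Perm ι => f c) h1, congrArg Subtype.val (congrFun h2 c)⟩
    have hout : ∀ c ∉ A, π c = c ∧ d c = 1 := mon_mem_Fix.1 (hwπ ▸ hwK.2)
    have hvw : mon π d * sw a b φ = sw a b φ * mon π d := by rw [← hwπ]; exact hwv
    have hpair := perm_pair hab hvw
    have hu := hnz k hk e hs hne
    rcases hε with rfl | rfl
    · -- fixed eigenvector: `w` would be a transposition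
      exfalso
      simp only [Quaternion.coe_one, mul_one] at hwu
      have hmove : ∀ c, c ≠ a → c ≠ b → π c = c := by
        intro c hca hcb
        by_contra hcm
        have hcA : c ∈ A := by
          by_contra h; exact hcm (hout c h).1
        have hne' : π c ≠ a ∧ π c ≠ b := by
          rcases hpair with ⟨h1, h2⟩ | ⟨h1, h2⟩
          · exact ⟨fun h => hca (π.injective (h.trans h1.symm)), fun h => hcb (π.injective (h.trans h2.symm))⟩
          · exact ⟨fun h => hcb (π.injective (h.trans h2.symm)), fun h => hca (π.injective (h.trans h1.symm))⟩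
        have hk0' := kernel_graph (α := star (u c)) (β := star (u (π c))) (φ := (d c : HQ F)) fun x y hxy => by
          let vx : ι → HQ F := fun f => if f = c then x else if f = π c then y else 0
          have := hfix vx (by
            rw [Finset.sum_eq_add c (π c) (Ne.symm hcm)]
            · simpa [vx, hcm] using hxy
            · intro f _ hf; simp [vx, hf.1, hf.2]
            · simp
            · simp) (by simp [vx, Ne.symm hca, Ne.symm hcb, Ne.symm hne'.1, Ne.symm hne'.2]) c
          simpa [vx, hcm] using this.symm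
        have h3 : star (u (π c)) * (d c : HQ F) = star (u c) := by
          rw [hwu c, star_mul, mul_assoc, star_mul_coe, mul_one]
        rw [h3] at hk0'
        exact hu c hcA (eq_zero_of_neg H.h2 (by
          have := congrArg star hk0'
          rw [star_add, star_star, star_zero] at this
          exact neg_eq_of_add_eq_zero_right this))
      have hone : ∀ c, π c = c → d c = 1 := by
        intro c hc
        by_cases hcA : c ∈ A
        · rcases sq_one_SL1 H.h2 (x := d c) (Subtype.ext (by simpa [hc] using (hwinv c).2)) with h | h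
          · exact h
          · exfalso
            refine hu c hcA (eq_zero_of_neg H.h2 ?_)
            have := hwu c
            rw [hc, h, coe_negOne, neg_one_mul] at this
            exact this.symm
        · exact (hout c hcA).2
      rcases commute_sw_mon hab hvw with ⟨h1, h2, -⟩ | ⟨h1, h2, -⟩
      · apply hw1
        rw [hwπ, ← mon_one]
        have hall : ∀ c, π c = c := fun c => by
          by_cases h : c = a
          · rw [h, h1]
          by_cases h' : c = b
          · rw [h', h2]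
          exact hmove c h h'
        exact congrArg₂ mon (Equiv.ext hall) (funext fun c => hone c (hall c))
      · have hw_eq : w = sw a b (d a) := by
          rw [hwπ, sw]
          refine congrArg₂ mon (Equiv.ext fun c => ?_) (funext fun c => ?_)
          ·
            by_cases h : c = a
            · rw [h, h1, swap_apply_left]
            by_cases h' : c = b
            · rw [h', h2, swap_apply_right]
            rw [hmove c h h', swap_apply_of_ne_of_ne h h']
          · by_cases h : c = a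
            · rw [h, if_pos rfl]
            by_cases h' : c = b
            · rw [h', if_neg (Ne.symm hab), if_pos rfl]
              have := (hwinv a).2
              rw [h1] at this
              exact eq_inv_of_mul_eq_one_left (Subtype.ext this)
            rw [if_neg h, if_neg h', hone c (hmove c h h')]
        exact hnocomm (d a) (hw_eq ▸ hwK.1) k hk e hs hne (by rw [← hw_eq]; exact hwy.symm)
    · -- `w u = -u`
      simp only [Quaternion.coe_neg, Quaternion.coe_one, mul_neg, mul_one] at hwu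
      rcases commute_sw_mon hab hvw with ⟨h1, h2, h3⟩ | ⟨h1, h2, h3⟩
      · exfalso
        have hda : d a = negOne := by
          rcases sq_one_SL1 H.h2 (x := d a) (Subtype.ext (by simpa [h1] using (hwinv a).2)) with h | h
          · exfalso
            refine hu a ha (eq_zero_of_neg H.h2 ?_)
            have := hwu a
            rw [h1, h, coe_one_SL1, one_mul] at this
            exact this
          · exact h
        obtain ⟨⟨p, s⟩, hps, hne'⟩ := exists_kernel_ne_zero (F := F)
          { toFun := fun p => (star (u a) + star (u b) * (φ : HQ F)) * p.1 + star (u c0) * p.2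
            map_zero' := by simp
            map_add' := fun p r => by simp only [Prod.fst_add, Prod.snd_add, mul_add]; abel }
        change (star (u a) + star (u b) * (φ : HQ F)) * p + star (u c0) * s = 0 at hps
        let vx : ι → HQ F := fun f => if f = a then p else if f = b then (φ : HQ F) * p else if f = c0 then s else 0
        have hvx := hfix vx (by
          rw [← hps, ← Finset.sum_subset (Finset.subset_univ {a, b, c0}) (fun f _ hf => by
              simp only [Finset.mem_insert, Finset.mem_singleton, not_or] at hf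
              simp [vx, hf.1, hf.2.1, hf.2.2]),
            Finset.sum_insert (by simp [hab, Ne.symm hc0a]), Finset.sum_insert (by simp [Ne.symm hc0b]),
            Finset.sum_singleton]
          simp [vx, Ne.symm hab, hc0a, hc0b, add_mul, mul_assoc, add_assoc]) (by simp [vx, Ne.symm hab])
        have hp : p = 0 := by
          have := hvx a
          rw [h1, hda] at this
          simp [vx, coe_negOne] at this
          exact eq_zero_of_neg H.h2 this
        have hs' : s = 0 := by
          have := hvx c0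
          by_cases hc : π c0 = c0
          · have hd0 : d c0 = negOne := by
              rcases sq_one_SL1 H.h2 (x := d c0) (Subtype.ext (by simpa [hc] using (hwinv c0).2)) with h | h
              · exfalso
                refine hu c0 hc0 (eq_zero_of_neg H.h2 ?_)
                have := hwu c0
                rw [hc, h, coe_one_SL1, one_mul] at this
                exact this
              · exact h
            rw [hc, hd0] at this
            simp [vx, hc0a, hc0b, coe_negOne] at this
            exact eq_zero_of_neg H.h2 this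
          · have hna : π c0 ≠ a := fun h => hc0a (π.injective (h.trans h1.symm))
            have hnb : π c0 ≠ b := fun h => hc0b (π.injective (h.trans h2.symm))
            simp [vx, hc0a, hc0b, hna, hnb, hc, coe_ne_zero] at this
            have h4 : star (d c0 : HQ F) * ((d c0 : HQ F) * s) = 0 := by rw [this, mul_zero]
            rwa [← mul_assoc, star_mul_coe, one_mul] at h4
        exact hne' (by rw [hp, hs']; rfl)
      · have hdb : d b = (d a)⁻¹ := by
          have := (hwinv a).2
          rw [h1] at this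
          exact eq_inv_of_mul_eq_one_left (Subtype.ext this)
        rw [hdb] at h3
        have hχ : φ⁻¹ * d a * (φ⁻¹ * d a) = 1 := by
          conv_lhs => arg 1; rw [← h3]
          simp [mul_assoc]
        have hub : u b = -((d a : HQ F) * u a) := by
          have := hwu a
          rw [h1] at this
          rw [← this, neg_neg]
        rcases sq_one_SL1 H.h2 hχ with h | h
        · show u b = -((φ : HQ F) * u a)
          rw [hub, inv_mul_eq_one.1 h]
        · exfalso
          rw [inv_mul_eq_iff_eq_mul] at h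
          have hub' : u b = (φ : HQ F) * u a := by
            rw [hub, h, coe_mul_SL1, coe_negOne]; simp
          refine hnocomm φ hv k hk e hs hne ?_
          -- `v` fixes the column
          have hcol : ∀ c, ((sw a b φ * k : SpH ι F) : Matrix ι ι (HQ F)) c e = u c := by
            intro c
            rw [mul_apply', Finset.sum_eq_single (swap a b c)]
            · rw [sw, mon_apply, swap_apply_self, if_pos rfl]
              by_cases h1' : c = a
              · subst h1'
                rw [swap_apply_left, if_neg (Ne.symm hab), if_pos rfl, coe_inv_SL1]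
                show star (φ : HQ F) * u b = u c
                rw [hub', ← mul_assoc, star_mul_coe, one_mul]
              by_cases h2' : c = b
              · subst h2'
                rw [swap_apply_right, if_pos rfl]
                exact hub'.symm
              rw [swap_apply_of_ne_of_ne h1' h2', if_neg h1', if_neg h2', coe_one_SL1, one_mul]
            · intro f _ hf
              rw [sw, mon_apply, if_neg, zero_mul]
              intro h'
              exact hf (by rw [h', swap_apply_self])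
            · simp
          have heq : (sw a b φ * k) * z e * (sw a b φ * k)⁻¹ = y := by
            refine SpH.ext fun c f => ?_
            rw [hy, conj_z_apply, conj_z_apply, hcol, hcol]
          have e2 : sw a b φ * y * (sw a b φ)⁻¹ = y := by
            conv_rhs => rw [← heq]
            rw [hy]; simp [mul_assoc]
          exact (mul_inv_eq_iff_eq_mul.1 e2).symm
  -- conjugation by a sign change
  have h1 := hrel k0 hk0 e0 hs0 hne0
  have hzK : (z a : SpH ι F) ∈ KA := ⟨H.zB_mem _, zB_mem_Fix (by simpa using ha)⟩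
  have h2 := hrel (z a * k0) (K.mul_mem hzK.1 hk0) e0 (Fix_mul_supp H hzK.2 hs0) fun ⟨d, hd⟩ => hne0 ⟨d, by
    have e : k0 * z e0 * k0⁻¹ = (z a)⁻¹ * z d * z a := by rw [← hd]; simp [mul_assoc]
    rw [e, z_inv, mul_assoc, z, z, zB_mul, zB_mul]
    congr 1
    ext x
    simp only [Finset.mem_symmDiff, Finset.mem_singleton]
    tauto⟩
  have hent : ∀ c, ((z a * k0 : SpH ι F) : Matrix ι ι (HQ F)) c e0 =
      (if c = a then -1 else 1) * (k0 : Matrix ι ι (HQ F)) c e0 := by
    intro c
    rw [mul_apply', Finset.sum_eq_single c]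
    · rw [z_apply, if_pos rfl]
    · intro f _ hf; rw [z_apply, if_neg (Ne.symm hf), zero_mul]
    · simp
  rw [hent, hent, if_neg (Ne.symm hab), if_pos rfl, one_mul, neg_one_mul, mul_neg, neg_neg] at h2
  have hu0 := hnz k0 hk0 e0 hs0 hne0 b hb
  exact hu0 (eq_zero_of_neg H.h2 (by rw [h1, neg_neg]; exact (h1.symm.trans h2).symm ▸ rfl))

end step

/-- All conjugates of sign changes in such a group are sign changes. -/
theorem cl_all (H : FrameHyp K) : ∀ A : Finset ι, CL K A := by
  intro A
  induction A using Finset.strongInductionOn with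
  | _ A ih =>
    rcases Nat.lt_or_ge A.card 3 with h | h
    · interval_cases hc : A.card
      · intro k _ e hs
        exfalso
        have hn := col_norm k e e
        rw [if_pos rfl, Finset.sum_eq_zero (fun c _ => by
          rw [hs c (by rw [Finset.card_eq_zero.1 hc]; simp), mul_zero])] at hn
        exact zero_ne_one hn
      · obtain ⟨d, hd⟩ := Finset.card_eq_one.1 hc
        intro k _ e hs
        exact ⟨d, conj_z_eq_z_of_single k e d fun c hcd => hs c (by rw [hd]; simpa using hcd)⟩
      · exact two_case H (fun B hB => ih B hB) hc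
    · exact big_case H (fun B hB => ih B hB) h

/-- The group consists of monomial elements. -/
theorem le_Mon_of_frameHyp (H : FrameHyp K) : K ≤ Mon ι F := fun k hk =>
  mem_Mon_of_conj H.h2 fun a => cl_all H Finset.univ k hk a fun c hc => absurd (Finset.mem_univ c) hc

end H47.PSp
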