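import Cfsg.Agent.H47.PSp.Engine
import Cfsg.Agent.H36.Pronormal
import Cfsg.Agent.H39.PronormalPSL

/-!
Subgroups of odd index in products of quaternionic unitary groups are pronormal.
-/

set_option autoImplicit false
set_option linter.unusedSectionVars false
set_option linter.unusedSimpArgs false
set_option linter.style.haveILetI false
set_option maxHeartbeats 2000000

namespace H47.PSp

open Equiv Subgroup

section quat

variable {F : Type*} [Field F] (h2 : (2 : F) ≠ 0)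
include h2

theorem eq_axis_of_commute {e v : SL1 F} (he : IsAxis e) (hv : v * v = negOne) (hc : v * e = e * v) :
    v = e ∨ v = negOne * e := by
  have hee : e * e = (negOne : SL1 F) := by
    rcases he with rfl | rfl | rfl <;> apply SL1.ext <;>
      simp [coe_mul_SL1, coe_negOne, Quaternion.re_one, Quaternion.imI_one, Quaternion.imJ_one, Quaternion.imK_one]
  have h1 : v * e⁻¹ * (v * e⁻¹) = 1 := by
    have hc' : Commute v e⁻¹ := (show Commute v e from hc).inv_right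
    calc v * e⁻¹ * (v * e⁻¹) = v * (e⁻¹ * v) * e⁻¹ := by simp only [mul_assoc]
      _ = v * v * (e * e)⁻¹ := by rw [← hc'.eq, _root_.mul_inv_rev]; simp only [mul_assoc]
      _ = 1 := by rw [hv, hee, mul_inv_cancel]
  rcases sq_one_SL1 h2 h1 with h | h
  · exact Or.inl (mul_inv_eq_one.1 h)
  · exact Or.inr (mul_inv_eq_iff_eq_mul.1 h)

theorem axis_shift {e : SL1 F} (he : IsAxis e) {n : ℕ} (hn : n < 3) (hn0 : n ≠ 0) :
    IsAxis ((qw h2 ^ n)⁻¹ * e * qw h2 ^ n) ∧ e ≠ (qw h2 ^ n)⁻¹ * e * qw h2 ^ n := by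
  have hi : (qw h2)⁻¹ * qi * qw h2 = qj := by rw [mul_assoc, ← qw_qj h2, inv_mul_cancel_left]
  have hj : (qw h2)⁻¹ * qj * qw h2 = qk := by rw [mul_assoc, ← qw_qk h2, inv_mul_cancel_left]
  have hk : (qw h2)⁻¹ * qk * qw h2 = qi := by rw [mul_assoc, ← qw_qi h2, inv_mul_cancel_left]
  have hij : (qi : SL1 F) ≠ qj := fun h => by
    have := congrArg (fun x : SL1 F => (x : HQ F).imI) h
    simp at this
  have hjk : (qj : SL1 F) ≠ qk := fun h => by
    have := congrArg (fun x : SL1 F => (x : HQ F).imJ) h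
    simp at this
  have hki : (qk : SL1 F) ≠ qi := fun h => by
    have := congrArg (fun x : SL1 F => (x : HQ F).imK) h
    simp at this
  have h22 : ∀ x : SL1 F, (qw h2 ^ 2)⁻¹ * x * qw h2 ^ 2 = (qw h2)⁻¹ * ((qw h2)⁻¹ * x * qw h2) * qw h2 :=
    fun x => by rw [pow_two]; simp [mul_assoc]
  interval_cases n
  · exact absurd rfl hn0
  · rw [pow_one]
    rcases he with rfl | rfl | rfl
    · rw [hi]; exact ⟨Or.inr (Or.inl rfl), hij⟩
    · rw [hj]; exact ⟨Or.inr (Or.inr rfl), hjk⟩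
    · rw [hk]; exact ⟨Or.inl rfl, hki⟩
  · rw [h22]
    rcases he with rfl | rfl | rfl
    · rw [hi, hj]; exact ⟨Or.inr (Or.inr rfl), hki.symm⟩
    · rw [hj, hk]; exact ⟨Or.inl rfl, hij.symm⟩
    · rw [hk, hi]; exact ⟨Or.inr (Or.inl rfl), hjk.symm⟩

/-- Conjugation preserving a subgroup of `Ax e` larger than `Q8` fixes the axis. -/
theorem mem_Ax_of_conj {e : SL1 F} (he : IsAxis e) {A0 : Subgroup (SL1 F)} (hQ : Q8 F ≤ A0)
    (hA : A0 ≤ Ax e) {x : SL1 F} (hx : x ∈ A0) (hxQ : x ∉ Q8 F) {a : SL1 F}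
    (ha : ∀ y ∈ A0, a * y * a⁻¹ ∈ A0) : a ∈ Ax e := by
  have hee : e * e = (negOne : SL1 F) := by
    rcases he with rfl | rfl | rfl <;> apply SL1.ext <;>
      simp [coe_mul_SL1, coe_negOne, Quaternion.re_one, Quaternion.imI_one, Quaternion.imJ_one, Quaternion.imK_one]
  obtain ⟨f, hfQ, hf⟩ : ∃ f ∈ Q8 F, f * e = negOne * (e * f) := by
    rcases he with rfl | rfl | rfl
    · exact ⟨qj, qj_mem_Q8, by apply SL1.ext <;> simp [coe_mul_SL1, coe_negOne]⟩
    · exact ⟨qk, qk_mem_Q8, by apply SL1.ext <;> simp [coe_mul_SL1, coe_negOne]⟩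
    · exact ⟨qi, qi_mem_Q8, by apply SL1.ext <;> simp [coe_mul_SL1, coe_negOne]⟩
  have hanti : ∀ v : SL1 F, v * e * v⁻¹ = negOne * e → v * e = negOne * (e * v) := fun v h => by
    rw [mul_inv_eq_iff_eq_mul.1 h, mul_assoc]
  have hprod : ∀ u v : SL1 F, u * e = negOne * (e * u) → v * e = negOne * (e * v) →
      u * v * e = e * (u * v) := by
    intro u v hu hv
    calc u * v * e = u * (negOne * (e * v)) := by rw [mul_assoc, hv]
      _ = negOne * ((u * e) * v) := by rw [← mul_assoc u, ← negOne_comm u]; simp [mul_assoc]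
      _ = e * (u * v) := by rw [hu]; simp [← mul_assoc, negOne_mul_self]
  obtain ⟨x', hx', hxQ', hxe⟩ : ∃ x' ∈ A0, x' ∉ Q8 F ∧ x' * e = e * x' := by
    rcases hA hx with h | h
    · exact ⟨x, hx, hxQ, mul_inv_eq_iff_eq_mul.1 h⟩
    · exact ⟨x * f, mul_mem hx (hQ hfQ), fun h' => hxQ ((Subgroup.mul_mem_cancel_right _ hfQ).1 h'),
        hprod x f (hanti x h) hf⟩
  set e' := a * e * a⁻¹ with he'
  set v := a * x' * a⁻¹ with hv
  have he'2 : e' * e' = negOne := by
    rw [he']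
    calc a * e * a⁻¹ * (a * e * a⁻¹) = a * (e * e) * a⁻¹ := by simp [mul_assoc]
      _ = negOne := by rw [hee, ← negOne_comm, mul_inv_cancel_right]
  have hgoal : e' * e = e * e' → a ∈ Ax e := fun h => eq_axis_of_commute h2 he he'2 h
  have hve : e' * v = v * e' := by
    rw [he', hv]
    calc a * e * a⁻¹ * (a * x' * a⁻¹) = a * (e * x') * a⁻¹ := by simp [mul_assoc]
      _ = a * x' * a⁻¹ * (a * e * a⁻¹) := by rw [← hxe]; simp [mul_assoc]
  rcases hA (ha e (hQ (axis_mem_Q8 he))) with hec | hea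
  · exact hgoal (mul_inv_eq_iff_eq_mul.1 hec)
  refine hgoal ?_
  have hne : ∀ u : SL1 F, u ∈ Q8 F → v ≠ a * u * a⁻¹ := fun u hu h =>
    hxQ' (by rw [show x' = u from mul_left_cancel (mul_right_cancel h)]; exact hu)
  rcases hA (ha x' hx') with hc | hc
  · refine commute_axis_of_commute h2 he (mul_inv_eq_iff_eq_mul.1 hc) (fun h => hne 1 (one_mem _) ?_)
      (fun h => hne negOne negOne_mem_Q8 ?_) hve
    · rw [hv, h]; simp
    · rw [hv, h, ← negOne_comm, mul_inv_cancel_right]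
  · by_contra hcon
    have hw : v * e' * e = e * (v * e') := hprod v e' (hanti v hc) (hanti e' hea)
    have hwe : e' * (v * e') = v * e' * e' := by rw [← mul_assoc, hve]
    by_cases h1 : v * e' = 1
    · refine hne (negOne * e) (mul_mem negOne_mem_Q8 (axis_mem_Q8 he)) ?_
      calc v = v * e' * e'⁻¹ := (mul_inv_cancel_right v e').symm
        _ = a * e⁻¹ * a⁻¹ := by rw [h1, he']; simp [mul_assoc]
        _ = a * (negOne * e) * a⁻¹ := by rw [inv_eq_of_mul_eq_one_right (a := e) (b := negOne * e)]; rw [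
            ← mul_assoc, ← negOne_comm, mul_assoc, hee, negOne_mul_self]
    by_cases h1' : v * e' = negOne
    · refine hne e (axis_mem_Q8 he) ?_
      calc v = v * e' * e'⁻¹ := (mul_inv_cancel_right v e').symm
        _ = e' * e' * e'⁻¹ := by rw [h1', he'2]
        _ = e' := mul_inv_cancel_right _ _
    exact hcon (commute_axis_of_commute h2 he hw h1 h1' hwe)

end quat

section coord

variable {F : Type*} [Field F] [Finite F] {ι : Type*} [Fintype ι] [DecidableEq ι] (h2 : (2 : F) ≠ 0)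
  (hsq : ¬ IsSquare (2 : F)) {P : Subgroup (Perm ι)} (hP : Good P) {J L : Subgroup (SpH ι F)}
include h2 hsq hP

/-- The commutator with the element of order three lies in the Sylow 2-subgroup. -/
theorem comm_wAll_mem (hSL : sylS P (Q8 F) ≤ L) (hLJ : J ≤ normalizer (L : Set (SpH ι F)))
    (hSJ : sylS P (Q8 F) ≤ J) (hw : wAll h2 ι ∉ L) {n : ℕ} (hn : n < 3) (hn0 : n ≠ 0) {h : SpH ι F}
    (hh : h ∈ J) (hh' : wAll h2 ι ^ n * h * (wAll h2 ι ^ n)⁻¹ ∈ J) :
    h⁻¹ * (wAll h2 ι ^ n * h * (wAll h2 ι ^ n)⁻¹) ∈ sylS P (Q8 F) := by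
  classical
  have hMon : J ≤ Mon ι F := hLJ.trans (normalizer_le_Mon h2 hsq hP hSL hw)
  set q := qw h2 ^ n with hq
  have hWn : wAll h2 ι ^ n = diag fun _ => q := by rw [wAll, ← map_pow]; rfl
  obtain ⟨π, d, rfl⟩ := hMon hh
  have hconj : wAll h2 ι ^ n * mon π d * (wAll h2 ι ^ n)⁻¹ = mon π (fun b => q * d b * q⁻¹) := by
    rw [hWn, diag_def, mon_inv, mon_mul, mon_mul, inv_one, mul_one, one_mul]
    rfl
  rw [hconj] at hh' ⊢
  suffices hN : ∀ b, d b ∈ normalizer (Q8 F : Set (SL1 F)) by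
    rw [mon_inv, mon_mul, inv_mul_cancel, ← diag_def, diag_mem_sylS]
    intro b
    rw [Perm.coe_inv, Equiv.symm_apply_apply]
    obtain ⟨m, -, q', hq', hd⟩ := normalizer_Q8 h2 hsq (hN b)
    have hqN : q ∈ normalizer (Q8 F : Set (SL1 F)) := pow_mem (qw_mem_normalizer h2) n
    have : (d b)⁻¹ * (q * d b * q⁻¹) = q'⁻¹ * (q * q' * q⁻¹) := by
      rw [hd, hq]
      have hc : qw h2 ^ n * qw h2 ^ m = qw h2 ^ m * qw h2 ^ n := by rw [← pow_add, ← pow_add, add_comm]
      calc (qw h2 ^ m * q')⁻¹ * (qw h2 ^ n * (qw h2 ^ m * q') * (qw h2 ^ n)⁻¹)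
          = q'⁻¹ * (qw h2 ^ m)⁻¹ * ((qw h2 ^ n * qw h2 ^ m) * q' * (qw h2 ^ n)⁻¹) := by simp [mul_assoc]
        _ = q'⁻¹ * (qw h2 ^ n * q' * (qw h2 ^ n)⁻¹) := by rw [hc]; simp [mul_assoc]
    rw [this]
    exact mul_mem (inv_mem hq') ((mem_normalizer_iff.1 hqN q').1 hq')
  -- entries
  rcases isEmpty_or_nonempty ι with hι | ⟨⟨a0⟩⟩
  · exact fun b => isEmptyElim b
  set A0 : Subgroup (SL1 F) := L.comap (diag.comp (MonoidHom.mulSingle (fun _ : ι => SL1 F) a0)) with hA0
  have hA0m : ∀ x, x ∈ A0 ↔ diag (Pi.mulSingle a0 x) ∈ L := fun x => Iff.rfl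
  have hQA0 : Q8 F ≤ A0 := fun x hx => (hA0m x).2 (hSL (diag_single_mem_sylS hx))
  have hperm : ∀ σ ∈ P, mon σ (fun _ => (1 : SL1 F)) ∈ J := fun σ hσ =>
    hSJ (mon_mem_sylS.2 ⟨hσ, fun _ => one_mem _⟩)
  have hnormA : ∀ π d, mon π d ∈ J → ∀ b, ∀ y ∈ A0, d b * y * (d b)⁻¹ ∈ A0 := by
    intro π d hπd b y hy
    obtain ⟨σ, hσ, hσb⟩ := hP.trans a0 b
    obtain ⟨τ, hτ, hτb⟩ := hP.trans (π b) a0
    have hm := mul_mem (mul_mem (hperm τ hτ) hπd) (hperm σ hσ)
    rw [mon_mul, mon_mul] at hm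
    have := (mem_normalizer_iff.1 (hLJ hm) _).1 ((hA0m y).1 hy)
    rw [mon_conj_diag] at this
    rw [hA0m]
    convert this using 2
    funext c
    obtain ⟨c, rfl⟩ := (τ * π * σ).surjective c
    rw [Perm.coe_inv, Equiv.symm_apply_apply]
    by_cases hc : c = a0
    · subst hc
      rw [Perm.mul_apply, Perm.mul_apply, hσb, hτb, Pi.mulSingle_eq_same, Pi.mulSingle_eq_same]
      simp
    · rw [Pi.mulSingle_eq_of_ne hc, Pi.mulSingle_eq_of_ne]
      · simp
      · intro h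
        refine hc ((τ * π * σ).injective ?_)
        rw [h, Perm.mul_apply, Perm.mul_apply, hσb, hτb]
  have hw0 : qw h2 ∉ A0 := by
    intro hwA
    refine hw ?_
    show (fun _ => qw h2) ∈ L.comap diag
    refine Subgroup.pi_mem_of_mulSingle_mem _ fun b => ?_
    show diag (Pi.mulSingle b (qw h2)) ∈ L
    obtain ⟨σ, hσ, hσb⟩ := hP.trans a0 b
    have := (mem_normalizer_iff.1 (hLJ (hperm σ hσ)) _).1 ((hA0m _).1 hwA)
    rw [mon_conj_diag] at this
    convert this using 2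
    funext c
    obtain ⟨c, rfl⟩ := σ.surjective c
    rw [Perm.coe_inv, Equiv.symm_apply_apply, one_mul, inv_one, mul_one, ← hσb]
    by_cases hc : c = a0
    · rw [hc, Pi.mulSingle_eq_same, Pi.mulSingle_eq_same]
    · rw [Pi.mulSingle_eq_of_ne hc, Pi.mulSingle_eq_of_ne (fun h => hc (σ.injective h))]
  intro b
  by_cases hA0Q : A0 ≤ Q8 F
  · refine mem_normalizer_iff_map_conj_eq.2 (Subgroup.eq_of_le_of_card_ge ?_
      (le_of_eq (card_map_of_injective (MulAut.conj (d b)).injective).symm))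
    rintro _ ⟨x, hx, rfl⟩
    exact hA0Q (hnormA π d hh b x (hQA0 hx))
  obtain ⟨x, hx, hxQ⟩ := SetLike.not_le_iff_exists.1 hA0Q
  obtain ⟨e, he, hAe⟩ := exists_axis h2 hsq hQA0 hw0
  have h1 := mem_Ax_of_conj h2 he hQA0 hAe hx hxQ (hnormA π d hh b)
  have h3 := mem_Ax_of_conj h2 he hQA0 hAe hx hxQ (hnormA π _ hh' b)
  obtain ⟨he', hne⟩ := axis_shift h2 he hn hn0
  refine mem_normalizer_of_two_axes h2 he he' hne h1 ?_
  have key : d b * (q⁻¹ * e * q) * (d b)⁻¹ = q⁻¹ * (q * d b * q⁻¹ * e * (q * d b * q⁻¹)⁻¹) * q := by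
    simp [mul_assoc]
  rw [mem_Ax, key]
  rcases h3 with h | h <;> rw [h]
  · exact Or.inl rfl
  · refine Or.inr ?_
    rw [← mul_assoc q⁻¹, ← negOne_comm]
    simp [mul_assoc, hq]

end coord

section product

variable {t : Type*} [Fintype t] {ι : t → Type*} [∀ i, Fintype (ι i)] [∀ i, DecidableEq (ι i)]
  [∀ i, Nonempty (ι i)] {F : t → Type*} [∀ i, Field (F i)] [∀ i, Finite (F i)]

/-- Subgroups of odd index in a product of quaternionic unitary groups are pronormal. -/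
theorem isPronormal_pi (h2 : ∀ i, (2 : F i) ≠ 0) {P : ∀ i, Subgroup (Perm (ι i))} (hP : ∀ i, Good (P i))
    {H : Subgroup (∀ i, SpH (ι i) (F i))} (hH : Odd H.index) : Cfsg.IsPronormal H := by
  classical
  haveI : Fact (Nat.Prime 2) := ⟨Nat.prime_two⟩
  choose R hR hQR hns hsqN using fun i => exists_sylow_quat (F := F i) (h2 i)
  set S : Subgroup (∀ i, SpH (ι i) (F i)) := Subgroup.pi Set.univ fun i => sylS (P i) (R i) with hSdef
  have hmem : ∀ g, g ∈ S ↔ ∀ i, g i ∈ sylS (P i) (R i) := fun g => by simp [hSdef, Subgroup.mem_pi]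
  have hsingle : ∀ i, ∀ x ∈ sylS (P i) (R i), (Pi.mulSingle i x : ∀ i, SpH (ι i) (F i)) ∈ S := by
    intro i x hx
    rw [hmem]
    intro j
    by_cases hji : j = i
    · subst hji; rw [Pi.mulSingle_eq_same]; exact hx
    · rw [Pi.mulSingle_eq_of_ne hji]; exact one_mem _
  have hSp : IsPGroup 2 S := by
    rintro ⟨g, hg⟩
    choose j hj using fun i => isPGroup_sylS (hP i).two (hR i) ⟨g i, (hmem g).1 hg i⟩
    refine ⟨∑ i, j i, Subtype.ext (funext fun i => ?_)⟩
    show g i ^ 2 ^ (∑ i, j i) = 1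
    have h1 : g i ^ 2 ^ j i = 1 := congrArg Subtype.val (hj i)
    rw [← Finset.add_sum_erase _ _ (Finset.mem_univ i), pow_add, pow_mul, h1, one_pow]
  have hSmax : ∀ T : Subgroup (∀ i, SpH (ι i) (F i)), IsPGroup 2 T → S ≤ T → T = S := by
    intro T hT hle
    refine le_antisymm (fun g hg => (hmem g).2 fun i => ?_) hle
    set T' := T.map (Pi.evalMonoidHom (fun i => SpH (ι i) (F i)) i)
    have := sylS_maximal (h2 i) (hP i) (hR i) (hQR i) (hns i) (hsqN i) (T := T') (hT.map _)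
      (fun x hx => ⟨_, hle (hsingle i x hx), Pi.mulSingle_eq_same (M := fun i => SpH (ι i) (F i)) i x⟩)
    exact this ▸ ⟨g, hg, rfl⟩
  let Ss : Sylow 2 (∀ i, SpH (ι i) (F i)) := ⟨S, hSp, fun {T} hT hle => hSmax T hT hle⟩
  -- reduce to overgroups of the Sylow subgroup
  suffices key : ∀ K : Subgroup (∀ i, SpH (ι i) (F i)), S ≤ K → Cfsg.IsPronormal K by
    obtain ⟨Q, hQ⟩ := (H36.exists_sylow_le_iff (p := 2) H).2
      (fun h => by rw [← even_iff_two_dvd, ← Nat.not_odd_iff_even] at h; exact h hH)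
    obtain ⟨g, hg⟩ := MulAction.exists_smul_eq (∀ i, SpH (ι i) (F i)) Ss Q
    have hle : S ≤ H73.cj g⁻¹ H := by
      rw [← H73.cj_le_iff]
      refine le_trans (le_of_eq ?_) hQ
      rw [← hg, Sylow.coe_subgroup_smul]
      rfl
    have := H36.pronormal_cj g (key _ hle)
    rwa [H73.cj_cj, mul_inv_cancel, H73.cj_one] at this
  intro K hSK
  refine H39.pronormal_of_key Ss hSK fun n hn => ?_
  set J := K ⊔ H73.cj n K with hJ
  have hnS : ∀ i, n i ∈ normalizer (sylS (P i) (R i) : Set (SpH (ι i) (F i))) := by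
    intro i
    refine mem_normalizer_iff_map_conj_eq.2 (Subgroup.eq_of_le_of_card_ge ?_
      (le_of_eq (card_map_of_injective (MulAut.conj (n i)).injective).symm))
    rintro _ ⟨x, hx, rfl⟩
    have := (hmem _).1 ((mem_normalizer_iff.1 hn _).1 (hsingle i x hx)) i
    simpa using this
  have hdec : ∀ i, ∃ s ∈ sylS (P i) (R i), ∃ e < 3, n i = s * wAll (h2 i) (ι i) ^ e ∧
      (e ≠ 0 → ¬ IsSquare (2 : F i)) := by
    intro i
    by_cases hsq : IsSquare (2 : F i)
    · have := hnS i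
      rw [normalizer_sylS_square (h2 i) (hP i) (hQR i) (hsqN i hsq)] at this
      exact ⟨n i, this, 0, by norm_num, by simp, fun h => absurd rfl h⟩
    · have := hnS i
      rw [hns i hsq] at this
      obtain ⟨s, hs, e, he, hne⟩ := normalizer_sylS_nonsquare (h2 i) hsq (hP i) this
      exact ⟨s, by rw [hns i hsq]; exact hs, e, he, hne, fun _ => hsq⟩
  choose s hs e he hne hsq using hdec
  set W : ∀ i, SpH (ι i) (F i) := fun i => wAll (h2 i) (ι i) ^ e i with hW
  have hsS : s ∈ S := (hmem s).2 hs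
  have hn_eq : n = s * W := funext hne
  have hcase : ∀ i, (Pi.mulSingle i (W i) : ∀ i, SpH (ι i) (F i)) ∈ J ∨
      (Pi.mulSingle i (W i) : ∀ i, SpH (ι i) (F i)) ∈ normalizer (K : Set (∀ i, SpH (ι i) (F i))) := by
    intro i
    by_cases he0 : e i = 0
    · left
      rw [show W i = 1 by simp [hW, he0], Pi.mulSingle_one]
      exact one_mem _
    have hsqi := hsq i he0
    have hRQ := hns i hsqi
    set L := J.comap (MonoidHom.mulSingle (fun i => SpH (ι i) (F i)) i) with hL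
    by_cases hwL : wAll (h2 i) (ι i) ∈ L
    · exact Or.inl (show W i ∈ L from pow_mem hwL _)
    right
    set Ji := J.map (Pi.evalMonoidHom (fun i => SpH (ι i) (F i)) i)
    have hSL : sylS (P i) (Q8 (F i)) ≤ L := fun x hx =>
      le_sup_left (a := K) (hSK (hsingle i x (by rw [hRQ]; exact hx)))
    have hSJ : sylS (P i) (Q8 (F i)) ≤ Ji := fun x hx => ⟨_, hSL hx, Pi.mulSingle_eq_same (M := fun i => SpH (ι i) (F i)) i x⟩
    have hLJ : Ji ≤ normalizer (L : Set (SpH (ι i) (F i))) := by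
      rintro _ ⟨g, hg, rfl⟩
      refine mem_normalizer_iff_map_conj_eq.2 (Subgroup.eq_of_le_of_card_ge ?_
        (le_of_eq (card_map_of_injective (MulAut.conj (g i)).injective).symm))
      rintro _ ⟨x, hx, rfl⟩
      have : g * Pi.mulSingle i x * g⁻¹ ∈ J := mul_mem (mul_mem hg hx) (inv_mem hg)
      show (Pi.mulSingle i (g i * x * (g i)⁻¹) : ∀ i, SpH (ι i) (F i)) ∈ J
      convert this using 1
      funext j
      by_cases hji : j = i
      · subst hji; simp
      · simp [Pi.mulSingle_eq_of_ne hji]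
    refine mem_normalizer_iff_map_conj_eq.2 (Subgroup.eq_of_le_of_card_ge ?_
      (le_of_eq (card_map_of_injective (MulAut.conj _).injective).symm))
    rintro _ ⟨h, hh, rfl⟩
    have hhJ : h i ∈ Ji := ⟨h, le_sup_left (a := K) hh, rfl⟩
    have hhJ' : W i * h i * (W i)⁻¹ ∈ Ji := by
      have h1 : (n * h * n⁻¹) i ∈ Ji := ⟨_, le_sup_right (b := H73.cj n K) (H73.conj_mem_cj.2 hh), rfl⟩
      have hsJ : s i ∈ Ji := hSJ (by rw [← hRQ]; exact hs i)
      have := mul_mem (mul_mem (inv_mem hsJ) h1) hsJ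
      simpa [hn_eq, mul_assoc] using this
    have hc := comm_wAll_mem (h2 i) hsqi (hP i) hSL hLJ hSJ hwL (he i) he0 hhJ hhJ'
    have hcK := hSK (hsingle i _ (by rw [hRQ]; exact hc))
    show Pi.mulSingle i (W i) * h * (Pi.mulSingle i (W i))⁻¹ ∈ K
    convert mul_mem hh hcK using 1
    funext j
    by_cases hji : j = i
    · subst hji
      simp [hW, mul_assoc]
    · simp [Pi.mulSingle_eq_of_ne hji]
  set a : ∀ i, SpH (ι i) (F i) := fun i =>
    if (Pi.mulSingle i (W i) : ∀ i, SpH (ι i) (F i)) ∈ J then W i else 1 with ha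
  set b : ∀ i, SpH (ι i) (F i) := fun i =>
    if (Pi.mulSingle i (W i) : ∀ i, SpH (ι i) (F i)) ∈ J then 1 else W i with hb
  have haJ : a ∈ J := by
    refine Subgroup.pi_mem_of_mulSingle_mem _ fun i => ?_
    simp only [ha]
    split_ifs with h
    · exact h
    · rw [Pi.mulSingle_one]; exact one_mem _
  have hbN : b ∈ normalizer (K : Set (∀ i, SpH (ι i) (F i))) := by
    refine Subgroup.pi_mem_of_mulSingle_mem _ fun i => ?_
    simp only [hb]
    split_ifs with h
    · rw [Pi.mulSingle_one]; exact one_mem _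
    · exact (hcase i).resolve_left h
  have hab : W = a * b := by
    funext i
    simp only [Pi.mul_apply, ha, hb]
    split_ifs <;> simp
  refine ⟨s * a, mul_mem (le_sup_left (a := K) (hSK hsS)) haJ, ?_⟩
  rw [hn_eq, hab, ← mul_assoc, ← H73.cj_cj (s * a) b, H73.mem_normalizer_iff_cj.1 hbN]

end product

end H47.PSp
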