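import Cfsg.Agent.H47.PSp.SylowS
import Cfsg.Agent.H47.PSp.CLBig

/-!
Subgroups containing the Sylow 2-subgroup but not the element of order three have monomial normaliser.
-/

set_option autoImplicit false
set_option linter.unusedSectionVars false
set_option linter.unusedSimpArgs false
set_option linter.style.haveILetI false
set_option maxHeartbeats 2000000

namespace H47.PSp

open Matrix Equiv Subgroup
open scoped Quaternion

variable {F : Type*} [Field F] {ι : Type*} [Fintype ι] [DecidableEq ι]

/-- A 2-subgroup can be conjugated into a maximal one. -/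
theorem exists_conj_le_max {G : Type*} [Group G] [Finite G] {K S T : Subgroup G} (hS : IsPGroup 2 S)
    (hSK : S ≤ K) (hmax : ∀ U : Subgroup G, IsPGroup 2 U → S ≤ U → U = S) (hT : IsPGroup 2 T)
    (hTK : T ≤ K) : ∃ g ∈ K, ∀ x ∈ T, g * x * g⁻¹ ∈ S := by
  haveI : Fact (Nat.Prime 2) := ⟨Nat.prime_two⟩
  obtain ⟨P0, hP0⟩ := (hS.comap_subtype (K := K)).exists_le_sylow
  have hP0' : (P0 : Subgroup K).map K.subtype = S := by
    refine hmax _ (P0.2.map _) fun x hx => ?_
    exact ⟨⟨x, hSK hx⟩, hP0 (show K.subtype ⟨x, hSK hx⟩ ∈ S from hx), rfl⟩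
  obtain ⟨P1, hP1⟩ := (hT.comap_subtype (K := K)).exists_le_sylow
  obtain ⟨g, hg⟩ := MulAction.exists_smul_eq K P1 P0
  refine ⟨g, g.2, fun x hx => ?_⟩
  rw [← hP0']
  refine ⟨g * ⟨x, hTK hx⟩ * g⁻¹, ?_, rfl⟩
  rw [← hg, Sylow.coe_subgroup_smul]
  exact ⟨⟨x, hTK hx⟩, hP1 (show K.subtype ⟨x, hTK hx⟩ ∈ T from hx), rfl⟩

/-- The quaternion group is a maximal 2-group when `2` is not a square. -/
theorem Q8_maximal [Finite F] (h2 : (2 : F) ≠ 0) (hsq : ¬ IsSquare (2 : F)) {U : Subgroup (SL1 F)}
    (hU : IsPGroup 2 U) (hle : Q8 F ≤ U) : U = Q8 F := by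
  haveI : Fact (Nat.Prime 2) := ⟨Nat.prime_two⟩
  refine eq_of_pGroup_ge hU hle fun g hg j hj => ?_
  obtain ⟨n, hn, q, hq, rfl⟩ := normalizer_Q8 h2 hsq hg
  set w := qw h2
  have hpow : ∀ k : ℕ, ∃ q' ∈ Q8 F, (w ^ n * q) ^ k = (w ^ n) ^ k * q' := by
    intro k
    induction k with
    | zero => exact ⟨1, one_mem _, by simp⟩
    | succ k ih =>
      obtain ⟨q', hq', he⟩ := ih
      have hN : (w ^ n)⁻¹ ∈ normalizer (Q8 F : Set (SL1 F)) :=
        inv_mem (pow_mem (qw_mem_normalizer h2) n)
      refine ⟨(w ^ n)⁻¹ * q' * w ^ n * q, mul_mem ?_ hq, ?_⟩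
      · simpa using (mem_normalizer_iff.1 hN q').1 hq'
      · rw [pow_succ, he, pow_succ]
        simp [mul_assoc]
  obtain ⟨q', hq', he⟩ := hpow (2 ^ j)
  rw [hj] at he
  have hwj : (w ^ n) ^ 2 ^ j ∈ Q8 F := by
    rw [eq_inv_of_mul_eq_one_left he.symm]
    exact inv_mem hq'
  rw [← pow_mul, pow_eq_pow_mod (n * 2 ^ j) (qw_cube h2)] at hwj
  have hn0 : n = 0 := by
    by_contra hne
    have h3 : n * 2 ^ j % 3 = 1 ∨ n * 2 ^ j % 3 = 2 := by
      have hlt : n * 2 ^ j % 3 < 3 := Nat.mod_lt _ (by norm_num)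
      have hne0 : n * 2 ^ j % 3 ≠ 0 := fun h => by
        obtain ⟨t, rfl⟩ := ((by norm_num : Nat.Coprime 3 2).pow_right j).dvd_of_dvd_mul_right
          (Nat.dvd_of_mod_eq_zero h)
        omega
      omega
    apply qw_not_mem_Q8 h2
    rcases h3 with e | e <;> rw [e] at hwj
    · simpa using hwj
    · have := pow_mem hwj 2
      rwa [← pow_mul, show 2 * 2 = 3 + 1 from rfl, pow_succ, qw_cube, one_mul] at this
  subst hn0
  simpa using hq

/-- Entries of a conjugate of a diagonal element with one nontrivial entry. -/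
theorem conj_single_apply (k : SpH ι F) (a : ι) (x : SL1 F) (f h : ι) :
    ((k * diag (Pi.mulSingle a x) * k⁻¹ : SpH ι F) : Matrix ι ι (HQ F)) f h =
      (if f = h then 1 else 0) +
        (k : Matrix ι ι (HQ F)) f a * ((x : HQ F) - 1) * star ((k : Matrix ι ι (HQ F)) h a) := by
  rw [mul_apply', ← row_norm k f h]
  have e : ∀ e, ((k * diag (Pi.mulSingle a x) : SpH ι F) : Matrix ι ι (HQ F)) f e =
      (k : Matrix ι ι (HQ F)) f e * (if e = a then (x : HQ F) else 1) := fun e => by
    rw [mul_apply', Finset.sum_eq_single e]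
    · rw [diag_apply, if_pos rfl]
      by_cases he : e = a
      · subst he; rw [Pi.mulSingle_eq_same, if_pos rfl]
      · rw [Pi.mulSingle_eq_of_ne he, if_neg he, coe_one_SL1]
    · intro g _ hg
      rw [diag_apply, if_neg hg, mul_zero]
    · simp
  simp only [e, inv_apply]
  rw [← Finset.sum_erase_add _ _ (Finset.mem_univ a),
    ← Finset.sum_erase_add (f := fun x => (k : Matrix ι ι (HQ F)) f x * star ((k : Matrix ι ι (HQ F)) h x))
      _ (Finset.mem_univ a),
    Finset.sum_congr rfl (g := fun x => (k : Matrix ι ι (HQ F)) f x * star ((k : Matrix ι ι (HQ F)) h x))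
    (fun y hy => by rw [if_neg (Finset.ne_of_mem_erase hy), mul_one]), if_pos rfl]
  rw [mul_sub, sub_mul, mul_one]
  abel

theorem diag_conj_apply (e : ι → SL1 F) (g : SpH ι F) (f h : ι) :
    ((diag e * g * (diag e)⁻¹ : SpH ι F) : Matrix ι ι (HQ F)) f h =
      (e f : HQ F) * (g : Matrix ι ι (HQ F)) f h * star (e h : HQ F) := by
  rw [← map_inv, mul_apply', Finset.sum_eq_single h]
  · rw [diag_apply, if_pos rfl, mul_apply', Finset.sum_eq_single f]
    · rw [diag_apply, if_pos rfl]; rfl
    · intro x _ hx; rw [diag_apply, if_neg (Ne.symm hx), zero_mul]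
    · simp
  · intro x _ hx; rw [diag_apply, if_neg hx, mul_zero]
  · simp

/-- The matrix with entry `a` on the plane of `c` and `b`. -/
def plane (c b : ι) (a : HQ F) : Matrix ι ι (HQ F) :=
  Matrix.of fun f h => if (f = c ∨ f = b) ∧ (h = c ∨ h = b) then a else 0

theorem plane_apply (c b : ι) (a : HQ F) (f h : ι) :
    plane c b a f h = if (f = c ∨ f = b) ∧ (h = c ∨ h = b) then a else 0 := rfl

theorem plane_add (c b : ι) (a a' : HQ F) : plane c b a + plane c b a' = plane c b (a + a') := by
  ext f h : 1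
  simp only [Matrix.add_apply, plane_apply]
  split_ifs <;> simp

theorem plane_mul {c b : ι} (hcb : c ≠ b) (a a' : HQ F) :
    plane c b a * plane c b a' = plane c b (a * a' + a * a') := by
  ext f h : 1
  rw [Matrix.mul_apply, Finset.sum_eq_add c b hcb]
  · simp only [plane_apply, true_or, or_true, true_and, and_true]
    by_cases h1 : f = c ∨ f = b <;> by_cases h3 : h = c ∨ h = b <;> simp [h1, h3]
  · intro x _ hx
    simp [plane_apply, hx.1, hx.2]
  · simp
  · simp

theorem star_plane (c b : ι) (a : HQ F) : star (plane c b a) = plane c b (star a) := by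
  ext f h : 1
  rw [Matrix.star_apply, plane_apply, plane_apply]
  by_cases h1 : f = c ∨ f = b <;> by_cases h3 : h = c ∨ h = b <;> simp [h1, h3]

theorem plane_zero (c b : ι) : plane c b (0 : HQ F) = 0 := by
  ext f h : 1
  simp [plane_apply]

theorem one_add_plane_mul (h2 : (2 : F) ≠ 0) {c b : ι} (hcb : c ≠ b) (x y : HQ F) :
    (1 + plane c b ((2 : F)⁻¹ • (x - 1))) * (1 + plane c b ((2 : F)⁻¹ • (y - 1))) =
      1 + plane c b ((2 : F)⁻¹ • (x * y - 1)) := by
  rw [add_mul, mul_add, mul_add, one_mul, one_mul, mul_one, plane_mul hcb, plane_add, add_assoc, plane_add]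
  congr 2
  set s := (2 : F)⁻¹
  have hs : s + s = 1 := by rw [← two_mul]; exact mul_inv_cancel₀ h2
  rw [smul_mul_smul_comm, ← add_smul, ← mul_add, hs, mul_one, ← smul_add, ← smul_add]
  congr 1
  noncomm_ring

/-- The element `1 + (x - 1)/2` on the plane of `c` and `b`. -/
def planeHom (h2 : (2 : F) ≠ 0) {c b : ι} (hcb : c ≠ b) : SL1 F →* SpH ι F where
  toFun x := ⟨1 + plane c b ((2 : F)⁻¹ • ((x : HQ F) - 1)), by
    have hst : star (1 + plane c b ((2 : F)⁻¹ • ((x : HQ F) - 1))) =
        1 + plane c b ((2 : F)⁻¹ • (star (x : HQ F) - 1)) := by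
      rw [star_add, star_one, star_plane, Quaternion.star_smul, star_sub, star_one]
    rw [Unitary.mem_iff, hst, one_add_plane_mul h2 hcb, one_add_plane_mul h2 hcb, star_mul_coe, mul_star_coe]
    simp [plane_zero]⟩
  map_one' := Subtype.ext (by simp [plane_zero])
  map_mul' x y := Subtype.ext (one_add_plane_mul h2 hcb _ _).symm

theorem planeHom_apply (h2 : (2 : F) ≠ 0) {c b : ι} (hcb : c ≠ b) (x : SL1 F) (f h : ι) :
    (planeHom h2 hcb x : Matrix ι ι (HQ F)) f h = (if f = h then 1 else 0) +
      if (f = c ∨ f = b) ∧ (h = c ∨ h = b) then (2 : F)⁻¹ • ((x : HQ F) - 1) else 0 := by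
  show ((1 + plane c b ((2 : F)⁻¹ • ((x : HQ F) - 1))) : Matrix ι ι (HQ F)) f h = _
  rw [Matrix.add_apply, Matrix.one_apply, plane_apply]

section engine

variable [Finite F] (h2 : (2 : F) ≠ 0) (hsq : ¬ IsSquare (2 : F)) {P : Subgroup (Perm ι)} (hP : Good P)
  {L : Subgroup (SpH ι F)} (hSL : sylS P (Q8 F) ≤ L)
include h2 hsq hP hSL

omit hsq hP in
/-- The word in the generators equal to a diagonal element of order three. -/
theorem pair_mem {c b : ι} (hcb : c ≠ b) (hX : ∀ x ∈ Q8 F, planeHom h2 hcb x ∈ L) :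
    diag (fun f => if f = c ∨ f = b then qw h2 else 1) ∈ L := by
  set d1 : ι → SL1 F := fun f => if f = c then qj else 1
  set d2 : ι → SL1 F := fun f => if f = c then qk⁻¹ else if f = b then negOne else 1
  set d3 : ι → SL1 F := fun f => if f = c ∨ f = b then qw h2 * qw h2 else 1
  have hS : ∀ d : ι → SL1 F, (∀ f, d f ∈ Q8 F) → diag d ∈ L := fun d hd => hSL (diag_mem_sylS.2 hd)
  have key : planeHom h2 hcb qi * planeHom h2 hcb qj * diag d1 * planeHom h2 hcb qi * diag d2 = diag d3 := by
    have e : planeHom h2 hcb qi * planeHom h2 hcb qj = planeHom h2 hcb qk := by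
      rw [← map_mul]
      congr 1
      apply SL1.ext <;> simp [coe_mul_SL1]
    rw [e]
    refine SpH.ext fun f h => ?_
    rw [mul_apply', Finset.sum_eq_single h (fun x _ hx => by rw [diag_apply, if_neg hx, mul_zero]) (by simp),
      diag_apply, if_pos rfl, mul_apply']
    have hl : ∀ x, ((planeHom h2 hcb qk * diag d1 : SpH ι F) : Matrix ι ι (HQ F)) f x =
        (planeHom h2 hcb qk : Matrix ι ι (HQ F)) f x * (d1 x : HQ F) := fun x => by
      rw [mul_apply', Finset.sum_eq_single x]
      · rw [diag_apply, if_pos rfl]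
      · intro g _ hg
        rw [diag_apply, if_neg hg, mul_zero]
      · simp
    simp only [hl, planeHom_apply, diag_apply]
    by_cases hf : f = c ∨ f = b
    · have hz : ∀ x, x ∉ ({c, b} : Finset ι) → ((if f = x then (1 : HQ F) else 0) +
          if (f = c ∨ f = b) ∧ (x = c ∨ x = b) then (2 : F)⁻¹ • (((qk : SL1 F) : HQ F) - 1) else 0) = 0 := by
        intro x hx
        simp only [Finset.mem_insert, Finset.mem_singleton, not_or] at hx
        rw [if_neg, if_neg (by simp [hx.1, hx.2]), add_zero]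
        rcases hf with rfl | rfl
        exacts [Ne.symm hx.1, Ne.symm hx.2]
      rw [← Finset.sum_subset (Finset.subset_univ {c, b}) (fun x _ hx => by rw [hz x hx, zero_mul, zero_mul]),
        Finset.sum_pair hcb]
      rcases hf with rfl | rfl
      · by_cases h1 : h = f
        · subst h1
          ext <;> simp [d1, d2, d3, hcb, Ne.symm hcb, coe_mul_SL1, coe_inv_SL1, coe_negOne] <;> field_simp <;> first | ring1 | (simp [h2] <;> ring1)
        by_cases h3 : h = b
        · subst h3
          ext <;> simp [d1, d2, d3, hcb, Ne.symm hcb, coe_mul_SL1, coe_inv_SL1, coe_negOne] <;> field_simp <;> first | ring1 | (simp [h2] <;> ring1)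
        simp [h1, Ne.symm h1, h3, Ne.symm h3, hcb, Ne.symm hcb]
      · by_cases h1 : h = c
        · subst h1
          ext <;> simp [d1, d2, d3, hcb, Ne.symm hcb, coe_mul_SL1, coe_inv_SL1, coe_negOne] <;> field_simp <;> first | ring1 | (simp [h2] <;> ring1)
        by_cases h3 : h = f
        · subst h3
          ext <;> simp [d1, d2, d3, hcb, Ne.symm hcb, coe_mul_SL1, coe_inv_SL1, coe_negOne] <;> field_simp <;> first | ring1 | (simp [h2] <;> ring1)
        simp [h1, Ne.symm h1, h3, Ne.symm h3, hcb, Ne.symm hcb]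
    · push Not at hf
      rw [Finset.sum_eq_single f]
      · by_cases hfh : f = h
        · subst hfh
          simp [d1, d2, d3, hf.1, hf.2, coe_one_SL1]
        · simp [hfh, hf.1, hf.2]
      · intro x _ hx
        simp [Ne.symm hx, hf.1, hf.2]
      · simp
  have hq1 : ∀ f, d1 f ∈ Q8 F := fun f => by
    simp only [d1]; split_ifs; exacts [qj_mem_Q8, one_mem _]
  have hq2 : ∀ f, d2 f ∈ Q8 F := fun f => by
    simp only [d2]; split_ifs; exacts [inv_mem qk_mem_Q8, negOne_mem_Q8, one_mem _]
  have h3 : diag d3 ∈ L := by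
    rw [← key]
    exact mul_mem (mul_mem (mul_mem (mul_mem (hX _ qi_mem_Q8) (hX _ qj_mem_Q8)) (hS d1 hq1)) (hX _ qi_mem_Q8))
      (hS d2 hq2)
  have h4 := mul_mem h3 h3
  rw [← map_mul] at h4
  convert h4 using 2
  funext f
  simp only [Pi.mul_apply, d3]
  split_ifs with h
  · calc qw h2 = qw h2 ^ 3 * qw h2 := by rw [qw_cube, one_mul]
      _ = _ := by simp [pow_succ, mul_assoc]
  · simp

omit hsq in
/-- One transposed pair forces the element of order three. -/
theorem wAll_mem_of_pair {c b : ι} (hcb : c ≠ b) (hsw : swap c b ∈ P)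
    (hd : diag (fun f => if f = c ∨ f = b then qw h2 else 1) ∈ L) : wAll h2 ι ∈ L := by
  classical
  have hex : ∀ a : ι, ∃ x, a ≠ x := fun a => by
    by_cases h : a = c
    · exact ⟨b, h ▸ hcb⟩
    · exact ⟨c, h⟩
  have hτ : ∀ a : ι, ∃ x, x ≠ a ∧ swap a x ∈ P := fun a => hP.cover a _ (hex a).choose_spec
  choose τ hτ1 hτ2 using hτ
  have hττ : ∀ a, τ (τ a) = a := fun a =>
    hP.unique (hτ2 (τ a)) (by rw [Equiv.swap_comm]; exact hτ2 a) (Ne.symm (hτ1 _)) (hτ1 a)
  have hpair : ∀ a, diag (fun f => if f = a ∨ f = τ a then qw h2 else 1) ∈ L := by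
    intro a
    obtain ⟨σ, hσ, hσc⟩ := hP.trans c a
    have hσb : σ b = τ a := by
      refine hP.unique (a := a) ?_ (hτ2 a) ?_ (Ne.symm (hτ1 a))
      · have := P.mul_mem (P.mul_mem hσ hsw) (P.inv_mem hσ)
        rwa [← Equiv.swap_apply_apply, hσc] at this
      · rw [← hσc]; exact fun h => hcb (σ.injective h)
    have hm : mon σ (fun _ => (1 : SL1 F)) ∈ L := hSL (mon_mem_sylS.2 ⟨hσ, fun _ => one_mem _⟩)
    have := mul_mem (mul_mem hm hd) (inv_mem hm)
    rw [mon_conj_diag] at this
    convert this using 2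
    funext f
    obtain ⟨x, rfl⟩ := σ.surjective f
    rw [Perm.coe_inv, Equiv.symm_apply_apply, one_mul, inv_one, mul_one, ← hσb, ← hσc]
    simp only [σ.injective.eq_iff]
  have hB : ∀ B : Finset ι, diag (fun f => qw h2 ^ (B.filter fun a => f = a ∨ f = τ a).card) ∈ L := by
    intro B
    induction B using Finset.induction_on with
    | empty =>
      simp only [Finset.filter_empty, Finset.card_empty, pow_zero]
      rw [show diag (fun _ : ι => (1 : SL1 F)) = 1 from map_one diag]
      exact one_mem _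
    | @insert a B ha ih =>
      have := mul_mem (hpair a) ih
      rw [← map_mul] at this
      convert this using 2
      funext f
      rw [Pi.mul_apply, Finset.filter_insert]
      split_ifs with h
      · rw [Finset.card_insert_of_notMem (fun hh => ha (Finset.mem_filter.1 hh).1), pow_succ']
      · rw [one_mul]
  have hu := hB Finset.univ
  have hcard : ∀ f : ι, (Finset.univ.filter fun a => f = a ∨ f = τ a).card = 2 := by
    intro f
    have e : (Finset.univ.filter fun a => f = a ∨ f = τ a) = {f, τ f} := by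
      ext a
      simp only [Finset.mem_filter, Finset.mem_univ, true_and, Finset.mem_insert, Finset.mem_singleton]
      constructor
      · rintro (rfl | rfl)
        exacts [Or.inl rfl, Or.inr (hττ a).symm]
      · rintro (rfl | rfl)
        exacts [Or.inl rfl, Or.inr (hττ f).symm]
    rw [e, Finset.card_pair (Ne.symm (hτ1 f))]
  simp only [hcard] at hu
  have h4 := mul_mem hu hu
  rw [← map_mul] at h4
  unfold wAll
  convert h4 using 2
  funext f
  rw [Pi.mul_apply, ← pow_add, show 2 + 2 = 3 + 1 from rfl, pow_succ, qw_cube, one_mul]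

/-- A conjugate of a sign change lying in the Sylow 2-subgroup is a sign change. -/
theorem conj_z_mem_sylS (hw : wAll h2 ι ∉ L) {k : SpH ι F} (hk : k ∈ normalizer (L : Set (SpH ι F)))
    {a : ι} (hy : k * z a * k⁻¹ ∈ sylS P (Q8 F)) : ∃ e, k * z a * k⁻¹ = z e := by
  obtain ⟨π, hπ, d, hd, he⟩ := hy
  rcases mon_conj_z_cases h2 k a he with ⟨-, h⟩ | ⟨c, b, hcb, hπcb, hN, hub, hzero⟩
  · exact h
  exfalso
  set u := (k : Matrix ι ι (HQ F)) c a with hu
  have huu : star u * u = ((2 : F)⁻¹ : F) := by
    rw [Quaternion.star_mul_self, eq_inv_of_mul_eq_one_right hN]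
  have huu' : u * star u = ((2 : F)⁻¹ : F) := by
    rw [Quaternion.self_mul_star, eq_inv_of_mul_eq_one_right hN]
  let cu : SL1 F →* SL1 F :=
    { toFun := fun x => ⟨(2 : F) • (u * (x : HQ F) * star u), by
        have e1 : star ((2 : F) • (u * (x : HQ F) * star u)) = (2 : F) • (u * star (x : HQ F) * star u) := by
          rw [Quaternion.star_smul, star_mul, star_mul, star_star, mul_assoc]
        have e2 : ∀ x y : HQ F, (2 : F) • (u * x * star u) * (2 : F) • (u * y * star u) =
            (2 : F) • (u * (x * y) * star u) := fun x y => by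
          rw [smul_mul_smul_comm, show u * x * star u * (u * y * star u) = u * x * (star u * u) * y * star u by
            simp only [mul_assoc], huu, Quaternion.mul_coe_eq_smul, smul_mul_assoc, smul_mul_assoc, smul_smul,
            mul_assoc (2 : F) 2, mul_inv_cancel₀ h2, mul_one, mul_assoc u x y]
        rw [Unitary.mem_iff, e1, e2, e2, star_mul_coe, mul_star_coe, mul_one, huu', Quaternion.smul_coe,
          mul_inv_cancel₀ h2]
        exact ⟨Quaternion.coe_one, Quaternion.coe_one⟩⟩
      map_one' := Subtype.ext (by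
        show (2 : F) • (u * 1 * star u) = 1
        rw [mul_one, huu', Quaternion.smul_coe, mul_inv_cancel₀ h2, Quaternion.coe_one])
      map_mul' := fun x y => Subtype.ext (by
        show (2 : F) • (u * ((x : HQ F) * (y : HQ F)) * star u) =
          (2 : F) • (u * (x : HQ F) * star u) * (2 : F) • (u * (y : HQ F) * star u)
        rw [smul_mul_smul_comm, show u * (x : HQ F) * star u * (u * y * star u) = u * x * (star u * u) * y * star u by
          simp only [mul_assoc], huu, Quaternion.mul_coe_eq_smul, smul_mul_assoc, smul_mul_assoc, smul_smul,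
          mul_assoc (2 : F) 2, mul_inv_cancel₀ h2, mul_one, mul_assoc u (x : HQ F) y]) }
  have hcu_inj : Function.Injective cu := by
    intro x y hxy
    have h' : (2 : F) • (u * (x : HQ F) * star u) = (2 : F) • (u * (y : HQ F) * star u) := congrArg Subtype.val hxy
    have h'' := congrArg (fun v => star u * v * u) (smul_right_injective _ h2 h')
    simp only [show ∀ v : HQ F, star u * (u * v * star u) * u = (star u * u) * v * (star u * u) from
      fun v => by simp only [mul_assoc], huu, Quaternion.coe_mul_eq_smul, Quaternion.mul_coe_eq_smul] at h''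
    exact Subtype.ext (smul_right_injective _ (inv_ne_zero h2) (smul_right_injective _ (inv_ne_zero h2) h''))
  set e' : ι → SL1 F := fun f => if f = b then (negOne * d c)⁻¹ else 1 with he'
  have he'L : diag e' ∈ L := hSL (diag_mem_sylS.2 fun f => by
    simp only [he']; split_ifs; exacts [inv_mem (mul_mem negOne_mem_Q8 (hd c)), one_mem _])
  have hcuL : ∀ x ∈ Q8 F, planeHom h2 hcb (cu x) ∈ L := by
    intro x hx
    have hg : k * diag (Pi.mulSingle a x) * k⁻¹ ∈ L :=
      (mem_normalizer_iff.1 hk _).1 (hSL (diag_single_mem_sylS hx))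
    have hge : planeHom h2 hcb (cu x) = diag e' * (k * diag (Pi.mulSingle a x) * k⁻¹) * (diag e')⁻¹ := by
      have hφ : (k : Matrix ι ι (HQ F)) b a = ((negOne * d c : SL1 F) : HQ F) * u := by
        rw [hub, coe_mul_SL1, coe_negOne, neg_one_mul, neg_mul]
      have hval : (2 : F)⁻¹ • (((cu x : SL1 F) : HQ F) - 1) = u * ((x : HQ F) - 1) * star u := by
        show (2 : F)⁻¹ • ((2 : F) • (u * (x : HQ F) * star u) - 1) = _
        rw [smul_sub, smul_smul, inv_mul_cancel₀ h2, one_smul, mul_sub, sub_mul, mul_one, huu',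
          ← Quaternion.coe_one, Quaternion.smul_coe, mul_one]
      refine SpH.ext fun f h => ?_
      rw [planeHom_apply, diag_conj_apply, conj_single_apply, mul_add, add_mul, hval]
      congr 1
      · by_cases hfh : f = h
        · subst hfh; rw [if_pos rfl, mul_one, mul_star_coe]
        · rw [if_neg hfh, mul_zero, zero_mul]
      · have hcol : ∀ f, (e' f : HQ F) * (k : Matrix ι ι (HQ F)) f a = if f = c ∨ f = b then u else 0 := by
          intro f
          by_cases hfb : f = b
          · subst hfb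
            simp only [he', if_true, or_true]
            rw [hφ, ← mul_assoc, coe_inv_SL1, star_mul_coe, one_mul]
          by_cases hfc : f = c
          · subst hfc
            simp only [he', if_true, true_or]
            rw [if_neg hfb, coe_one_SL1, one_mul]
          simp only [he']
          rw [if_neg (by simp [hfb, hfc] : ¬ (f = c ∨ f = b)), if_neg hfb, coe_one_SL1, one_mul]
          exact hzero f hfc hfb
        rw [show (e' f : HQ F) * ((k : Matrix ι ι (HQ F)) f a * ((x : HQ F) - 1) * star ((k : Matrix ι ι (HQ F)) h a))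
            * star (e' h : HQ F) = ((e' f : HQ F) * (k : Matrix ι ι (HQ F)) f a) * ((x : HQ F) - 1) *
            star ((e' h : HQ F) * (k : Matrix ι ι (HQ F)) h a) by rw [star_mul]; simp only [mul_assoc],
          hcol, hcol]
        by_cases h1 : f = c ∨ f = b <;> by_cases h3 : h = c ∨ h = b <;> simp [h1, h3]
    rw [hge]
    exact mul_mem (mul_mem he'L hg) (inv_mem he'L)
  set X := L.comap (planeHom h2 hcb) with hX
  have hQX : Q8 F ≤ X := by
    haveI : Fact (Nat.Prime 2) := ⟨Nat.prime_two⟩
    set Q' := (Q8 F).map cu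
    have hQ'X : Q' ≤ X := by rintro _ ⟨x, hx, rfl⟩; exact hcuL x hx
    have hnorm : Q8 F ≤ normalizer (X : Set (SL1 F)) := by
      intro q hq
      refine mem_normalizer_iff_map_conj_eq.2 (Subgroup.eq_of_le_of_card_ge ?_
        (le_of_eq (card_map_of_injective (MulAut.conj q).injective).symm))
      rintro _ ⟨x, hx, rfl⟩
      show planeHom h2 hcb (q * x * q⁻¹) ∈ L
      have hD : diag (fun f => if f = c ∨ f = b then q else 1) ∈ L := hSL (diag_mem_sylS.2 fun f => by
        split_ifs; exacts [hq, one_mem _])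
      have e1 : planeHom h2 hcb (q * x * q⁻¹) = diag (fun f => if f = c ∨ f = b then q else 1) *
          planeHom h2 hcb x * (diag (fun f => if f = c ∨ f = b then q else 1))⁻¹ := by
        refine SpH.ext fun f h => ?_
        rw [planeHom_apply, diag_conj_apply, planeHom_apply, mul_add, add_mul]
        congr 1
        · by_cases hfh : f = h
          · subst hfh; rw [if_pos rfl, mul_one, mul_star_coe]
          · rw [if_neg hfh, mul_zero, zero_mul]
        · by_cases h1 : f = c ∨ f = b <;> by_cases h3 : h = c ∨ h = b <;>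
            simp [h1, h3, mul_smul_comm, smul_mul_assoc, mul_sub, sub_mul, coe_mul_SL1, coe_inv_SL1,
              mul_star_coe, mul_assoc]
      rw [e1]
      exact mul_mem (mul_mem hD hx) (inv_mem hD)
    have hXn : X ⊔ Q8 F ≤ normalizer (X : Set (SL1 F)) := sup_le le_normalizer hnorm
    obtain ⟨g, hg, hgQ⟩ := exists_conj_le_max (K := X ⊔ Q8 F) isPGroup_Q8 le_sup_right
      (fun U => Q8_maximal h2 hsq) (isPGroup_Q8.map cu) (hQ'X.trans le_sup_left)
    intro q hq
    have hsurj : Q'.map (MulAut.conj g).toMonoidHom = Q8 F := by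
      refine Subgroup.eq_of_le_of_card_ge (map_le_iff_le_comap.2 fun x hx => hgQ x hx) (le_of_eq ?_)
      rw [card_map_of_injective (MulAut.conj g).injective, card_map_of_injective hcu_inj]
    rw [← hsurj] at hq
    obtain ⟨x, hx, rfl⟩ := hq
    exact (mem_normalizer_iff.1 (hXn hg) x).1 (hQ'X hx)
  exact hw (wAll_mem_of_pair h2 hP hSL hcb (hπcb ▸ hπ) (pair_mem h2 hSL hcb fun x hx => hQX hx))

/-- The normaliser of such a subgroup is monomial. -/
theorem normalizer_le_Mon (hw : wAll h2 ι ∉ L) : normalizer (L : Set (SpH ι F)) ≤ Mon ι F := by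
  have hSK : sylS P (Q8 F) ≤ normalizer (L : Set (SpH ι F)) := hSL.trans le_normalizer
  refine le_Mon_of_frameHyp ⟨h2, fun a x hx => hSK (diag_single_mem_sylS hx), fun a b hab => ?_, ?_⟩
  · obtain ⟨c, hca, hc⟩ := hP.cover a b hab
    refine ⟨c, hca, 1, hSK ?_⟩
    rw [sw, mon_mem_sylS]
    exact ⟨hc, fun f => by simp⟩
  · intro T hT hT2 k hk l hl a b ha hb
    haveI : Nonempty ι := ⟨a⟩
    obtain ⟨g, hg, hgT⟩ := exists_conj_le_max (isPGroup_sylS hP.two isPGroup_Q8) hSK
      (fun U hU hle => sylS_maximal h2 hP isPGroup_Q8 le_rfl (fun _ => rfl) (fun h => absurd h hsq) hU hle)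
      hT2 hT
    obtain ⟨e, he⟩ := conj_z_mem_sylS h2 hsq hP hSL hw (mul_mem hg hk) (a := a)
      (by simpa [mul_assoc] using hgT _ ha)
    obtain ⟨e', he'⟩ := conj_z_mem_sylS h2 hsq hP hSL hw (mul_mem hg hl) (a := b)
      (by simpa [mul_assoc] using hgT _ hb)
    have hc : Commute (g * k * z a * (g * k)⁻¹) (g * l * z b * (g * l)⁻¹) := by
      rw [he, he']
      show z e * z e' = z e' * z e
      rw [z, z, zB_mul, zB_mul, symmDiff_comm]
    have := hc.map (MulAut.conj g⁻¹).toMonoidHom
    simpa [mul_assoc] using this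

end engine

end H47.PSp
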