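import Mathlib
import Cfsg.Agent.H8.Coprime

/-!
Group-theoretic lemmas for overgroups of Sylow 2-subgroups of symplectic groups.
-/

set_option autoImplicit false
set_option linter.style.haveILetI false

namespace H47.PSp

open Subgroup

variable {G : Type*} [Group G]

/-- In a group generated by two involutions, `z (z y)^r` is conjugate to `y` for odd `r`. -/
theorem exists_conj_dihedral {K : Subgroup G} {z y : G} (hzK : z ∈ K) (hyK : y ∈ K) (hz : z * z = 1)
    (hy : y * y = 1) {r : ℕ} (hr : Odd r) :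
    ∃ g ∈ K, z * (z * y) ^ r = g * y * g⁻¹ := by
  obtain ⟨s, rfl⟩ := hr
  refine ⟨((z * y) ^ s)⁻¹, K.inv_mem (K.pow_mem (K.mul_mem hzK hyK) s), ?_⟩
  have hzi : z⁻¹ = z := inv_eq_of_mul_eq_one_right hz
  have hyi : y⁻¹ = y := inv_eq_of_mul_eq_one_right hy
  have hswap : ∀ j : ℕ, y * (z * y) ^ j = ((z * y) ^ j)⁻¹ * y := by
    intro j
    induction j with
    | zero => simp
    | succ j ih =>
      rw [pow_succ, ← mul_assoc, ih, ← pow_succ, pow_succ' (z * y) j, _root_.mul_inv_rev, mul_assoc,
        mul_assoc]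
      congr 1
      rw [_root_.mul_inv_rev, hzi, hyi, mul_assoc]
  rw [pow_succ', two_mul, pow_add, ← mul_assoc, ← mul_assoc, ← mul_assoc, hz, one_mul, hswap, inv_inv]

/-- Two involutions are conjugate or centralised by a common involution. -/
theorem conj_or_central [Finite G] {K : Subgroup G} {z y : G} (hzK : z ∈ K) (hyK : y ∈ K)
    (hz : z * z = 1) (hy : y * y = 1) :
    (∃ g ∈ K, z = g * y * g⁻¹) ∨
      ∃ w ∈ K, w * w = 1 ∧ w ≠ 1 ∧ w * z = z * w ∧ w * y = y * w ∧ ∃ j : ℕ, w = (z * y) ^ j := by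
  rcases Nat.even_or_odd (orderOf (z * y)) with he | ho
  · right
    obtain ⟨j, hj⟩ := he
    have hpos := orderOf_pos (z * y)
    have hw2 : (z * y) ^ j * (z * y) ^ j = 1 := by rw [← pow_add, ← hj, pow_orderOf_eq_one]
    refine ⟨(z * y) ^ j, K.pow_mem (K.mul_mem hzK hyK) j, hw2,
      pow_ne_one_of_lt_orderOf (by omega) (by omega), ?_, ?_, j, rfl⟩
    · have hwi : ((z * y) ^ j)⁻¹ = (z * y) ^ j := inv_eq_of_mul_eq_one_right hw2
      have hyz : ((z * y) ^ j)⁻¹ = (y * z) ^ j := by
        rw [← inv_pow, _root_.mul_inv_rev, inv_eq_of_mul_eq_one_right hz, inv_eq_of_mul_eq_one_right hy]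
      have e : z * (y * z) ^ j = (z * y) ^ j * z := by
        induction j with
        | zero => simp
        | succ i ih =>
          clear hj hw2 hwi hyz
          rw [pow_succ', pow_succ']
          have hs : ∀ k : ℕ, z * (y * z) ^ k = (z * y) ^ k * z := by
            intro k
            induction k with
            | zero => simp
            | succ k ihk =>
              rw [pow_succ, ← mul_assoc, ihk, pow_succ, mul_assoc, mul_assoc]
              simp [mul_assoc]
          rw [← pow_succ', ← pow_succ']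
          exact hs (i + 1)
      rw [← e, ← hyz, hwi]
    · have hwi : ((z * y) ^ j)⁻¹ = (z * y) ^ j := inv_eq_of_mul_eq_one_right hw2
      have hyz : ((z * y) ^ j)⁻¹ = (y * z) ^ j := by
        rw [← inv_pow, _root_.mul_inv_rev, inv_eq_of_mul_eq_one_right hz, inv_eq_of_mul_eq_one_right hy]
      have hs : ∀ k : ℕ, y * (z * y) ^ k = (y * z) ^ k * y := by
        intro k
        induction k with
        | zero => simp
        | succ k ihk =>
          rw [pow_succ, ← mul_assoc, ihk, pow_succ, mul_assoc, mul_assoc]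
          simp [mul_assoc]
      rw [hs, ← hyz, hwi]
  · left
    obtain ⟨g, hg, he⟩ := exists_conj_dihedral hzK hyK hz hy ho
    rw [pow_orderOf_eq_one, mul_one] at he
    exact ⟨g, hg, he⟩

/-- The elements of odd order of a group with a central involution and cardinality twice an odd
number form a subgroup of index two. -/
theorem exists_oddPart [Finite G] {M : Subgroup G} {c : G} (hcM : c ∈ M) (hc2 : c * c = 1) (hc1 : c ≠ 1)
    (hcc : ∀ x ∈ M, c * x = x * c) (hcard : ∃ o, Odd o ∧ Nat.card M = 2 * o) :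
    ∃ O : Subgroup G, O ≤ M ∧ Odd (Nat.card O) ∧ (∀ x, x ∈ O ↔ x ∈ M ∧ Odd (orderOf x)) ∧
      ∀ x ∈ M, x ∈ O ∨ c * x ∈ O := by
  obtain ⟨o, ho, hM⟩ := hcard
  set cM : M := ⟨c, hcM⟩
  have hcM2 : orderOf cM = 2 := by
    rw [← orderOf_injective M.subtype M.subtype_injective]
    exact orderOf_eq_prime (by rw [pow_two]; exact hc2) hc1
  set N : Subgroup M := zpowers cM
  haveI : N.Normal := ⟨fun x hx g => by
    obtain ⟨k, rfl⟩ := hx
    have : Commute g cM := Subtype.ext (hcc g g.2).symm
    rw [(this.zpow_right k).eq, mul_inv_cancel_right]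
    exact ⟨k, rfl⟩⟩
  have hN : Nat.card N = 2 := by rw [Nat.card_zpowers, hcM2]
  have hidx : N.index = o := by
    have := N.card_mul_index
    rw [hN, hM] at this
    omega
  obtain ⟨K, hK⟩ := exists_right_complement'_of_coprime (N := N)
    (by rw [hN, hidx]; exact Nat.coprime_two_left.2 ho)
  have hKo : Nat.card K = o := by
    have := hK.card_mul
    rw [hN, hM] at this
    omega
  have hK' : Odd (Nat.card (K.map M.subtype)) := by
    rw [card_map_of_injective M.subtype_injective, hKo]; exact ho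
  have hcases : ∀ x ∈ M, x ∈ K.map M.subtype ∨ c * x ∈ K.map M.subtype := by
    intro x hx
    obtain ⟨⟨⟨n, hn⟩, k⟩, hnk⟩ := hK.2 ⟨x, hx⟩
    have e : n * (k : M) = ⟨x, hx⟩ := hnk
    have hn' : n = 1 ∨ n = cM := by
      obtain ⟨i, rfl⟩ := hn
      rcases Int.even_or_odd i with ⟨j, rfl⟩ | ⟨j, rfl⟩
      · left
        show cM ^ (j + j) = 1
        rw [← two_mul, zpow_mul]
        simp [← hcM2, pow_orderOf_eq_one]
      · right
        show cM ^ (2 * j + 1) = cM
        rw [zpow_add, zpow_mul]
        simp [← hcM2, pow_orderOf_eq_one]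
    rcases hn' with rfl | rfl
    · exact Or.inl ⟨k, k.2, by have := congrArg Subtype.val e; simpa using this⟩
    · refine Or.inr ⟨k, k.2, ?_⟩
      have e' : c * ((k : M) : G) = x := congrArg Subtype.val e
      rw [← e', ← mul_assoc, hc2, one_mul]
      rfl
  refine ⟨K.map M.subtype, map_subtype_le K, hK', fun x => ⟨fun hx => ?_, fun hx => ?_⟩, hcases⟩
  · exact ⟨map_subtype_le K hx, hK'.of_dvd_nat (Subgroup.orderOf_dvd_natCard _ hx)⟩
  · rcases hcases x hx.1 with h | h
    · exact h
    · exfalso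
      have h1 : Odd (orderOf (c * x)) := hK'.of_dvd_nat (Subgroup.orderOf_dvd_natCard _ h)
      have hcomm : Commute c x := hcc x hx.1
      have h2 : (c * x) ^ (orderOf x * orderOf (c * x)) = 1 := by
        rw [mul_comm, pow_mul, pow_orderOf_eq_one, one_pow]
      rw [hcomm.mul_pow, pow_mul x, pow_orderOf_eq_one, one_pow, mul_one] at h2
      obtain ⟨m, hm⟩ := hx.2.mul h1
      rw [hm, pow_succ, pow_mul, pow_two, hc2, one_pow, one_mul] at h2
      exact hc1 h2

/-- In a finite group, the elements of `M` normalising it normalise the odd part. -/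
theorem mem_normalizer_oddPart [Finite G] {M O : Subgroup G}
    (hO : ∀ x, x ∈ O ↔ x ∈ M ∧ Odd (orderOf x)) {g : G} (hg : g ∈ normalizer (M : Set G)) :
    g ∈ normalizer (O : Set G) := by
  rw [mem_normalizer_iff] at hg ⊢
  intro x
  rw [hO, hO, ← hg, show orderOf (g * x * g⁻¹) = orderOf x from
    (MulAut.conj g).orderOf_eq x]

end H47.PSp
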