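import Cfsg.Agent.H47.PSp.Two

/-!
Transpositions, supports and compressions in the quaternionic unitary group.
-/

set_option autoImplicit false
set_option linter.unusedSectionVars false
set_option linter.unusedSimpArgs false
set_option linter.style.haveILetI false
set_option maxHeartbeats 1000000

namespace H47.PSp

open Matrix Equiv Subgroup
open scoped Quaternion

variable {F : Type*} [Field F] {ι : Type*} [Fintype ι] [DecidableEq ι]

/-- The transposition of two coordinates with coefficient `φ`. -/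
def sw (a b : ι) (φ : SL1 F) : SpH ι F :=
  mon (swap a b) (fun c => if c = a then φ else if c = b then φ⁻¹ else 1)

theorem sw_sq {a b : ι} (hab : a ≠ b) (φ : SL1 F) : sw a b φ * sw a b φ = 1 := by
  rw [sw, mon_mul, Equiv.swap_mul_self, ← mon_one]
  congr 1
  funext c
  by_cases h1 : c = a
  · subst h1; simp [hab, Ne.symm hab]
  by_cases h2 : c = b
  · subst h2; simp [hab, Ne.symm hab]
  simp [swap_apply_of_ne_of_ne h1 h2, h1, h2]

theorem sw_inv {a b : ι} (hab : a ≠ b) (φ : SL1 F) : (sw a b φ)⁻¹ = sw a b φ :=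
  inv_eq_of_mul_eq_one_right (sw_sq hab φ)

theorem mon_conj_sw {a b : ι} (hab : a ≠ b) (φ : SL1 F) (π : Perm ι) (d : ι → SL1 F) :
    mon π d * sw a b φ * (mon π d)⁻¹ = sw (π a) (π b) (d b * φ * (d a)⁻¹) := by
  rw [sw, mon_inv, mon_mul, mon_mul]
  show mon _ _ = mon _ _
  rw [← swap_apply_apply]
  congr 1
  funext c
  obtain ⟨e, rfl⟩ := π.surjective c
  rw [Perm.coe_inv, Equiv.symm_apply_apply]
  by_cases h1 : e = a
  · subst h1; simp [hab, Ne.symm hab, mul_assoc]
  by_cases h2 : e = b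
  · subst h2; simp [hab, Ne.symm hab, mul_assoc]
  simp [swap_apply_of_ne_of_ne h1 h2, h1, h2, π.injective.eq_iff]

/-- The entries of a monomial element commuting with a transposition. -/
theorem commute_sw_mon {a b : ι} (hab : a ≠ b) {φ : SL1 F} {π : Perm ι} {d : ι → SL1 F}
    (h : mon π d * sw a b φ = sw a b φ * mon π d) :
    ((π a = a ∧ π b = b ∧ d b * φ = φ * d a) ∨ (π a = b ∧ π b = a ∧ d b * φ = φ⁻¹ * d a)) := by
  rw [sw, mon_mul, mon_mul] at h
  obtain ⟨hπ, hd⟩ := mon_inj h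
  have hd' := congrFun hd a
  have h1 := congrArg (fun f : Perm ι => f a) hπ
  have h2 := congrArg (fun f : Perm ι => f b) hπ
  simp only [Perm.mul_apply, swap_apply_left, swap_apply_right] at h1 h2
  by_cases ha : π a = a
  · rw [ha, swap_apply_left] at h1
    refine Or.inl ⟨ha, h1, ?_⟩
    simpa [swap_apply_left, ha, hab, Ne.symm hab] using hd'
  by_cases hb : π a = b
  · rw [hb, swap_apply_right] at h1
    refine Or.inr ⟨hb, h1, ?_⟩
    simpa [swap_apply_left, hb, hab, Ne.symm hab] using hd'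
  exfalso
  rw [swap_apply_of_ne_of_ne ha hb] at h1
  exact hab (π.injective h1).symm

theorem sq_one_SL1 (h2 : (2 : F) ≠ 0) {x : SL1 F} (h : x * x = 1) : x = 1 ∨ x = negOne := by
  have hs : star (x : HQ F) = (x : HQ F) := by
    rw [← coe_inv_SL1, inv_eq_of_mul_eq_one_right h]
  have hx := scalar_of_star_eq h2 hs
  have hn := star_mul_coe x
  rw [hs, hx, ← Quaternion.coe_mul, ← Quaternion.coe_one] at hn
  rcases mul_self_eq_one_iff.1 (Quaternion.coe_inj.1 hn) with e | e
  · left; apply Subtype.ext; show (x : HQ F) = 1; rw [hx, e, Quaternion.coe_one]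
  · right; apply Subtype.ext; rw [coe_negOne, hx, e, Quaternion.coe_neg, Quaternion.coe_one]

/-- The elements fixing the basis vectors outside `A`. -/
def Fix (A : Finset ι) : Subgroup (SpH ι F) where
  carrier := {g | ∀ b ∉ A, ∀ c, (g : Matrix ι ι (HQ F)) c b = if c = b then 1 else 0}
  one_mem' := fun b _ c => by rw [OneMemClass.coe_one, Matrix.one_apply]
  mul_mem' := by
    intro g h hg hh b hb c
    rw [mul_apply', Finset.sum_eq_single b]
    · rw [hh b hb b, if_pos rfl, mul_one, hg b hb c]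
    · intro e _ he
      rw [hh b hb e, if_neg he, mul_zero]
    · simp
  inv_mem' := by
    intro g hg b hb c
    rw [inv_apply]
    by_cases h : c = b
    · subst h; rw [hg c hb c, if_pos rfl, star_one]
    · have hn := col_norm g b c
      rw [if_neg (Ne.symm h), Finset.sum_eq_single b (fun e _ he => by rw [hg b hb e, if_neg he, star_zero, zero_mul])
        (by simp), hg b hb b, if_pos rfl, star_one, one_mul] at hn
      rw [hn, star_zero, if_neg h]

theorem mem_Fix {A : Finset ι} {g : SpH ι F} :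
    g ∈ Fix A ↔ ∀ b ∉ A, ∀ c, (g : Matrix ι ι (HQ F)) c b = if c = b then 1 else 0 := Iff.rfl

theorem Fix_row {A : Finset ι} {g : SpH ι F} (hg : g ∈ Fix A) {b c : ι} (hb : b ∉ A) (hc : c ≠ b) :
    (g : Matrix ι ι (HQ F)) b c = 0 := by
  have h := (Fix A).inv_mem hg b hb c
  rw [inv_apply, if_neg hc] at h
  simpa using congrArg star h

theorem mon_mem_Fix {A : Finset ι} {π : Perm ι} {d : ι → SL1 F} :
    mon π d ∈ Fix A ↔ ∀ b ∉ A, π b = b ∧ d b = 1 := by
  constructor
  · intro h b hb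
    have h1 := h b hb (π b)
    rw [mon_apply, if_pos rfl] at h1
    split_ifs at h1 with e
    · exact ⟨e, Subtype.ext h1⟩
    · exact absurd h1 (coe_ne_zero _)
  · intro h b hb c
    rw [mon_apply, (h b hb).1, (h b hb).2]
    rfl

theorem zB_mem_Fix {A B : Finset ι} (h : B ⊆ A) : (zB B : SpH ι F) ∈ Fix A := by
  refine mon_mem_Fix.2 fun b hb => ⟨rfl, if_neg fun e => hb (h e)⟩

theorem diag_single_mem_Fix {A : Finset ι} {a : ι} (ha : a ∈ A) (x : SL1 F) :
    diag (Pi.mulSingle a x) ∈ Fix A :=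
  mon_mem_Fix.2 fun b hb => ⟨rfl, Pi.mulSingle_eq_of_ne (M := fun _ : ι => SL1 F) (show b ≠ a by
    rintro rfl; exact hb ha) x⟩

theorem sw_mem_Fix {A : Finset ι} {a b : ι} (ha : a ∈ A) (hb : b ∈ A) (φ : SL1 F) :
    sw a b φ ∈ Fix A := by
  refine mon_mem_Fix.2 fun c hc => ?_
  have h1 : c ≠ a := fun e => hc (e ▸ ha)
  have h2 : c ≠ b := fun e => hc (e ▸ hb)
  exact ⟨swap_apply_of_ne_of_ne h1 h2, by simp [h1, h2]⟩

/-- Sign changes on subsets of `A`. -/
def signs (A : Finset ι) : Subgroup (SpH ι F) where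
  carrier := {g | ∃ B ⊆ A, g = zB B}
  one_mem' := ⟨∅, Finset.empty_subset _, zB_empty.symm⟩
  mul_mem' := by
    rintro _ _ ⟨B, hB, rfl⟩ ⟨C, hC, rfl⟩
    exact ⟨symmDiff B C, symmDiff_le_sup.trans (Finset.union_subset hB hC), zB_mul B C⟩
  inv_mem' := by
    rintro _ ⟨B, hB, rfl⟩
    exact ⟨B, hB, zB_inv B⟩

theorem mem_signs {A : Finset ι} {g : SpH ι F} : g ∈ signs A ↔ ∃ B ⊆ A, g = zB B := Iff.rfl

theorem isPGroup_signs (A : Finset ι) : IsPGroup 2 (signs (F := F) A) := by
  rintro ⟨_, B, hB, rfl⟩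
  exact ⟨1, Subtype.ext (show zB B ^ 2 ^ 1 = (1 : SpH ι F) by rw [pow_one, pow_two, zB_sq])⟩

theorem signs_comm (A : Finset ι) : ∀ x ∈ signs (F := F) A, ∀ y ∈ signs (F := F) A, x * y = y * x := by
  rintro _ ⟨B, -, rfl⟩ _ ⟨C, -, rfl⟩
  rw [zB_mul, zB_mul, symmDiff_comm]

/-- Compression of a group of unitary matrices to an invariant pair of orthonormal vectors. -/
def compress (T : Matrix ι (Fin 2) (HQ F)) (hT : Tᴴ * T = 1) (X : Subgroup (SpH ι F))
    (hX : ∀ g ∈ X, T * (Tᴴ * ((g : Matrix ι ι (HQ F)) * T)) = (g : Matrix ι ι (HQ F)) * T) :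
    X →* SpH (Fin 2) F where
  toFun g := ⟨Tᴴ * ((g : SpH ι F) : Matrix ι ι (HQ F)) * T, by
    have key : ∀ g : X, (Tᴴ * (((g⁻¹ : X) : SpH ι F) : Matrix ι ι (HQ F)) * T) *
        (Tᴴ * ((g : SpH ι F) : Matrix ι ι (HQ F)) * T) = 1 := by
      intro g
      rw [Matrix.mul_assoc Tᴴ ((g : SpH ι F) : Matrix ι ι (HQ F)) T, Matrix.mul_assoc _ T, hX g g.2,
        Matrix.mul_assoc Tᴴ, ← Matrix.mul_assoc (((g⁻¹ : X) : SpH ι F) : Matrix ι ι (HQ F))]
      rw [show (((g⁻¹ : X) : SpH ι F) : Matrix ι ι (HQ F)) * ((g : SpH ι F) : Matrix ι ι (HQ F)) = 1 from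
        congrArg Subtype.val (inv_mul_cancel (g : SpH ι F)), Matrix.one_mul, hT]
    have hs : ∀ g : X, star (Tᴴ * ((g : SpH ι F) : Matrix ι ι (HQ F)) * T) =
        Tᴴ * (((g⁻¹ : X) : SpH ι F) : Matrix ι ι (HQ F)) * T := by
      intro g
      rw [Matrix.star_eq_conjTranspose, Matrix.conjTranspose_mul, Matrix.conjTranspose_mul,
        Matrix.conjTranspose_conjTranspose, ← Matrix.mul_assoc]
      rfl
    rw [Unitary.mem_iff, hs]
    refine ⟨key g, ?_⟩
    have := key g⁻¹
    rwa [inv_inv] at this⟩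
  map_one' := Subtype.ext (by
    show Tᴴ * 1 * T = 1
    rw [Matrix.mul_one, hT])
  map_mul' g h := Subtype.ext (by
    show Tᴴ * (((g : SpH ι F) : Matrix ι ι (HQ F)) * ((h : SpH ι F) : Matrix ι ι (HQ F))) * T =
      (Tᴴ * ((g : SpH ι F) : Matrix ι ι (HQ F)) * T) * (Tᴴ * ((h : SpH ι F) : Matrix ι ι (HQ F)) * T)
    rw [Matrix.mul_assoc Tᴴ ((h : SpH ι F) : Matrix ι ι (HQ F)) T, Matrix.mul_assoc _ T, hX h h.2]
    simp only [Matrix.mul_assoc])

theorem compress_apply (T : Matrix ι (Fin 2) (HQ F)) (hT : Tᴴ * T = 1) (X : Subgroup (SpH ι F))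
    (hX : ∀ g ∈ X, T * (Tᴴ * ((g : Matrix ι ι (HQ F)) * T)) = (g : Matrix ι ι (HQ F)) * T) (g : X) :
    ((compress T hT X hX g : SpH (Fin 2) F) : Matrix (Fin 2) (Fin 2) (HQ F)) =
      Tᴴ * ((g : SpH ι F) : Matrix ι ι (HQ F)) * T := rfl

theorem exists_kernel_ne_zero [Finite F] (f : HQ F × HQ F →+ HQ F) :
    ∃ x, f x = 0 ∧ x ≠ 0 := by
  by_contra h
  push Not at h
  have hinj : Function.Injective f := fun x y e => sub_eq_zero.1 (h _ (by rw [map_sub, e, sub_self]))
  have hc := Nat.card_le_card_of_injective _ hinj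
  rw [Nat.card_prod] at hc
  have h1 : 1 < Nat.card (HQ F) := Finite.one_lt_card
  nlinarith

theorem kernel_graph [Finite F] {α β φ : HQ F} (h : ∀ x y, α * x + β * y = 0 → y = φ * x) :
    α + β * φ = 0 := by
  let f : HQ F × HQ F →+ HQ F :=
    { toFun := fun p => α * p.1 + β * p.2
      map_zero' := by simp
      map_add' := fun p r => by simp only [Prod.fst_add, Prod.snd_add, mul_add]; abel }
  let g : f.ker → HQ F := fun p => (p : HQ F × HQ F).1
  have hg : Function.Injective g := by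
    intro p r e
    have hp := h (p : HQ F × HQ F).1 (p : HQ F × HQ F).2 p.2
    have hr := h (r : HQ F × HQ F).1 (r : HQ F × HQ F).2 r.2
    exact Subtype.ext (Prod.ext e (by rw [hp, hr, show (p : HQ F × HQ F).1 = (r : HQ F × HQ F).1 from e]))
  have hcard : Nat.card (HQ F) ≤ Nat.card f.ker := by
    have hk := f.ker.card_mul_index
    have hi : f.ker.index ≤ Nat.card (HQ F) := by
      rw [AddSubgroup.index_ker]
      exact Finite.card_subtype_le _
    rw [Nat.card_prod] at hk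
    have h0 : 0 < Nat.card (HQ F) := Nat.card_pos
    by_contra hlt
    push Not at hlt
    nlinarith
  have hsurj : Function.Surjective g :=
    ((Function.Injective.bijective_of_nat_card_le hg hcard).2)
  obtain ⟨p, hp⟩ := hsurj 1
  have hy := h (p : HQ F × HQ F).1 (p : HQ F × HQ F).2 p.2
  have := p.2
  change α * (p : HQ F × HQ F).1 + β * (p : HQ F × HQ F).2 = 0 at this
  rw [hy, show (p : HQ F × HQ F).1 = 1 from hp] at this
  simpa using this

end H47.PSp
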