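import Mathlib

/-!
Sylow 2-subgroups of symmetric groups of degree a power of two.
-/

set_option autoImplicit false
set_option linter.unusedSectionVars false
set_option linter.unusedSimpArgs false
set_option linter.style.haveILetI false

namespace H47.PSp

open Equiv Subgroup

/-- A `p`-subgroup whose normaliser contains it with index prime to `p` is maximal. -/
theorem eq_of_pGroup_ge {X : Type*} [Group X] [Finite X] {p : ℕ} [Fact p.Prime] {K T : Subgroup X}
    (hT : IsPGroup p T) (hKT : K ≤ T)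
    (hN : ∀ g ∈ normalizer (K : Set X), ∀ j : ℕ, g ^ p ^ j = 1 → g ∈ K) : T = K := by
  refine le_antisymm ?_ hKT
  by_contra hne
  haveI : Group.IsNilpotent T := hT.isNilpotent
  have hlt : K.subgroupOf T < ⊤ := lt_top_iff_ne_top.mpr fun h => hne (subgroupOf_eq_top.mp h)
  obtain ⟨x, hxn, hxK⟩ :=
    SetLike.exists_of_lt (Group.normalizerCondition_of_isNilpotent _ hlt)
  obtain ⟨j, hj⟩ := hT x
  refine hxK (mem_subgroupOf.2 (hN x ?_ j (by simpa using congrArg Subtype.val hj)))
  rw [mem_normalizer_iff] at hxn ⊢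
  intro h
  constructor
  · intro hh
    exact mem_subgroupOf.mp ((hxn ⟨h, hKT hh⟩).mp (mem_subgroupOf.mpr hh))
  · intro hh
    have hhS : h ∈ T := by
      have := T.mul_mem (T.mul_mem (T.inv_mem x.2) (hKT hh)) x.2
      simpa [mul_assoc] using this
    exact mem_subgroupOf.mp ((hxn ⟨h, hhS⟩).mpr (mem_subgroupOf.mpr hh))

/-- The properties of a Sylow `2`-subgroup of the symmetric group used in the sequel. -/
structure Good {ι : Type*} [DecidableEq ι] (P : Subgroup (Perm ι)) : Prop where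
  two : IsPGroup 2 P
  trans : ∀ a b : ι, ∃ σ ∈ P, σ a = b
  cover : ∀ a c : ι, a ≠ c → ∃ b : ι, b ≠ a ∧ swap a b ∈ P
  norm : normalizer (P : Set (Perm ι)) = P

theorem Good.unique {ι : Type*} [DecidableEq ι] {P : Subgroup (Perm ι)} (h : Good P) {a b c : ι}
    (hb : swap a b ∈ P) (hc : swap a c ∈ P) (hab : a ≠ b) (hac : a ≠ c) : b = c := by
  by_contra hbc
  have hm := mul_mem hb hc
  set σ := swap a b * swap a c with hσ
  have h3 : σ ^ 3 = 1 := by
    ext x
    rw [hσ, pow_succ, pow_succ, pow_one]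
    simp only [Perm.mul_apply, Perm.one_apply]
    by_cases hxa : x = a
    · subst hxa
      simp [swap_apply_of_ne_of_ne, hab, hac, hbc, Ne.symm hab, Ne.symm hac, Ne.symm hbc]
    · by_cases hxb : x = b
      · subst hxb
        simp [swap_apply_of_ne_of_ne, hab, hac, hbc, Ne.symm hab, Ne.symm hac, Ne.symm hbc]
      · by_cases hxc : x = c
        · subst hxc
          simp [swap_apply_of_ne_of_ne, hab, hac, hbc, Ne.symm hab, Ne.symm hac, Ne.symm hbc]
        · simp [swap_apply_of_ne_of_ne, hxa, hxb, hxc]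
  obtain ⟨j, hj⟩ := h.two ⟨σ, hm⟩
  have hj' : σ ^ 2 ^ j = 1 := by simpa using congrArg Subtype.val hj
  have h1 := pow_gcd_eq_one.2 ⟨h3, hj'⟩
  have hco : Nat.Coprime 3 (2 ^ j) := (by norm_num : Nat.Coprime 3 2).pow_right j
  rw [hco.gcd_eq_one, pow_one] at h1
  have := congrArg (fun f : Perm ι => f c) h1
  simp [hσ, Perm.mul_apply, swap_apply_right, swap_apply_left] at this
  exact hbc this

variable {ι : Type*} [DecidableEq ι]

/-- The permutations of `ι × Bool` respecting the pairs and permuting them as `P` does. -/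
def wrP (P : Subgroup (Perm ι)) : Subgroup (Perm (ι × Bool)) where
  carrier := {π | ∃ σ ∈ P, ∀ x, (π x).1 = σ x.1}
  one_mem' := ⟨1, P.one_mem, fun _ => rfl⟩
  mul_mem' := by
    rintro π π' ⟨σ, hσ, h⟩ ⟨σ', hσ', h'⟩
    exact ⟨σ * σ', P.mul_mem hσ hσ', fun x => by rw [Perm.mul_apply, h, h', Perm.mul_apply]⟩
  inv_mem' := by
    rintro π ⟨σ, hσ, h⟩
    refine ⟨σ⁻¹, P.inv_mem hσ, fun x => ?_⟩
    have := h (π⁻¹ x)
    rw [Perm.coe_inv, Equiv.apply_symm_apply] at this
    rw [Perm.coe_inv, Perm.coe_inv, this, Equiv.symm_apply_apply]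

theorem mem_wrP {P : Subgroup (Perm ι)} {π : Perm (ι × Bool)} :
    π ∈ wrP P ↔ ∃ σ ∈ P, ∀ x, (π x).1 = σ x.1 := Iff.rfl

theorem prodCongr_mem {P : Subgroup (Perm ι)} {σ : Perm ι} (hσ : σ ∈ P) (τ : Perm Bool) :
    (Equiv.prodCongr σ τ : Perm (ι × Bool)) ∈ wrP P := ⟨σ, hσ, fun _ => rfl⟩

theorem swap_pair_mem (P : Subgroup (Perm ι)) (x : ι) :
    swap (x, false) (x, true) ∈ wrP P := by
  refine ⟨1, P.one_mem, fun y => ?_⟩
  rw [Perm.one_apply]
  by_cases h1 : y = (x, false)
  · subst h1; rw [swap_apply_left]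
  · by_cases h2 : y = (x, true)
    · subst h2; rw [swap_apply_right]
    · rw [swap_apply_of_ne_of_ne h1 h2]

theorem good_wrP [Finite ι] {P : Subgroup (Perm ι)} (h : Good P) : Good (wrP P) where
  two := by
    rintro ⟨π, σ, hσ, hπ⟩
    obtain ⟨j, hj⟩ := h.two ⟨σ, hσ⟩
    have hj' : σ ^ 2 ^ j = 1 := by simpa using congrArg Subtype.val hj
    refine ⟨j + 1, Subtype.ext ?_⟩
    show π ^ 2 ^ (j + 1) = 1
    have hk : ∀ k : ℕ, ∀ x, ((π ^ k) x).1 = (σ ^ k) x.1 := by
      intro k
      induction k with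
      | zero => simp
      | succ k ih => intro x; rw [pow_succ', pow_succ', Perm.mul_apply, Perm.mul_apply, hπ, ih]
    rw [pow_succ 2 j, pow_mul, pow_two]
    set ρ := π ^ 2 ^ j with hρ
    have hρ1 : ∀ x, (ρ x).1 = x.1 := fun x => by rw [hρ, hk, hj', Perm.one_apply]
    ext ⟨x, b⟩ : 1
    rw [Perm.mul_apply, Perm.one_apply]
    have e1 := hρ1 (x, b)
    obtain ⟨c, hc⟩ : ∃ c, ρ (x, b) = (x, c) := ⟨(ρ (x, b)).2, Prod.ext e1 rfl⟩
    obtain ⟨d, hd⟩ : ∃ d, ρ (x, c) = (x, d) := ⟨(ρ (x, c)).2, Prod.ext (hρ1 (x, c)) rfl⟩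
    rw [hc, hd]
    by_cases hbc : c = b
    · subst hbc; rw [← hd, hc]
    · have : d ≠ c := fun e => hbc (Prod.ext_iff.1 (ρ.injective (hd.trans (e ▸ hc.symm)))).2
      cases b <;> cases c <;> cases d <;> simp_all
  trans := by
    rintro ⟨x, b⟩ ⟨y, c⟩
    obtain ⟨σ, hσ, hxy⟩ := h.trans x y
    refine ⟨Equiv.prodCongr σ (swap b c), prodCongr_mem hσ _, ?_⟩
    simp [hxy]
  cover := by
    rintro ⟨x, b⟩ - -
    cases b
    · exact ⟨(x, true), by simp, swap_pair_mem P x⟩
    · exact ⟨(x, false), by simp, by rw [swap_comm]; exact swap_pair_mem P x⟩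
  norm := by
    refine le_antisymm ?_ le_normalizer
    intro g hg
    have hfib : ∀ x, (g (x, false)).1 = (g (x, true)).1 := by
      intro x
      have hs := (mem_normalizer_iff.1 hg _).1 (swap_pair_mem P x)
      rw [← swap_apply_apply] at hs
      obtain ⟨σ, -, hσ⟩ := hs
      set a := g (x, false) with ha
      set c := g (x, true) with hc
      have hac : a ≠ c := fun e => by simpa using g.injective e
      by_contra hne
      have h1 : c.1 = σ a.1 := by simpa using hσ a
      have h2 := hσ (a.1, !a.2)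
      rw [swap_apply_of_ne_of_ne] at h2
      · exact hne (h2.trans h1.symm)
      · intro e
        have := congrArg Prod.snd e
        simp at this
      · intro e
        exact hne (by simpa using congrArg Prod.fst e)
    let f : ι → ι := fun x => (g (x, false)).1
    have hgf : ∀ y, (g y).1 = f y.1 := by
      rintro ⟨x, b⟩
      cases b
      · rfl
      · exact (hfib x).symm
    have hf : Function.Surjective f := fun y =>
      ⟨(g.symm (y, false)).1, by rw [← hgf, Equiv.apply_symm_apply]⟩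
    let σ : Perm ι := Equiv.ofBijective f ⟨Finite.injective_iff_surjective.2 hf, hf⟩
    have hσ : ∀ y, (g y).1 = σ y.1 := hgf
    refine ⟨σ, ?_, hσ⟩
    rw [← h.norm, mem_normalizer_iff]
    have hginv : ∀ y, (g⁻¹ y).1 = σ⁻¹ y.1 := fun y => by
      have := hσ (g⁻¹ y)
      rw [Perm.coe_inv, Equiv.apply_symm_apply] at this
      rw [Perm.coe_inv, Perm.coe_inv, this, Equiv.symm_apply_apply]
    intro ρ
    have hl : ∀ ρ : Perm ι, ∀ y, ((g * (Equiv.prodCongr ρ (1 : Perm Bool) : Perm (ι × Bool)) * g⁻¹ : Perm (ι × Bool)) y).1 = (σ * ρ * σ⁻¹) y.1 := by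
      intro ρ y
      simp only [Perm.mul_apply, hσ, Equiv.prodCongr_apply, Prod.map_fst, hginv]
    constructor
    · intro hρ
      obtain ⟨τ, hτ, hτ'⟩ := (mem_normalizer_iff.1 hg _).1 (prodCongr_mem hρ 1)
      convert hτ using 1
      ext x
      exact ((hl ρ (x, false)).symm.trans (hτ' _))
    · intro hρ
      obtain ⟨τ, hτ, hτ'⟩ := (mem_normalizer_iff.1 hg (Equiv.prodCongr ρ 1)).2
        ⟨σ * ρ * σ⁻¹, hρ, hl ρ⟩
      convert hτ using 1
      ext x
      exact (hτ' (x, false)).symm.trans (by simp) |>.symm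

/-- Transport of a good subgroup along a bijection. -/
theorem good_map {κ : Type*} [DecidableEq κ] (e : ι ≃ κ) {P : Subgroup (Perm ι)} (h : Good P) :
    Good (P.map e.permCongrHom.toMonoidHom) where
  two := h.two.map _
  trans := fun a b => by
    obtain ⟨σ, hσ, hab⟩ := h.trans (e.symm a) (e.symm b)
    exact ⟨_, ⟨σ, hσ, rfl⟩, by simp [Equiv.permCongrHom, hab]⟩
  cover := fun a c hac => by
    obtain ⟨b, hb, hm⟩ := h.cover (e.symm a) (e.symm c) (e.symm.injective.ne hac)
    refine ⟨e b, fun e' => hb (by rw [← e', Equiv.symm_apply_apply]), _, hm, ?_⟩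
    ext x
    obtain ⟨y, rfl⟩ := e.surjective x
    obtain ⟨a', rfl⟩ := e.surjective a
    simp [Equiv.permCongrHom, Equiv.permCongr_apply, swap_apply_def, apply_ite e]
  norm := by
    rw [← map_equiv_normalizer_eq, h.norm]

theorem exists_good : ∀ k : ℕ, ∃ P : Subgroup (Perm (Fin (2 ^ k))), Good P
  | 0 => ⟨⊤, ⟨IsPGroup.of_card (n := 0) (by simp [Nat.card_perm]),
      fun a b => ⟨1, Subgroup.mem_top _, by
        have ha := a.2; have hb := b.2
        simp only [pow_zero] at ha hb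
        exact Fin.ext (by simp)⟩,
      fun a c hac => absurd (Fin.ext (by
        have ha := a.2; have hc := c.2
        simp only [pow_zero] at ha hc
        omega)) hac,
      top_unique le_normalizer⟩⟩
  | k + 1 => by
    obtain ⟨P, hP⟩ := exists_good k
    exact ⟨_, good_map (((Equiv.refl _).prodCongr finTwoEquiv.symm).trans
      (finProdFinEquiv.trans (finCongr (pow_succ 2 k).symm))) (good_wrP hP)⟩

end H47.PSp
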