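import Cfsg.Agent.H47.PSp.Basic
import Cfsg.Agent.H47.PSp.Perm
import Cfsg.Agent.H47.PSp.Group

/-!
Subgroups of the norm-one quaternions containing the quaternion group of order eight.
-/

set_option autoImplicit false
set_option linter.unusedSectionVars false
set_option linter.unusedSimpArgs false
set_option linter.style.haveILetI false
set_option maxHeartbeats 1000000

namespace H47.PSp

open Subgroup
open scoped Quaternion

variable {F : Type*} [Field F]

theorem half_eq_zero (h2 : (2 : F) ≠ 0) {r : F} (h : 2 * r = 0) : r = 0 := (mul_eq_zero.1 h).resolve_left h2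

theorem mem_unitary_of_sum {x : HQ F} (h : x.re ^ 2 + x.imI ^ 2 + x.imJ ^ 2 + x.imK ^ 2 = 1) :
    x ∈ unitary (HQ F) := by
  have h' : Quaternion.normSq x = 1 := by rw [Quaternion.normSq_def']; exact h
  rw [Unitary.mem_iff, Quaternion.star_mul_self, Quaternion.self_mul_star, h', Quaternion.coe_one]
  exact ⟨rfl, rfl⟩

theorem normSq_SL1 (d : SL1 F) :
    (d : HQ F).re ^ 2 + (d : HQ F).imI ^ 2 + (d : HQ F).imJ ^ 2 + (d : HQ F).imK ^ 2 = 1 := by
  have h := star_mul_coe d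
  rw [Quaternion.star_mul_self, Quaternion.normSq_def', ← Quaternion.coe_one] at h
  exact Quaternion.coe_inj.1 h

def qi : SL1 F := ⟨⟨0, 1, 0, 0⟩, mem_unitary_of_sum (by simp)⟩
def qj : SL1 F := ⟨⟨0, 0, 1, 0⟩, mem_unitary_of_sum (by simp)⟩
def qk : SL1 F := ⟨⟨0, 0, 0, 1⟩, mem_unitary_of_sum (by simp)⟩

@[simp] theorem qi_re : ((qi : SL1 F) : HQ F).re = 0 := rfl
@[simp] theorem qi_imI : ((qi : SL1 F) : HQ F).imI = 1 := rfl
@[simp] theorem qi_imJ : ((qi : SL1 F) : HQ F).imJ = 0 := rfl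
@[simp] theorem qi_imK : ((qi : SL1 F) : HQ F).imK = 0 := rfl
@[simp] theorem qj_re : ((qj : SL1 F) : HQ F).re = 0 := rfl
@[simp] theorem qj_imI : ((qj : SL1 F) : HQ F).imI = 0 := rfl
@[simp] theorem qj_imJ : ((qj : SL1 F) : HQ F).imJ = 1 := rfl
@[simp] theorem qj_imK : ((qj : SL1 F) : HQ F).imK = 0 := rfl
@[simp] theorem qk_re : ((qk : SL1 F) : HQ F).re = 0 := rfl
@[simp] theorem qk_imI : ((qk : SL1 F) : HQ F).imI = 0 := rfl
@[simp] theorem qk_imJ : ((qk : SL1 F) : HQ F).imJ = 0 := rfl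
@[simp] theorem qk_imK : ((qk : SL1 F) : HQ F).imK = 1 := rfl

/-- Equality of norm-one quaternions coordinatewise. -/
theorem SL1.ext {a b : SL1 F} (h0 : (a : HQ F).re = (b : HQ F).re) (h1 : (a : HQ F).imI = (b : HQ F).imI)
    (h2 : (a : HQ F).imJ = (b : HQ F).imJ) (h3 : (a : HQ F).imK = (b : HQ F).imK) : a = b :=
  Subtype.ext (Quaternion.ext _ _ h0 h1 h2 h3)

theorem coe_mul_SL1 (a b : SL1 F) : ((a * b : SL1 F) : HQ F) = (a : HQ F) * (b : HQ F) := rfl

theorem coe_one_SL1 : ((1 : SL1 F) : HQ F) = 1 := rfl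


/-- The quaternion group of order eight. -/
def Q8 (F : Type*) [Field F] : Subgroup (SL1 F) where
  carrier := {d | ∃ e, (e = 1 ∨ e = qi ∨ e = qj ∨ e = qk) ∧ (d = e ∨ d = negOne * e)}
  one_mem' := ⟨1, Or.inl rfl, Or.inl rfl⟩
  mul_mem' := by
    rintro a b ⟨e, he, ha⟩ ⟨f, hf, hb⟩
    have key : ∃ g, (g = 1 ∨ g = qi ∨ g = qj ∨ g = qk) ∧ (e * f = g ∨ e * f = negOne * g) := by
      rcases he with rfl | rfl | rfl | rfl <;> rcases hf with rfl | rfl | rfl | rfl <;>
      first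
      | (refine ⟨1, Or.inl rfl, Or.inl ?_⟩; apply SL1.ext <;> simp [coe_mul_SL1, coe_one_SL1, coe_negOne]; done)
      | (refine ⟨1, Or.inl rfl, Or.inr ?_⟩; apply SL1.ext <;> simp [coe_mul_SL1, coe_one_SL1, coe_negOne]; done)
      | (refine ⟨qi, Or.inr (Or.inl rfl), Or.inl ?_⟩; apply SL1.ext <;> simp [coe_mul_SL1, coe_one_SL1, coe_negOne]; done)
      | (refine ⟨qi, Or.inr (Or.inl rfl), Or.inr ?_⟩; apply SL1.ext <;> simp [coe_mul_SL1, coe_one_SL1, coe_negOne]; done)
      | (refine ⟨qj, Or.inr (Or.inr (Or.inl rfl)), Or.inl ?_⟩; apply SL1.ext <;> simp [coe_mul_SL1, coe_one_SL1, coe_negOne]; done)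
      | (refine ⟨qj, Or.inr (Or.inr (Or.inl rfl)), Or.inr ?_⟩; apply SL1.ext <;> simp [coe_mul_SL1, coe_one_SL1, coe_negOne]; done)
      | (refine ⟨qk, Or.inr (Or.inr (Or.inr rfl)), Or.inl ?_⟩; apply SL1.ext <;> simp [coe_mul_SL1, coe_one_SL1, coe_negOne]; done)
      | (refine ⟨qk, Or.inr (Or.inr (Or.inr rfl)), Or.inr ?_⟩; apply SL1.ext <;> simp [coe_mul_SL1, coe_one_SL1, coe_negOne]; done)
    obtain ⟨g, hg, hgg⟩ := key
    refine ⟨g, hg, ?_⟩
    have hn : ∀ x : SL1 F, negOne * (negOne * x) = x := fun x => by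
      rw [← mul_assoc, negOne_mul_self, one_mul]
    have hc : ∀ x y : SL1 F, x * (negOne * y) = negOne * (x * y) := fun x y => by
      rw [← mul_assoc, ← negOne_comm, mul_assoc]
    rcases ha with rfl | rfl <;> rcases hb with rfl | rfl <;> rcases hgg with h | h <;>
      simp [mul_assoc, hc, hn, h]
  inv_mem' := by
    rintro d ⟨e, he, hd⟩
    have hinv : e⁻¹ = e ∨ e⁻¹ = negOne * e := by
      rcases he with rfl | rfl | rfl | rfl
      · exact Or.inl inv_one
      all_goals exact Or.inr (by apply SL1.ext <;> simp [coe_inv_SL1, coe_mul_SL1, coe_negOne])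
    refine ⟨e, he, ?_⟩
    rcases hd with rfl | rfl <;> rcases hinv with h | h
    · exact Or.inl h
    · exact Or.inr h
    · exact Or.inr (by rw [_root_.mul_inv_rev, negOne_inv, h, negOne_comm])
    · exact Or.inl (by rw [_root_.mul_inv_rev, negOne_inv, h, ← negOne_comm, ← mul_assoc, negOne_mul_self, one_mul])

theorem mem_Q8 {d : SL1 F} : d ∈ Q8 F ↔
    ∃ e, (e = 1 ∨ e = qi ∨ e = qj ∨ e = qk) ∧ (d = e ∨ d = negOne * e) := Iff.rfl

theorem negOne_mem_Q8 : negOne ∈ Q8 F := ⟨1, Or.inl rfl, Or.inr (mul_one _).symm⟩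
theorem qi_mem_Q8 : qi ∈ Q8 F := ⟨qi, Or.inr (Or.inl rfl), Or.inl rfl⟩
theorem qj_mem_Q8 : qj ∈ Q8 F := ⟨qj, Or.inr (Or.inr (Or.inl rfl)), Or.inl rfl⟩
theorem qk_mem_Q8 : qk ∈ Q8 F := ⟨qk, Or.inr (Or.inr (Or.inr rfl)), Or.inl rfl⟩

theorem isPGroup_Q8 : IsPGroup 2 (Q8 F) := by
  rintro ⟨d, e, he, hd⟩
  refine ⟨2, Subtype.ext ?_⟩
  show d ^ 2 ^ 2 = 1
  have h4 : e ^ 4 = 1 := by
    rcases he with rfl | rfl | rfl | rfl
    · exact one_pow _
    all_goals apply SL1.ext <;> simp [pow_succ, coe_mul_SL1, coe_one_SL1]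
  rcases hd with rfl | rfl
  · exact h4
  · have hc : Commute negOne e := negOne_comm e
    rw [hc.mul_pow, show (2 ^ 2 : ℕ) = 2 * 2 from rfl, pow_mul negOne, pow_two negOne, negOne_mul_self,
      one_pow, one_mul]
    exact h4

/-- The elements fixing the axis of `e`. -/
def Ax (e : SL1 F) : Subgroup (SL1 F) where
  carrier := {d | d * e * d⁻¹ = e ∨ d * e * d⁻¹ = negOne * e}
  one_mem' := Or.inl (by simp)
  mul_mem' := by
    intro a b ha hb
    have hab : a * b * e * (a * b)⁻¹ = a * (b * e * b⁻¹) * a⁻¹ := by simp [mul_assoc]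
    show a * b * e * (a * b)⁻¹ = e ∨ _
    rw [hab]
    rcases hb with hb | hb <;> rw [hb]
    · exact ha
    · rw [show a * (negOne * e) * a⁻¹ = negOne * (a * e * a⁻¹) by
        rw [← mul_assoc a, ← negOne_comm a, mul_assoc, mul_assoc, mul_assoc]]
      rcases ha with ha | ha <;> rw [ha]
      · exact Or.inr rfl
      · exact Or.inl (by rw [← mul_assoc, negOne_mul_self, one_mul])
  inv_mem' := by
    intro a ha
    show a⁻¹ * e * a⁻¹⁻¹ = e ∨ _
    rcases ha with ha | ha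
    · refine Or.inl ?_
      conv_lhs => rw [← ha]
      simp [mul_assoc]
    · refine Or.inr ?_
      have he : e = negOne * (a * e * a⁻¹) := by rw [ha, ← mul_assoc, negOne_mul_self, one_mul]
      conv_lhs => rw [he]
      simp [mul_assoc]
      rw [← mul_assoc a⁻¹ negOne, ← negOne_comm, mul_assoc, inv_mul_cancel_left]

theorem mem_Ax {e d : SL1 F} : d ∈ Ax e ↔ d * e * d⁻¹ = e ∨ d * e * d⁻¹ = negOne * e := Iff.rfl

variable (h2 : (2 : F) ≠ 0)
include h2

theorem commute_qi {d : SL1 F} (h : d * qi = qi * d) : (d : HQ F).imJ = 0 ∧ (d : HQ F).imK = 0 := by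
  have a := congrArg (fun x : SL1 F => (x : HQ F).imK) h
  have b := congrArg (fun x : SL1 F => (x : HQ F).imJ) h
  simp [coe_mul_SL1] at a b
  exact ⟨half_eq_zero h2 (by first | linear_combination a | linear_combination -a),
    half_eq_zero h2 (by first | linear_combination b | linear_combination -b)⟩

theorem commute_qj {d : SL1 F} (h : d * qj = qj * d) : (d : HQ F).imI = 0 ∧ (d : HQ F).imK = 0 := by
  have a := congrArg (fun x : SL1 F => (x : HQ F).imK) h
  have b := congrArg (fun x : SL1 F => (x : HQ F).imI) h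
  simp [coe_mul_SL1] at a b
  exact ⟨half_eq_zero h2 (by first | linear_combination a | linear_combination -a),
    half_eq_zero h2 (by first | linear_combination b | linear_combination -b)⟩

theorem commute_qk {d : SL1 F} (h : d * qk = qk * d) : (d : HQ F).imI = 0 ∧ (d : HQ F).imJ = 0 := by
  have a := congrArg (fun x : SL1 F => (x : HQ F).imJ) h
  have b := congrArg (fun x : SL1 F => (x : HQ F).imI) h
  simp [coe_mul_SL1] at a b
  exact ⟨half_eq_zero h2 (by first | linear_combination a | linear_combination -a),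
    half_eq_zero h2 (by first | linear_combination b | linear_combination -b)⟩

theorem anti_qi {d : SL1 F} (h : d * qi = negOne * qi * d) : (d : HQ F).re = 0 ∧ (d : HQ F).imI = 0 := by
  have a := congrArg (fun x : SL1 F => (x : HQ F).imI) h
  have b := congrArg (fun x : SL1 F => (x : HQ F).re) h
  simp [coe_mul_SL1, coe_negOne] at a b
  exact ⟨half_eq_zero h2 (by first | linear_combination a | linear_combination -a),
    half_eq_zero h2 (by first | linear_combination b | linear_combination -b)⟩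

theorem anti_qj {d : SL1 F} (h : d * qj = negOne * qj * d) : (d : HQ F).re = 0 ∧ (d : HQ F).imJ = 0 := by
  have a := congrArg (fun x : SL1 F => (x : HQ F).imJ) h
  have b := congrArg (fun x : SL1 F => (x : HQ F).re) h
  simp [coe_mul_SL1, coe_negOne] at a b
  exact ⟨half_eq_zero h2 (by first | linear_combination a | linear_combination -a),
    half_eq_zero h2 (by first | linear_combination b | linear_combination -b)⟩

theorem anti_qk {d : SL1 F} (h : d * qk = negOne * qk * d) : (d : HQ F).re = 0 ∧ (d : HQ F).imK = 0 := by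
  have a := congrArg (fun x : SL1 F => (x : HQ F).imK) h
  have b := congrArg (fun x : SL1 F => (x : HQ F).re) h
  simp [coe_mul_SL1, coe_negOne] at a b
  exact ⟨half_eq_zero h2 (by first | linear_combination a | linear_combination -a),
    half_eq_zero h2 (by first | linear_combination b | linear_combination -b)⟩

theorem negOne_ne_one : (negOne : SL1 F) ≠ 1 := by
  intro h
  have := congrArg (fun x : SL1 F => (x : HQ F).re) h
  simp [coe_negOne] at this
  exact h2 (by linear_combination -this)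

/-- The element of order three normalising the quaternion group. -/
def qw : SL1 F := ⟨⟨-2⁻¹, 2⁻¹, 2⁻¹, 2⁻¹⟩, mem_unitary_of_sum (by
  simp only [inv_pow, neg_sq]; field_simp; ring)⟩

@[simp] theorem qw_re : ((qw h2 : SL1 F) : HQ F).re = -2⁻¹ := rfl
@[simp] theorem qw_imI : ((qw h2 : SL1 F) : HQ F).imI = 2⁻¹ := rfl
@[simp] theorem qw_imJ : ((qw h2 : SL1 F) : HQ F).imJ = 2⁻¹ := rfl
@[simp] theorem qw_imK : ((qw h2 : SL1 F) : HQ F).imK = 2⁻¹ := rfl

theorem qw_qi : qw h2 * qi = qk * qw h2 := by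
  apply SL1.ext <;> simp [coe_mul_SL1]

theorem qw_qj : qw h2 * qj = qi * qw h2 := by
  apply SL1.ext <;> simp [coe_mul_SL1]

theorem qw_qk : qw h2 * qk = qj * qw h2 := by
  apply SL1.ext <;> simp [coe_mul_SL1]

theorem qw_cube : qw h2 ^ 3 = 1 := by
  apply SL1.ext <;>
  · simp [pow_succ, coe_mul_SL1, coe_one_SL1]
    field_simp
    ring

theorem qw_mem_normalizer : qw h2 ∈ normalizer (Q8 F : Set (SL1 F)) := by
  have key : ∀ {w : SL1 F}, (∀ e, (e = 1 ∨ e = qi ∨ e = qj ∨ e = qk) → w * e * w⁻¹ ∈ Q8 F) →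
      ∀ x ∈ Q8 F, w * x * w⁻¹ ∈ Q8 F := by
    rintro w hw x ⟨e, he, rfl | rfl⟩
    · exact hw _ he
    · rw [← mul_assoc, ← negOne_comm w, mul_assoc negOne w, mul_assoc negOne]
      exact mul_mem negOne_mem_Q8 (hw _ he)
  have h1 : ∀ e, (e = 1 ∨ e = qi ∨ e = qj ∨ e = qk) → qw h2 * e * (qw h2)⁻¹ ∈ Q8 F := by
    rintro e (rfl | rfl | rfl | rfl)
    · rw [mul_one, mul_inv_cancel]; exact one_mem _
    · rw [qw_qi h2, mul_inv_cancel_right]; exact qk_mem_Q8
    · rw [qw_qj h2, mul_inv_cancel_right]; exact qi_mem_Q8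
    · rw [qw_qk h2, mul_inv_cancel_right]; exact qj_mem_Q8
  have hp : ∀ k : ℕ, ∀ x ∈ Q8 F, qw h2 ^ k * x * (qw h2 ^ k)⁻¹ ∈ Q8 F := by
    intro k
    induction k with
    | zero => simp
    | succ k ih =>
      intro x hx
      have := key h1 _ (ih x hx)
      simpa [pow_succ', mul_assoc] using this
  rw [mem_normalizer_iff]
  refine fun x => ⟨key h1 x, fun hx => ?_⟩
  have := hp 2 _ hx
  have e : qw h2 ^ 2 = (qw h2)⁻¹ := eq_inv_of_mul_eq_one_left (by rw [← pow_succ]; exact qw_cube h2)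
  rw [e] at this
  simpa [mul_assoc] using this

omit h2 in
theorem mem_Ax_qi_iff {d : SL1 F} (h2 : (2 : F) ≠ 0) (h : d ∈ Ax qi) :
    ((d : HQ F).imJ = 0 ∧ (d : HQ F).imK = 0) ∨ ((d : HQ F).re = 0 ∧ (d : HQ F).imI = 0) := by
  rcases h with h | h
  · exact Or.inl (commute_qi h2 (mul_inv_eq_iff_eq_mul.1 h))
  · exact Or.inr (anti_qi h2 (mul_inv_eq_iff_eq_mul.1 h))

/-- With `2` a non-square, the normaliser of the quaternion group has index three over it. -/
theorem normalizer_Q8 (hsq : ¬ IsSquare (2 : F)) {d : SL1 F} (hd : d ∈ normalizer (Q8 F : Set (SL1 F))) :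
    ∃ n < 3, ∃ q ∈ Q8 F, d = qw h2 ^ n * q := by
  have hx : d * qi * d⁻¹ = qi ∨ d * qi * d⁻¹ = negOne * qi ∨ d * qi * d⁻¹ = qj ∨
      d * qi * d⁻¹ = negOne * qj ∨ d * qi * d⁻¹ = qk ∨ d * qi * d⁻¹ = negOne * qk := by
    obtain ⟨e, he, hde⟩ := (mem_normalizer_iff.1 hd qi).1 qi_mem_Q8
    rcases he with rfl | rfl | rfl | rfl
    · exfalso
      have hs : qi * qi = (negOne : SL1 F) := by
        apply SL1.ext <;> simp [coe_mul_SL1, coe_negOne]
      have hsq' : d * qi * d⁻¹ * (d * qi * d⁻¹) = negOne := by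
        simp only [mul_assoc, inv_mul_cancel_left]
        rw [← mul_assoc qi, hs, ← mul_assoc, ← negOne_comm, mul_inv_cancel_right]
      rcases hde with h | h <;> rw [h] at hsq'
      · exact negOne_ne_one h2 (by simpa using hsq'.symm)
      · exact negOne_ne_one h2 (by simpa [negOne_mul_self] using hsq'.symm)
    · tauto
    · tauto
    · tauto
  have reduce : ∀ d : SL1 F, d ∈ normalizer (Q8 F : Set (SL1 F)) → d ∈ Ax qi → d ∈ Q8 F := by
    intro d hd hA
    wlog hT : (d : HQ F).imJ = 0 ∧ (d : HQ F).imK = 0 generalizing d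
    · have hq : qj ∈ Ax (qi : SL1 F) := Or.inr (by
        apply SL1.ext <;> simp [coe_mul_SL1, coe_inv_SL1, coe_negOne])
      have hd' := (mem_Ax_qi_iff h2 hA).resolve_left hT
      have := this (d * qj) (mul_mem hd (le_normalizer qj_mem_Q8)) (mul_mem hA hq)
        (by simp [coe_mul_SL1, hd'.1, hd'.2])
      exact (Subgroup.mul_mem_cancel_right _ qj_mem_Q8).1 this
    obtain ⟨hJ, hK⟩ := hT
    have hn := normSq_SL1 d
    rw [hJ, hK] at hn
    by_cases ha : (d : HQ F).re = 0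
    · have hb : (d : HQ F).imI = 1 ∨ (d : HQ F).imI = -1 := sq_eq_one_iff.1 (by linear_combination hn - (d : HQ F).re * ha)
      rcases hb with hb | hb
      · convert (qi_mem_Q8 (F := F)) using 1
        apply SL1.ext <;> simp [ha, hb, hJ, hK]
      · convert mul_mem (negOne_mem_Q8 (F := F)) qi_mem_Q8 using 1
        apply SL1.ext <;> simp [coe_mul_SL1, coe_negOne, ha, hb, hJ, hK]
    by_cases hb : (d : HQ F).imI = 0
    · have ha' : (d : HQ F).re = 1 ∨ (d : HQ F).re = -1 :=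
        sq_eq_one_iff.1 (by linear_combination hn - (d : HQ F).imI * hb)
      rcases ha' with ha' | ha'
      · convert one_mem (Q8 F) using 1
        apply SL1.ext <;> simp [coe_one_SL1, ha', hb, hJ, hK]
      · convert (negOne_mem_Q8 (F := F)) using 1
        apply SL1.ext <;> simp [coe_negOne, ha', hb, hJ, hK]
    exfalso
    obtain ⟨e, he, hde⟩ := (mem_normalizer_iff.1 hd qj).1 qj_mem_Q8
    have hK' : ((d * qj * d⁻¹ : SL1 F) : HQ F).imK = 2 * ((d : HQ F).re * (d : HQ F).imI) := by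
      simp [coe_mul_SL1, coe_inv_SL1, hJ, hK]
      ring
    have hJ' : ((d * qj * d⁻¹ : SL1 F) : HQ F).imJ = (d : HQ F).re ^ 2 - (d : HQ F).imI ^ 2 := by
      simp [coe_mul_SL1, coe_inv_SL1, hJ, hK]
      ring
    have hne : ((d * qj * d⁻¹ : SL1 F) : HQ F).imK ≠ 0 := by
      rw [hK']; exact mul_ne_zero h2 (mul_ne_zero ha hb)
    have hzero : ((d * qj * d⁻¹ : SL1 F) : HQ F).imJ = 0 := by
      rcases hde with h | h <;> rw [h] at hne ⊢ <;> rcases he with rfl | rfl | rfl | rfl <;>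
        simp [coe_mul_SL1, coe_negOne, coe_one_SL1] at hne ⊢
    rw [hJ'] at hzero
    refine hsq ⟨(d : HQ F).re⁻¹, ?_⟩
    field_simp
    linear_combination hn + hzero
  have hw := qw_mem_normalizer h2
  have w1 : qw h2 * qk * (qw h2)⁻¹ = qj := by rw [qw_qk h2, mul_inv_cancel_right]
  have w2 : qw h2 * qj * (qw h2)⁻¹ = qi := by rw [qw_qj h2, mul_inv_cancel_right]
  have out : ∀ k : ℕ, k < 3 → qw h2 ^ k * d ∈ Ax qi → ∃ n < 3, ∃ q ∈ Q8 F, d = qw h2 ^ n * q := by
    intro k hk hA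
    refine ⟨(3 - k) % 3, Nat.mod_lt _ (by norm_num), _, reduce _ (mul_mem (pow_mem hw k) hd) hA, ?_⟩
    rw [← mul_assoc, ← pow_add]
    interval_cases k <;> simp [qw_cube h2]
  have hneg : ∀ w x : SL1 F, w * (negOne * x) * w⁻¹ = negOne * (w * x * w⁻¹) := fun w x => by
    rw [← mul_assoc, ← negOne_comm w, mul_assoc negOne w, mul_assoc negOne]
  have hpow : ∀ k : ℕ, qw h2 ^ k * d * qi * (qw h2 ^ k * d)⁻¹ = qw h2 ^ k * (d * qi * d⁻¹) * (qw h2 ^ k)⁻¹ :=
    fun k => by simp [mul_assoc]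
  rcases hx with h | h | h | h | h | h
  · exact out 0 (by norm_num) (Or.inl (by rw [hpow, h]; simp))
  · exact out 0 (by norm_num) (Or.inr (by rw [hpow, h]; simp))
  · exact out 1 (by norm_num) (Or.inl (by rw [hpow, h, pow_one, w2]))
  · exact out 1 (by norm_num) (Or.inr (by rw [hpow, h, pow_one, hneg, w2]))
  · refine out 2 (by norm_num) (Or.inl ?_)
    rw [hpow, h, pow_two, show qw h2 * qw h2 * qk * (qw h2 * qw h2)⁻¹ =
      qw h2 * (qw h2 * qk * (qw h2)⁻¹) * (qw h2)⁻¹ by simp [mul_assoc], w1, w2]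
  · refine out 2 (by norm_num) (Or.inr ?_)
    rw [hpow, h, hneg, pow_two, show qw h2 * qw h2 * qk * (qw h2 * qw h2)⁻¹ =
      qw h2 * (qw h2 * qk * (qw h2)⁻¹) * (qw h2)⁻¹ by simp [mul_assoc], w1, w2]

theorem qw_not_mem_Q8 : qw h2 ∉ Q8 F := by
  rintro ⟨e, he, h | h⟩ <;>
  · have := congrArg (fun x : SL1 F => (x : HQ F).imI) h
    have h' := congrArg (fun x : SL1 F => (x : HQ F).imJ) h
    rcases he with rfl | rfl | rfl | rfl <;>
      simp [coe_mul_SL1, coe_negOne, coe_one_SL1, h2] at this h'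

end H47.PSp
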