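import Cfsg.Agent.H47.PSp.Quat

/-!
Subgroups of odd order of the norm-one quaternions normalised by `Q8`, and Sylow 2-subgroups.
-/

set_option autoImplicit false
set_option linter.unusedSectionVars false
set_option linter.unusedSimpArgs false
set_option linter.style.haveILetI false
set_option maxHeartbeats 1000000

namespace H47.PSp

open Subgroup
open scoped Quaternion commutatorElement

variable {F : Type*} [Field F]

/-- The three axes. -/
def IsAxis (e : SL1 F) : Prop := e = qi ∨ e = qj ∨ e = qk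

variable (h2 : (2 : F) ≠ 0)
include h2

theorem exists_axis_of_comm {O : Subgroup (SL1 F)} (hQ : Q8 F ≤ normalizer (O : Set (SL1 F)))
    (hab : ∀ a ∈ O, ∀ b ∈ O, a * b = b * a) (hodd : ∀ a ∈ O, a * a = 1 → a = 1) :
    ∃ e, IsAxis e ∧ ∀ x ∈ O, x * e = e * x := by
  have hcr : ∀ a ∈ O, (a : HQ F).imI * (a : HQ F).imJ = 0 ∧ (a : HQ F).imI * (a : HQ F).imK = 0 ∧
      (a : HQ F).imJ * (a : HQ F).imK = 0 := by
    intro a ha
    have e1 := hab a ha _ ((mem_normalizer_iff.1 (hQ qi_mem_Q8) a).1 ha)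
    have e2 := hab a ha _ ((mem_normalizer_iff.1 (hQ qj_mem_Q8) a).1 ha)
    have x1 := congrArg (fun x : SL1 F => (x : HQ F).imK) e1
    have y1 := congrArg (fun x : SL1 F => (x : HQ F).imJ) e1
    have x2 := congrArg (fun x : SL1 F => (x : HQ F).imI) e2
    simp [coe_mul_SL1, coe_inv_SL1] at x1 y1 x2
    have h4 : ∀ r : F, 4 * r = 0 → r = 0 := fun r hr =>
      half_eq_zero h2 (half_eq_zero h2 (by linear_combination hr))
    refine ⟨h4 _ ?_, h4 _ ?_, h4 _ ?_⟩
    · first | linear_combination x1 | linear_combination -x1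
    · first | linear_combination y1 | linear_combination -y1
    · first | linear_combination x2 | linear_combination -x2
  have hci : ∀ a b : SL1 F, a * b = b * a →
      (a : HQ F).imI * (b : HQ F).imJ = (a : HQ F).imJ * (b : HQ F).imI ∧
      (a : HQ F).imI * (b : HQ F).imK = (a : HQ F).imK * (b : HQ F).imI ∧
      (a : HQ F).imJ * (b : HQ F).imK = (a : HQ F).imK * (b : HQ F).imJ := by
    intro a b h
    have x1 := congrArg (fun x : SL1 F => (x : HQ F).imK) h
    have y1 := congrArg (fun x : SL1 F => (x : HQ F).imJ) h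
    have z1 := congrArg (fun x : SL1 F => (x : HQ F).imI) h
    simp [coe_mul_SL1] at x1 y1 z1
    refine ⟨?_, ?_, ?_⟩ <;> rw [← sub_eq_zero] <;> refine half_eq_zero h2 ?_
    · first | linear_combination x1 | linear_combination -x1
    · first | linear_combination y1 | linear_combination -y1
    · first | linear_combination z1 | linear_combination -z1
  by_cases hI : ∃ a ∈ O, (a : HQ F).imI ≠ 0
  · obtain ⟨a, ha, hai⟩ := hI
    refine ⟨qi, Or.inl rfl, fun b hb => ?_⟩
    obtain ⟨c1, c2, -⟩ := hcr a ha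
    have aj := (mul_eq_zero.1 c1).resolve_left hai
    have ak := (mul_eq_zero.1 c2).resolve_left hai
    obtain ⟨d1, d2, -⟩ := hci a b (hab a ha b hb)
    rw [aj, zero_mul] at d1
    rw [ak, zero_mul] at d2
    have bj := (mul_eq_zero.1 d1).resolve_left hai
    have bk := (mul_eq_zero.1 d2).resolve_left hai
    apply SL1.ext <;> simp [coe_mul_SL1, bj, bk]
  push Not at hI
  by_cases hJ : ∃ a ∈ O, (a : HQ F).imJ ≠ 0
  · obtain ⟨a, ha, haj⟩ := hJ
    refine ⟨qj, Or.inr (Or.inl rfl), fun b hb => ?_⟩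
    obtain ⟨-, -, c3⟩ := hcr a ha
    have ak := (mul_eq_zero.1 c3).resolve_left haj
    obtain ⟨-, -, d3⟩ := hci a b (hab a ha b hb)
    rw [ak, zero_mul] at d3
    have bk := (mul_eq_zero.1 d3).resolve_left haj
    apply SL1.ext <;> simp [coe_mul_SL1, hI b hb, bk]
  push Not at hJ
  exact ⟨qk, Or.inr (Or.inr rfl), fun b hb => by apply SL1.ext <;> simp [coe_mul_SL1, hI b hb, hJ b hb]⟩

/-- A noncentral element commuting with an axis has that centraliser. -/
theorem commute_axis_of_commute {e a x : SL1 F} (he : IsAxis e) (hae : a * e = e * a)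
    (ha : a ≠ 1) (ha' : a ≠ negOne) (hx : x * a = a * x) : x * e = e * x := by
  have x1 := congrArg (fun x : SL1 F => (x : HQ F).imK) hx
  have y1 := congrArg (fun x : SL1 F => (x : HQ F).imJ) hx
  have z1 := congrArg (fun x : SL1 F => (x : HQ F).imI) hx
  simp [coe_mul_SL1] at x1 y1 z1
  have hn := normSq_SL1 a
  rcases he with rfl | rfl | rfl
  · obtain ⟨hJ, hK⟩ := commute_qi h2 hae
    rw [hJ, hK] at hn x1 y1
    have hI : (a : HQ F).imI ≠ 0 := fun hI => by
      rcases sq_eq_one_iff.1 (show (a : HQ F).re ^ 2 = 1 by linear_combination hn - (a : HQ F).imI * hI) with r | r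
      · exact ha (by apply SL1.ext <;> simp [r, hI, hJ, hK])
      · exact ha' (by apply SL1.ext <;> simp [coe_negOne, r, hI, hJ, hK])
    have xj : (x : HQ F).imJ = 0 := (mul_eq_zero.1 (half_eq_zero h2 (r := (a : HQ F).imI * (x : HQ F).imJ)
      (by first | linear_combination x1 | linear_combination -x1))).resolve_left hI
    have xk : (x : HQ F).imK = 0 := (mul_eq_zero.1 (half_eq_zero h2 (r := (a : HQ F).imI * (x : HQ F).imK)
      (by first | linear_combination y1 | linear_combination -y1))).resolve_left hI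
    apply SL1.ext <;> simp [coe_mul_SL1, xj, xk]
  · obtain ⟨hI, hK⟩ := commute_qj h2 hae
    rw [hI, hK] at hn
    rw [hI] at x1
    rw [hK] at z1
    have hJ : (a : HQ F).imJ ≠ 0 := fun hJ => by
      rcases sq_eq_one_iff.1 (show (a : HQ F).re ^ 2 = 1 by linear_combination hn - (a : HQ F).imJ * hJ) with r | r
      · exact ha (by apply SL1.ext <;> simp [r, hI, hJ, hK])
      · exact ha' (by apply SL1.ext <;> simp [coe_negOne, r, hI, hJ, hK])
    have xi : (x : HQ F).imI = 0 := (mul_eq_zero.1 (half_eq_zero h2 (r := (a : HQ F).imJ * (x : HQ F).imI)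
      (by first | linear_combination x1 | linear_combination -x1))).resolve_left hJ
    have xk : (x : HQ F).imK = 0 := (mul_eq_zero.1 (half_eq_zero h2 (r := (a : HQ F).imJ * (x : HQ F).imK)
      (by first | linear_combination z1 | linear_combination -z1))).resolve_left hJ
    apply SL1.ext <;> simp [coe_mul_SL1, xi, xk]
  · obtain ⟨hI, hJ⟩ := commute_qk h2 hae
    rw [hI, hJ] at hn
    rw [hI] at y1
    rw [hJ] at z1
    have hK : (a : HQ F).imK ≠ 0 := fun hK => by
      rcases sq_eq_one_iff.1 (show (a : HQ F).re ^ 2 = 1 by linear_combination hn - (a : HQ F).imK * hK) with r | r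
      · exact ha (by apply SL1.ext <;> simp [r, hI, hJ, hK])
      · exact ha' (by apply SL1.ext <;> simp [coe_negOne, r, hI, hJ, hK])
    have xi : (x : HQ F).imI = 0 := (mul_eq_zero.1 (half_eq_zero h2 (r := (a : HQ F).imK * (x : HQ F).imI)
      (by first | linear_combination y1 | linear_combination -y1))).resolve_left hK
    have xj : (x : HQ F).imJ = 0 := (mul_eq_zero.1 (half_eq_zero h2 (r := (a : HQ F).imK * (x : HQ F).imJ)
      (by first | linear_combination z1 | linear_combination -z1))).resolve_left hK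
    apply SL1.ext <;> simp [coe_mul_SL1, xi, xj]

omit h2 in
theorem axis_mem_Q8 {e : SL1 F} (he : IsAxis e) : e ∈ Q8 F := by
  rcases he with rfl | rfl | rfl
  exacts [qi_mem_Q8, qj_mem_Q8, qk_mem_Q8]

/-- A finite group commuting with an axis is cyclic. -/
theorem isCyclic_of_commute_axis [Finite F] {e : SL1 F} (he : IsAxis e) {R : Subgroup (SL1 F)}
    (hR : ∀ x ∈ R, x * e = e * x) : IsCyclic R := by
  obtain ⟨ι, hι⟩ : ∃ ι : AlgebraicClosure F, ι ^ 2 = -1 := IsAlgClosed.exists_pow_nat_eq (-1) two_pos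
  let i : F →+* AlgebraicClosure F := algebraMap F (AlgebraicClosure F)
  have h2' : (2 : AlgebraicClosure F) ≠ 0 := by
    rw [← map_ofNat i 2]; exact fun h => h2 (i.injective (h.trans (map_zero i).symm))
  have hι0 : ι ≠ 0 := fun h => by rw [h] at hι; simp at hι
  let co : HQ F → F := fun x => (star ((e : HQ F)) * x).re
  have hco : ∀ x, x ∈ R → ∀ y, y ∈ R →
      ((x : HQ F) * (y : HQ F)).re = (x : HQ F).re * (y : HQ F).re - co x * co y ∧
      co ((x : HQ F) * (y : HQ F)) = (x : HQ F).re * co y + co x * (y : HQ F).re ∧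
      (co x = 0 → co y = 0 → (x : HQ F).re = (y : HQ F).re → x = y) ∧
      (co x = co y → (x : HQ F).re = (y : HQ F).re → x = y) := by
    intro x hx y hy
    rcases he with rfl | rfl | rfl
    · obtain ⟨a, b⟩ := commute_qi h2 (hR x hx)
      obtain ⟨c, d⟩ := commute_qi h2 (hR y hy)
      refine ⟨by simp [co, a, b, c, d], by simp [co, a, b, c, d], fun p q r => ?_, fun p r => ?_⟩ <;>
        (apply SL1.ext <;> simp_all [co])
    · obtain ⟨a, b⟩ := commute_qj h2 (hR x hx)
      obtain ⟨c, d⟩ := commute_qj h2 (hR y hy)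
      refine ⟨by simp [co, a, b, c, d], by simp [co, a, b, c, d], fun p q r => ?_, fun p r => ?_⟩ <;>
        (apply SL1.ext <;> simp_all [co])
    · obtain ⟨a, b⟩ := commute_qk h2 (hR x hx)
      obtain ⟨c, d⟩ := commute_qk h2 (hR y hy)
      refine ⟨by simp [co, a, b, c, d], by simp [co, a, b, c, d], fun p q r => ?_, fun p r => ?_⟩ <;>
        (apply SL1.ext <;> simp_all [co])
  let f : R →* AlgebraicClosure F :=
    { toFun := fun x => i ((x : SL1 F) : HQ F).re + ι * i (co ((x : SL1 F) : HQ F))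
      map_one' := by
        rcases he with rfl | rfl | rfl <;> simp [co]
      map_mul' := fun x y => by
        obtain ⟨h1, h3, -, -⟩ := hco x x.2 y y.2
        show i ((x : HQ F) * (y : HQ F)).re + ι * i (co ((x : HQ F) * (y : HQ F))) = _
        rw [h1, h3, map_sub, map_add, map_mul, map_mul, map_mul, map_mul]
        linear_combination (-(i (co ((x : SL1 F) : HQ F))) * i (co ((y : SL1 F) : HQ F))) * hι }
  have hf : Function.Injective f := by
    intro x y h
    have h' : f x⁻¹ = f y⁻¹ := by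
      have a1 : f x * f x⁻¹ = 1 := by rw [← map_mul, mul_inv_cancel, map_one]
      have b1 : f y⁻¹ * f y = 1 := by rw [← map_mul, inv_mul_cancel, map_one]
      calc f x⁻¹ = (f y⁻¹ * f y) * f x⁻¹ := by rw [b1, one_mul]
        _ = f y⁻¹ := by rw [← h, mul_assoc, a1, mul_one]
    have hinv : ∀ z : R, f z⁻¹ = i ((z : SL1 F) : HQ F).re - ι * i (co ((z : SL1 F) : HQ F)) := by
      intro z
      show i (star ((z : SL1 F) : HQ F)).re + ι * i (co (star ((z : SL1 F) : HQ F))) = _
      rcases he with rfl | rfl | rfl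
      · obtain ⟨a, b⟩ := commute_qi h2 (hR z z.2)
        simp [co, a, b]; ring
      · obtain ⟨a, b⟩ := commute_qj h2 (hR z z.2)
        simp [co, a, b]; ring
      · obtain ⟨a, b⟩ := commute_qk h2 (hR z z.2)
        simp [co, a, b]; ring
    rw [hinv, hinv] at h'
    change i _ + ι * i _ = i _ + ι * i _ at h
    have e1 : i ((x : SL1 F) : HQ F).re = i ((y : SL1 F) : HQ F).re :=
      mul_left_cancel₀ h2' (by linear_combination h + h')
    have e2 : i (co ((x : SL1 F) : HQ F)) = i (co ((y : SL1 F) : HQ F)) :=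
      mul_left_cancel₀ (mul_ne_zero h2' hι0) (by linear_combination h - h')
    exact Subtype.ext ((hco x x.2 y y.2).2.2.2 (i.injective e2) (i.injective e1))
  exact isCyclic_of_subgroup_isDomain f hf

omit h2 in
theorem eq_one_of_odd {G : Type*} [Group G] {a : G} (ho : Odd (orderOf a)) (h : a * a = 1) : a = 1 := by
  obtain ⟨m, hm⟩ := ho
  have := pow_orderOf_eq_one a
  rwa [hm, pow_succ, pow_mul, pow_two, h, one_pow, one_mul] at this

/-- Subgroups of odd order normalised by `Q8` centralise an axis. -/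
theorem exists_axis_of_odd [Finite F] {O : Subgroup (SL1 F)} (hO : Odd (Nat.card O))
    (hQ : Q8 F ≤ normalizer (O : Set (SL1 F))) : ∃ e, IsAxis e ∧ ∀ x ∈ O, x * e = e * x := by
  classical
  haveI : Fact (Nat.Prime 2) := ⟨Nat.prime_two⟩
  have hodd : ∀ a ∈ O, a * a = 1 → a = 1 := fun a ha =>
    eq_one_of_odd (hO.of_dvd_nat (Subgroup.orderOf_dvd_natCard _ ha))
  by_cases htriv : O = ⊥
  · exact ⟨qi, Or.inl rfl, fun x hx => by rw [htriv, mem_bot] at hx; simp [hx]⟩
  -- the Sylow subgroups are cyclic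
  have hz : IsZGroup O := by
    rw [isZGroup_iff]
    intro r hr R
    haveI := Fact.mk hr
    obtain ⟨Q, hQs, hQn⟩ := H8.exists_inv_sylowIn (q := r) (isPGroup_Q8 (F := F)) hQ
      (fun h => Nat.not_even_iff_odd.2 hO (even_iff_two_dvd.2 h))
    obtain ⟨Q', hQ'⟩ := hQs.exists_sylow
    have hcyc : IsCyclic Q := by
      by_cases hQb : Q = ⊥
      · rw [hQb]; infer_instance
      haveI : Nontrivial Q := (nontrivial_iff_ne_bot Q).2 hQb
      haveI := hQs.isPGroup.center_nontrivial
      set Z := (center Q).map Q.subtype with hZ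
      have hZO : Z ≤ O := (map_subtype_le _).trans hQs.le
      have hZn : Q8 F ≤ normalizer (Z : Set (SL1 F)) := by
        refine H8.le_normalizer_of_conj_mem fun a ha x hx => ?_
        obtain ⟨y, hy, rfl⟩ := hx
        have hmem : a * (y : SL1 F) * a⁻¹ ∈ Q := (mem_normalizer_iff.1 (hQn ha) _).1 y.2
        refine ⟨⟨_, hmem⟩, mem_center_iff.2 fun w => Subtype.ext ?_, rfl⟩
        have hw : a⁻¹ * (w : SL1 F) * a ∈ Q := by
          have := (mem_normalizer_iff.1 (hQn (inv_mem ha)) _).1 w.2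
          simpa using this
        have hc : a⁻¹ * (w : SL1 F) * a * y = y * (a⁻¹ * (w : SL1 F) * a) :=
          congrArg Subtype.val (mem_center_iff.1 hy ⟨_, hw⟩)
        show (w : SL1 F) * (a * y * a⁻¹) = a * y * a⁻¹ * w
        calc (w : SL1 F) * (a * y * a⁻¹) = a * (a⁻¹ * w * a * y) * a⁻¹ := by simp [mul_assoc]
          _ = a * y * a⁻¹ * w := by rw [hc]; simp [mul_assoc]
      have hZc : ∀ a ∈ Z, ∀ b ∈ Z, a * b = b * a := by
        rintro _ ⟨a, ha, rfl⟩ _ ⟨b, hb, rfl⟩
        exact congrArg Subtype.val ((mem_center_iff.1 hb) a)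
      obtain ⟨e, he, hZe⟩ := exists_axis_of_comm h2 hZn hZc fun a ha => hodd a (hZO ha)
      obtain ⟨c, hc⟩ := exists_ne (1 : center Q)
      refine isCyclic_of_commute_axis h2 he fun x hx => ?_
      have hcZ : ((c : Q) : SL1 F) ∈ Z := ⟨c, c.2, rfl⟩
      refine commute_axis_of_commute h2 he (hZe _ hcZ) ?_ ?_
        (congrArg Subtype.val (mem_center_iff.1 c.2 ⟨x, hx⟩))
      · exact fun h => hc (Subtype.ext (Subtype.ext h))
      · intro h
        exact negOne_ne_one h2 (hodd _ (h ▸ hZO hcZ) negOne_mul_self)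
    have e2 : IsCyclic (Q' : Subgroup O) :=
      (MulEquiv.isCyclic ((Q' : Subgroup O).equivMapOfInjective O.subtype O.subtype_injective)).2
        (hQ' ▸ hcyc)
    exact (MulEquiv.isCyclic (Sylow.equiv Q' R)).1 e2
  haveI := hz
  set D := (commutator O).map O.subtype with hD
  by_cases hDb : D = ⊥
  · refine exists_axis_of_comm h2 hQ (fun a ha b hb => ?_) hodd
    have hm : (⁅(⟨a, ha⟩ : O), ⟨b, hb⟩⁆ : O) ∈ commutator O :=
      Subgroup.commutator_mem_commutator (mem_top _) (mem_top _)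
    have := mem_map_of_mem O.subtype hm
    rw [← hD, hDb, mem_bot] at this
    exact commutatorElement_eq_one_iff_mul_comm.1 this
  have hDn : normalizer (O : Set (SL1 F)) ≤ normalizer (D : Set (SL1 F)) := by
    refine H8.le_normalizer_of_conj_mem fun a ha x hx => ?_
    obtain ⟨y, hy, rfl⟩ := hx
    have hmem : a * (y : SL1 F) * a⁻¹ ∈ O := (mem_normalizer_iff.1 ha _).1 y.2
    let φ : O →* O :=
      { toFun := fun v => ⟨a * v * a⁻¹, (mem_normalizer_iff.1 ha _).1 v.2⟩
        map_one' := Subtype.ext (by simp)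
        map_mul' := fun u v => Subtype.ext (by simp [mul_assoc]) }
    refine ⟨φ y, ?_, rfl⟩
    have h3 : (commutator O).map φ ≤ commutator O := by
      rw [_root_.commutator_def, map_commutator]
      exact commutator_mono le_top le_top
    exact h3 ⟨y, hy, rfl⟩
  haveI := IsZGroup.isCyclic_commutator (G := O)
  have hDc : ∀ a ∈ D, ∀ b ∈ D, a * b = b * a := by
    rintro _ ⟨a, ha, rfl⟩ _ ⟨b, hb, rfl⟩
    letI := IsCyclic.commGroup (α := commutator O)
    exact congrArg (fun v : commutator O => ((v : O) : SL1 F)) (mul_comm (⟨a, ha⟩ : commutator O) ⟨b, hb⟩)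
  have hDO : D ≤ O := map_subtype_le _
  obtain ⟨e, he, hDe⟩ := exists_axis_of_comm h2 (hQ.trans hDn) hDc fun a ha => hodd a (hDO ha)
  refine ⟨e, he, fun x hx => ?_⟩
  obtain ⟨c, hcD, hc⟩ := D.ne_bot_iff_exists_ne_one.1 hDb |>.imp (fun c h => h) |> fun ⟨c, h⟩ =>
    (⟨(c : SL1 F), c.2, fun h' => h (Subtype.ext h')⟩ : ∃ c, c ∈ D ∧ c ≠ 1)
  have hc' : c ≠ negOne := fun h => negOne_ne_one h2 (hodd _ (h ▸ hDO hcD) negOne_mul_self)
  have hcx : x * c * x⁻¹ ∈ D := (mem_normalizer_iff.1 (hDn (le_normalizer hx)) c).1 hcD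
  have hxc1 : x * c * x⁻¹ ≠ 1 := fun h => hc (by simpa using h)
  have hxcn : x * c * x⁻¹ ≠ negOne := fun h => negOne_ne_one h2 (hodd _ (h ▸ hDO hcx) negOne_mul_self)
  -- `x` fixes the axis, hence commutes with it
  have hxe : x * e * x⁻¹ * c = c * (x * e * x⁻¹) := by
    have h' : x⁻¹ * c * x ∈ D := by
      simpa using (mem_normalizer_iff.1 (hDn (le_normalizer (inv_mem hx))) c).1 hcD
    calc x * e * x⁻¹ * c = x * (e * (x⁻¹ * c * x)) * x⁻¹ := by simp [mul_assoc]
      _ = x * (x⁻¹ * c * x * e) * x⁻¹ := by rw [← hDe _ h']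
      _ = c * (x * e * x⁻¹) := by simp [mul_assoc]
  have h3 : (x * e * x⁻¹) * e = e * (x * e * x⁻¹) :=
    commute_axis_of_commute h2 he (hDe c hcD) hc hc' hxe
  have hax : x ∈ Ax e := by
    have hsq : x * e * x⁻¹ * (x * e * x⁻¹) = negOne := by
      have hs : e * e = negOne := by
        rcases he with rfl | rfl | rfl <;> apply SL1.ext <;> simp [coe_mul_SL1, coe_negOne]
      simp only [mul_assoc, inv_mul_cancel_left]
      rw [← mul_assoc e, hs, ← mul_assoc, ← negOne_comm, mul_inv_cancel_right]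
    have hn := normSq_SL1 (x * e * x⁻¹)
    have hs' := congrArg (fun v : SL1 F => (v : HQ F).re) hsq
    rw [mem_Ax]
    generalize x * e * x⁻¹ = d at h3 hsq hn hs'
    simp [coe_mul_SL1, coe_negOne] at hs'
    rcases he with rfl | rfl | rfl
    · obtain ⟨a, b⟩ := commute_qi h2 h3
      rw [a, b] at hn hs'
      have r0 : (d : HQ F).re = 0 := pow_eq_zero_iff (n := 2) (by norm_num) |>.1
        (half_eq_zero h2 (by linear_combination hn + hs'))
      rcases sq_eq_one_iff.1 (show (d : HQ F).imI ^ 2 = 1 by linear_combination hn - (d : HQ F).re * r0) with r | r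
      · left; apply SL1.ext <;> simp [r0, a, b, r]
      · right; apply SL1.ext <;> simp [coe_mul_SL1, coe_negOne, r0, a, b, r]
    · obtain ⟨a, b⟩ := commute_qj h2 h3
      rw [a, b] at hn hs'
      have r0 : (d : HQ F).re = 0 := pow_eq_zero_iff (n := 2) (by norm_num) |>.1
        (half_eq_zero h2 (by linear_combination hn + hs'))
      rcases sq_eq_one_iff.1 (show (d : HQ F).imJ ^ 2 = 1 by linear_combination hn - (d : HQ F).re * r0) with r | r
      · left; apply SL1.ext <;> simp [r0, a, b, r]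
      · right; apply SL1.ext <;> simp [coe_mul_SL1, coe_negOne, r0, a, b, r]
    · obtain ⟨a, b⟩ := commute_qk h2 h3
      rw [a, b] at hn hs'
      have r0 : (d : HQ F).re = 0 := pow_eq_zero_iff (n := 2) (by norm_num) |>.1
        (half_eq_zero h2 (by linear_combination hn + hs'))
      rcases sq_eq_one_iff.1 (show (d : HQ F).imK ^ 2 = 1 by linear_combination hn - (d : HQ F).re * r0) with r | r
      · left; apply SL1.ext <;> simp [r0, a, b, r]
      · right; apply SL1.ext <;> simp [coe_mul_SL1, coe_negOne, r0, a, b, r]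
  rcases hax with h | h
  · exact mul_inv_eq_iff_eq_mul.1 h
  · -- the square of `x` commutes, so does `x`
    have hx2 : (x * x) * e = e * (x * x) := by
      refine mul_inv_eq_iff_eq_mul.1 ?_
      rw [show x * x * e * (x * x)⁻¹ = x * (x * e * x⁻¹) * x⁻¹ by simp [mul_assoc], h, ← mul_assoc x,
        ← negOne_comm, mul_assoc negOne x, mul_assoc negOne, h, ← mul_assoc, negOne_mul_self, one_mul]
    obtain ⟨m, hm⟩ := (hO.of_dvd_nat (Subgroup.orderOf_dvd_natCard _ hx) : Odd (orderOf x))
    have h1 := pow_orderOf_eq_one x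
    rw [hm, pow_succ, pow_mul] at h1
    have hcm : Commute ((x ^ 2) ^ m) e :=
      Commute.pow_left (show Commute (x ^ 2) e by rw [pow_two]; exact hx2) m
    rw [eq_inv_of_mul_eq_one_right h1]
    exact hcm.inv_left

/-- Groups containing `Q8` and not `qw` fix an axis. -/
theorem exists_axis [Finite F] (hsq : ¬ IsSquare (2 : F)) {A : Subgroup (SL1 F)} (hQA : Q8 F ≤ A)
    (hw : qw h2 ∉ A) : ∃ e, IsAxis e ∧ A ≤ Ax e := by
  classical
  haveI : Fact (Nat.Prime 2) := ⟨Nat.prime_two⟩
  have hNA : ∀ d ∈ A, d ∈ normalizer (Q8 F : Set (SL1 F)) → d ∈ Q8 F := by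
    intro d hd hdn
    obtain ⟨n, hn, q, hq, rfl⟩ := normalizer_Q8 h2 hsq hdn
    have hwn : qw h2 ^ n ∈ A := (Subgroup.mul_mem_cancel_right _ (hQA hq)).1 hd
    interval_cases n
    · simpa using hq
    · exact absurd (by simpa using hwn) hw
    · refine absurd ?_ hw
      have := pow_mem hwn 2
      rwa [← pow_mul, show 2 * 2 = 3 + 1 from rfl, pow_succ, qw_cube, one_mul] at this
  set Q := (Q8 F).subgroupOf A with hQdef
  have hQp : IsPGroup 2 Q := (isPGroup_Q8 (F := F)).comap_subtype
  have hcoe : ∀ x : A, x ∈ normalizer (Q : Set A) → (x : SL1 F) ∈ normalizer (Q8 F : Set (SL1 F)) := by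
    intro x hx
    rw [mem_normalizer_iff] at hx ⊢
    intro v
    refine ⟨fun hv => (hx ⟨v, hQA hv⟩).1 hv, fun hv => ?_⟩
    have hvA : v ∈ A := by
      have := A.mul_mem (A.mul_mem (A.inv_mem x.2) (hQA hv)) x.2
      simpa [mul_assoc] using this
    exact (hx ⟨v, hvA⟩).2 hv
  obtain ⟨P, hP⟩ := hQp.exists_le_sylow
  have hPQ : (P : Subgroup A) = Q :=
    eq_of_pGroup_ge P.2 hP fun g hg _ _ => hNA g g.2 (hcoe g hg)
  set c : A := ⟨negOne, hQA negOne_mem_Q8⟩
  have hc2 : c * c = 1 := Subtype.ext negOne_mul_self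
  set Z : Subgroup A := zpowers c
  haveI : Z.Normal := ⟨fun x hx g => by
    obtain ⟨k, rfl⟩ := hx
    have : Commute g c := Subtype.ext (negOne_comm (g : SL1 F)).symm
    rw [(this.zpow_right k).eq, mul_inv_cancel_right]
    exact ⟨k, rfl⟩⟩
  set f := QuotientGroup.mk' Z
  have hf := QuotientGroup.mk'_surjective Z
  have hker : f.ker ≤ Q := by
    rw [QuotientGroup.ker_mk']
    exact zpowers_le.2 negOne_mem_Q8
  set V := P.mapSurjective hf
  have hV : (V : Subgroup (A ⧸ Z)) = Q.map f := by rw [← hPQ]; rfl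
  have hcomm : ∀ x ∈ Q, ∀ y ∈ Q, f x * f y = f y * f x := by
    intro x hx y hy
    obtain ⟨e, he, hxe⟩ := hx
    obtain ⟨e', he', hye⟩ := hy
    have hn : (x : SL1 F) * (y : SL1 F) = (y : SL1 F) * (x : SL1 F) ∨
        (x : SL1 F) * (y : SL1 F) = negOne * ((y : SL1 F) * (x : SL1 F)) := by
      simp only [Subgroup.coe_subtype] at hxe hye
      have hn2 : ∀ v : SL1 F, negOne * (negOne * v) = v := fun v => by
        rw [← mul_assoc, negOne_mul_self, one_mul]
      have hc : ∀ u v : SL1 F, u * (negOne * v) = negOne * (u * v) := fun u v => by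
        rw [← mul_assoc, ← negOne_comm, mul_assoc]
      have key : e * e' = e' * e ∨ e * e' = negOne * (e' * e) := by
        rcases he with rfl | rfl | rfl | rfl <;> rcases he' with rfl | rfl | rfl | rfl <;>
          first
          | (left; rfl)
          | (left; simp; done)
          | (right; apply SL1.ext <;> simp [coe_mul_SL1, coe_negOne]; done)
      rcases key with k | k <;> rcases hxe with h | h <;> rcases hye with h' | h' <;>
        simp [h, h', mul_assoc, hc, hn2, k]
    rcases hn with h | h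
    · rw [← map_mul, ← map_mul, show x * y = y * x from Subtype.ext h]
    · have h' : x * y = c * (y * x) := Subtype.ext h
      have hfc : f c = 1 := (QuotientGroup.eq_one_iff c).2 (mem_zpowers c)
      rw [← map_mul, ← map_mul, h', map_mul f c, hfc, one_mul]
  have hN : normalizer ((V : Subgroup (A ⧸ Z)) : Set (A ⧸ Z)) ≤
      centralizer ((V : Subgroup (A ⧸ Z)) : Set (A ⧸ Z)) := by
    intro g hg
    obtain ⟨x, rfl⟩ := hf g
    have hxn : x ∈ normalizer (Q : Set A) := by
      rw [mem_normalizer_iff]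
      rw [hV, mem_normalizer_iff] at hg
      intro v
      have hmem : ∀ u : A, u ∈ Q ↔ f u ∈ Q.map f := fun u => by
        rw [← Subgroup.mem_comap, comap_map_eq_self hker]
      rw [hmem, hmem (x * v * x⁻¹), hg (f v), map_mul, map_mul, map_inv]
    have hxQ : x ∈ Q := mem_subgroupOf.2 (hNA x x.2 (hcoe x hxn))
    rw [mem_centralizer_iff, hV]
    rintro _ ⟨y, hy, rfl⟩
    exact hcomm y hy x hxQ
  have hcompl := MonoidHom.ker_transferSylow_isComplement' V hN
  set K := (MonoidHom.transferSylow V hN).ker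
  set M := (K.comap f).map A.subtype with hMdef
  have hcard : ∃ o, Odd o ∧ Nat.card M = 2 * o := by
    refine ⟨Nat.card K, ?_, ?_⟩
    · rw [← Nat.not_even_iff_odd, even_iff_two_dvd]
      exact MonoidHom.not_dvd_card_ker_transferSylow V hN
    · rw [hMdef, card_map_of_injective A.subtype_injective]
      have e1 : Nat.card (K.comap f) * K.index = Nat.card (A ⧸ Z) * Nat.card Z := by
        rw [← index_comap_of_surjective K hf, Subgroup.card_mul_index]
        exact Subgroup.card_eq_card_quotient_mul_card_subgroup Z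
      rw [← K.card_mul_index, Nat.card_zpowers] at e1
      have hoc : orderOf c = 2 := orderOf_eq_prime (by rw [pow_two]; exact hc2)
        (fun h => negOne_ne_one h2 (congrArg Subtype.val h))
      rw [hoc] at e1
      have : 0 < K.index := Nat.pos_of_ne_zero Subgroup.index_ne_zero_of_finite
      nlinarith
  obtain ⟨O, hOM, hOodd, hO, hsplit⟩ := exists_oddPart (M := M) (c := negOne)
    ⟨c, show f c ∈ K by rw [show f c = 1 from (QuotientGroup.eq_one_iff c).2 (mem_zpowers c)]; exact one_mem _, rfl⟩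
    negOne_mul_self (negOne_ne_one h2) (fun x _ => negOne_comm x) hcard
  have hMn : A ≤ normalizer (M : Set (SL1 F)) := by
    refine H8.le_normalizer_of_conj_mem fun a ha x hx => ?_
    obtain ⟨y, hy, rfl⟩ := hx
    refine ⟨(⟨a, ha⟩ : A) * y * (⟨a, ha⟩ : A)⁻¹, ?_, by simp only [map_mul, map_inv, Subgroup.coe_subtype]⟩
    have hKn : K.Normal := MonoidHom.normal_ker _
    rw [SetLike.mem_coe, Subgroup.mem_comap] at hy
    rw [SetLike.mem_coe, Subgroup.mem_comap, map_mul, map_mul, map_inv]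
    exact hKn.conj_mem _ hy _
  obtain ⟨e, he, hOe⟩ := exists_axis_of_odd h2 hOodd
    (fun q hq => mem_normalizer_oddPart hO (hMn (hQA hq)))
  refine ⟨e, he, ?_⟩
  intro a ha
  obtain ⟨⟨⟨k, hk⟩, ⟨v, hv⟩⟩, hkv⟩ := hcompl.2 (f ⟨a, ha⟩)
  rw [hV] at hv
  obtain ⟨q, hq, rfl⟩ := hv
  have hm : ⟨a, ha⟩ * q⁻¹ ∈ K.comap f := by
    rw [Subgroup.mem_comap, map_mul, map_inv, ← hkv]
    simpa using hk
  have hm' : a * (q : SL1 F)⁻¹ ∈ M := ⟨_, hm, rfl⟩
  have hQe : Q8 F ≤ Ax e := by
    rintro d ⟨g, hg, hd⟩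
    have key : g ∈ Ax e := by
      rcases he with rfl | rfl | rfl <;> rcases hg with rfl | rfl | rfl | rfl <;>
        first
        | (left; apply SL1.ext <;> simp [coe_mul_SL1, coe_inv_SL1]; done)
        | (right; apply SL1.ext <;> simp [coe_mul_SL1, coe_inv_SL1, coe_negOne]; done)
    rcases hd with rfl | rfl
    · exact key
    · exact mul_mem (Or.inl (mul_inv_eq_iff_eq_mul.2 (negOne_comm e))) key
  have hmA : a * (q : SL1 F)⁻¹ ∈ Ax e := by
    rcases hsplit _ hm' with h | h
    · exact Or.inl (mul_inv_eq_iff_eq_mul.2 (hOe _ h))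
    · have := mul_mem (hQe negOne_mem_Q8) (Or.inl (mul_inv_eq_iff_eq_mul.2 (hOe _ h)) :
        negOne * (a * (q : SL1 F)⁻¹) ∈ Ax e)
      rwa [← mul_assoc, negOne_mul_self, one_mul] at this
  have := mul_mem hmA (hQe hq)
  rwa [Subgroup.coe_subtype, inv_mul_cancel_right] at this

/-- An element fixing two axes normalises `Q8`. -/
theorem mem_normalizer_of_two_axes [Finite F] {d e e' : SL1 F} (he : IsAxis e) (he' : IsAxis e')
    (hne : e ≠ e') (hd : d ∈ Ax e) (hd' : d ∈ Ax e') : d ∈ normalizer (Q8 F : Set (SL1 F)) := by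
  have hs : ∀ x, IsAxis x → d ∈ Ax x → d * x * d⁻¹ ∈ Q8 F := by
    intro x hx h
    rcases h with h | h <;> rw [h]
    · exact axis_mem_Q8 hx
    · exact mul_mem negOne_mem_Q8 (axis_mem_Q8 hx)
  let S : Subgroup (SL1 F) := (Q8 F).comap (MulAut.conj d).toMonoidHom
  have h1 : e ∈ S := hs e he hd
  have h1' : e' ∈ S := hs e' he' hd'
  have hprod : qi * qj = (qk : SL1 F) := by apply SL1.ext <;> simp [coe_mul_SL1]
  have hij : qi ∈ S ∧ qj ∈ S := by
    rcases he with rfl | rfl | rfl <;> rcases he' with rfl | rfl | rfl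
    · exact absurd rfl hne
    · exact ⟨h1, h1'⟩
    · exact ⟨h1, by rw [show (qj : SL1 F) = qi⁻¹ * qk by rw [← hprod, inv_mul_cancel_left]]
                    exact mul_mem (inv_mem h1) h1'⟩
    · exact ⟨h1', h1⟩
    · exact absurd rfl hne
    · exact ⟨by rw [show (qi : SL1 F) = qk * qj⁻¹ by rw [← hprod, mul_inv_cancel_right]]
                exact mul_mem h1' (inv_mem h1), h1⟩
    · exact ⟨h1', by rw [show (qj : SL1 F) = qi⁻¹ * qk by rw [← hprod, inv_mul_cancel_left]]
                     exact mul_mem (inv_mem h1') h1⟩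
    · exact ⟨by rw [show (qi : SL1 F) = qk * qj⁻¹ by rw [← hprod, mul_inv_cancel_right]]
                exact mul_mem h1 (inv_mem h1'), h1'⟩
    · exact absurd rfl hne
  have hle : Q8 F ≤ S := by
    rintro x ⟨g, hg, hx⟩
    have hgS : g ∈ S := by
      rcases hg with rfl | rfl | rfl | rfl
      exacts [one_mem _, hij.1, hij.2, hprod ▸ mul_mem hij.1 hij.2]
    have hn : negOne ∈ S := by
      show d * negOne * d⁻¹ ∈ Q8 F
      rw [← negOne_comm, mul_inv_cancel_right]; exact negOne_mem_Q8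
    rcases hx with rfl | rfl
    exacts [hgS, mul_mem hn hgS]
  rw [mem_normalizer_iff_map_conj_eq]
  refine Subgroup.eq_of_le_of_card_ge ?_
    (le_of_eq (card_map_of_injective (MulAut.conj d).injective).symm)
  exact map_le_iff_le_comap.2 hle

/-- The Sylow 2-subgroup of the norm-one quaternions. -/
theorem exists_sylow_quat [Finite F] : ∃ R : Subgroup (SL1 F), IsPGroup 2 R ∧ Q8 F ≤ R ∧
    (¬ IsSquare (2 : F) → R = Q8 F) ∧ (IsSquare (2 : F) → normalizer (R : Set (SL1 F)) = R) := by
  haveI : Fact (Nat.Prime 2) := ⟨Nat.prime_two⟩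
  by_cases hsq : IsSquare (2 : F)
  swap
  · exact ⟨Q8 F, isPGroup_Q8, le_rfl, fun _ => rfl, fun h => absurd h hsq⟩
  obtain ⟨s, hs⟩ := hsq
  let C : Subgroup (SL1 F) :=
    { carrier := {d | d * qi = qi * d ∧ ∃ m : ℕ, d ^ 2 ^ m = 1}
      one_mem' := ⟨by simp, 0, by simp⟩
      mul_mem' := by
        rintro a b ⟨ha, m, hm⟩ ⟨hb, n, hn⟩
        have hc : Commute a b := by
          obtain ⟨a1, a2⟩ := commute_qi h2 ha
          obtain ⟨b1, b2⟩ := commute_qi h2 hb
          show a * b = b * a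
          apply SL1.ext <;> simp [coe_mul_SL1, a1, a2, b1, b2] <;> ring
        refine ⟨?_, m + n, ?_⟩
        · exact (Commute.mul_left (show Commute a qi from ha) (show Commute b qi from hb))
        · rw [hc.mul_pow, pow_add, pow_mul, hm, one_pow, one_mul, mul_comm (2 ^ m), pow_mul, hn, one_pow]
      inv_mem' := by
        rintro a ⟨ha, m, hm⟩
        exact ⟨(show Commute a qi from ha).inv_left, m, by rw [inv_pow, hm, inv_one]⟩ }
  have hCn : negOne ∈ C := ⟨negOne_comm _, 1, by rw [pow_one, pow_two, negOne_mul_self]⟩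
  have hinvC : ∀ c ∈ C, qj⁻¹ * c * qj = c⁻¹ := by
    intro c hc
    obtain ⟨a, b⟩ := commute_qi h2 hc.1
    apply SL1.ext <;> simp [coe_mul_SL1, coe_inv_SL1, a, b]
  have hj2 : (qj : SL1 F) * qj = negOne := by apply SL1.ext <;> simp [coe_mul_SL1, coe_negOne]
  let R : Subgroup (SL1 F) :=
    { carrier := {d | d ∈ C ∨ d * qj ∈ C}
      one_mem' := Or.inl C.one_mem
      mul_mem' := by
        intro a b ha hb
        rcases ha with ha | ha <;> rcases hb with hb | hb
        · exact Or.inl (mul_mem ha hb)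
        · exact Or.inr (by rw [mul_assoc]; exact mul_mem ha hb)
        · refine Or.inr ?_
          rw [show a * b * qj = a * qj * (qj⁻¹ * b * qj) by simp [mul_assoc], hinvC b hb]
          exact mul_mem ha (inv_mem hb)
        · refine Or.inl ?_
          have e : a * b = a * qj * (qj⁻¹ * (b * qj) * qj) * (qj * qj)⁻¹ := by simp [mul_assoc]
          rw [e, hinvC _ hb, hj2, negOne_inv]
          exact mul_mem (mul_mem ha (inv_mem hb)) hCn
      inv_mem' := by
        intro a ha
        rcases ha with ha | ha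
        · exact Or.inl (inv_mem ha)
        · refine Or.inr ?_
          have e : a⁻¹ * qj = qj * qj * (qj⁻¹ * (a * qj)⁻¹ * qj) := by simp [mul_assoc]
          rw [e, hinvC _ (inv_mem ha), hj2, inv_inv]
          exact mul_mem hCn ha }
  have hsq2 : ∀ a : SL1 F, a * qj ∈ C → a * a = negOne := by
    intro a ha
    have e : a = a * qj * qj⁻¹ := by simp
    rw [e, show a * qj * qj⁻¹ * (a * qj * qj⁻¹) = a * qj * (qj⁻¹ * (a * qj) * qj) * (qj * qj)⁻¹ by
      simp [mul_assoc], hinvC _ ha, mul_inv_cancel, one_mul, hj2, negOne_inv]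
  have hRp : IsPGroup 2 R := by
    rintro ⟨d, hd | hd⟩
    · obtain ⟨m, hm⟩ := hd.2
      exact ⟨m, Subtype.ext hm⟩
    · refine ⟨2, Subtype.ext ?_⟩
      show d ^ 2 ^ 2 = 1
      rw [show (2 : ℕ) ^ 2 = 2 * 2 from rfl, pow_mul, pow_two d, hsq2 d hd, pow_two, negOne_mul_self]
  have hqiC : qi ∈ C := ⟨rfl, 2, by apply SL1.ext <;> simp [pow_succ, coe_mul_SL1]⟩
  have hqiR : qi ∈ R := Or.inl hqiC
  have hqjR : qj ∈ R := Or.inr (by rw [hj2]; exact hCn)
  have hQR : Q8 F ≤ R := by
    rintro x ⟨g, hg, hx⟩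
    have hgR : g ∈ R := by
      rcases hg with rfl | rfl | rfl | rfl
      · exact one_mem _
      · exact hqiR
      · exact hqjR
      · rw [show (qk : SL1 F) = qi * qj by apply SL1.ext <;> simp [coe_mul_SL1]]
        exact mul_mem hqiR hqjR
    rcases hx with rfl | rfl
    exacts [hgR, mul_mem (Or.inl hCn) hgR]
  refine ⟨R, hRp, hQR, fun h => absurd ⟨s, hs⟩ h, fun _ => le_antisymm ?_ le_normalizer⟩
  have hs0 : s ≠ 0 := fun h => h2 (by rw [hs, h, mul_zero])
  let θ : SL1 F := ⟨⟨s⁻¹, s⁻¹, 0, 0⟩, mem_unitary_of_sum (by simp; field_simp; linear_combination hs)⟩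
  have t0 : (θ : HQ F).re = s⁻¹ := rfl
  have t1 : (θ : HQ F).imI = s⁻¹ := rfl
  have t2 : (θ : HQ F).imJ = 0 := rfl
  have t3 : (θ : HQ F).imK = 0 := rfl
  have hθ2 : θ * θ = qi := by
    apply SL1.ext <;> simp [coe_mul_SL1, t0, t1, t2, t3]
    field_simp
    linear_combination hs
  have hθC : θ ∈ C := ⟨by rw [← hθ2, mul_assoc], 3, by
    rw [show (2 : ℕ) ^ 3 = 2 * (2 * 2) from rfl, pow_mul, pow_two θ, hθ2, pow_mul, pow_two qi]
    apply SL1.ext <;> simp [pow_two, coe_mul_SL1]⟩
  intro g hg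
  have hgθ := (mem_normalizer_iff.1 hg θ).1 (Or.inl hθC)
  have hgC : g * θ * g⁻¹ ∈ C := by
    rcases hgθ with h | h
    · exact h
    · exfalso
      have := hsq2 _ h
      rw [show g * θ * g⁻¹ * (g * θ * g⁻¹) = g * (θ * θ) * g⁻¹ by simp [mul_assoc], hθ2,
        mul_inv_eq_iff_eq_mul, negOne_comm g, mul_right_inj] at this
      have := congrArg (fun v : SL1 F => (v : HQ F).imI) this
      simp [coe_negOne] at this
  have hgi : g * qi * g⁻¹ ∈ C := by
    rw [← hθ2, show g * (θ * θ) * g⁻¹ = g * θ * g⁻¹ * (g * θ * g⁻¹) by simp [mul_assoc]]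
    exact mul_mem hgC hgC
  have hgAx : g ∈ Ax qi := by
    obtain ⟨a, b⟩ := commute_qi h2 hgi.1
    have hsq' : g * qi * g⁻¹ * (g * qi * g⁻¹) = negOne := by
      have hs' : qi * qi = (negOne : SL1 F) := by apply SL1.ext <;> simp [coe_mul_SL1, coe_negOne]
      simp only [mul_assoc, inv_mul_cancel_left]
      rw [← mul_assoc qi, hs', ← mul_assoc, ← negOne_comm, mul_inv_cancel_right]
    have hn := normSq_SL1 (g * qi * g⁻¹)
    have hs' := congrArg (fun v : SL1 F => (v : HQ F).re) hsq'
    rw [mem_Ax]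
    generalize g * qi * g⁻¹ = d at a b hsq' hn hs'
    simp [coe_mul_SL1, coe_negOne] at hs'
    rw [a, b] at hn hs'
    have r0 : (d : HQ F).re = 0 := pow_eq_zero_iff (n := 2) (by norm_num) |>.1
      (half_eq_zero h2 (by linear_combination hn + hs'))
    rcases sq_eq_one_iff.1 (show (d : HQ F).imI ^ 2 = 1 by linear_combination hn - (d : HQ F).re * r0) with r | r
    · left; apply SL1.ext <;> simp [r0, a, b, r]
    · right; apply SL1.ext <;> simp [coe_mul_SL1, coe_negOne, r0, a, b, r]
  wlog hgc : g * qi = qi * g generalizing g with key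
  · have hqjN : qj ∈ normalizer (R : Set (SL1 F)) := le_normalizer hqjR
    have hqjA : (qj : SL1 F) ∈ Ax qi := Or.inr (by
      apply SL1.ext <;> simp [coe_mul_SL1, coe_inv_SL1, coe_negOne])
    have hg' : g * qi * g⁻¹ = negOne * qi := hgAx.resolve_left fun h => hgc (mul_inv_eq_iff_eq_mul.1 h)
    have hcc : g * qj * qi = qi * (g * qj) := by
      obtain ⟨a, b⟩ := anti_qi h2 (mul_inv_eq_iff_eq_mul.1 hg')
      apply SL1.ext <;> simp [coe_mul_SL1, a, b]
    have hm : g * qj ∈ normalizer (R : Set (SL1 F)) := mul_mem hg hqjN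
    have := key (g := g * qj) hm ((mem_normalizer_iff.1 hm θ).1 (Or.inl hθC))
    have h' : g * qj ∈ R := by
      refine this ?_ ?_ (mul_mem hgAx hqjA) hcc
      · rw [show g * qj * θ * (g * qj)⁻¹ = g * (qj * θ * qj⁻¹) * g⁻¹ by simp [mul_assoc],
          show qj * θ * qj⁻¹ = θ⁻¹ by apply SL1.ext <;> simp [coe_mul_SL1, coe_inv_SL1, t0, t1, t2, t3],
          show g * θ⁻¹ * g⁻¹ = (g * θ * g⁻¹)⁻¹ by simp [mul_assoc]]
        exact inv_mem hgC
      · rw [show g * qj * qi * (g * qj)⁻¹ = g * (qj * qi * qj⁻¹) * g⁻¹ by simp [mul_assoc],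
          show qj * qi * qj⁻¹ = (qi : SL1 F)⁻¹ by apply SL1.ext <;> simp [coe_mul_SL1, coe_inv_SL1],
          show g * qi⁻¹ * g⁻¹ = (g * qi * g⁻¹)⁻¹ by simp [mul_assoc]]
        exact inv_mem hgi
    exact (Subgroup.mul_mem_cancel_right _ hqjR).1 h'
  · have hgj := (mem_normalizer_iff.1 hg qj).1 hqjR
    have hgg : g * qj * g⁻¹ * qj = g * g * negOne := by
      obtain ⟨a, b⟩ := commute_qi h2 hgc
      apply SL1.ext <;> simp [coe_mul_SL1, coe_inv_SL1, coe_negOne, a, b] <;> ring
    have hmem : g * g ∈ C := by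
      rcases hgj with h | h
      · exfalso
        have h1 := mul_inv_eq_iff_eq_mul.2 h.1
        obtain ⟨a, b⟩ := commute_qi h2 h.1
        obtain ⟨a', b'⟩ := commute_qi h2 hgc
        have hn := normSq_SL1 g
        rw [a', b'] at hn
        simp [coe_mul_SL1, coe_inv_SL1, a', b'] at a b
        have hgr : (g : HQ F).re * (g : HQ F).imI = 0 := half_eq_zero h2 (by
          first | linear_combination b | linear_combination -b)
        rcases mul_eq_zero.1 hgr with r | r <;> rw [r] at hn a <;>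
          exact zero_ne_one (by first | linear_combination hn - a | linear_combination hn + a | linear_combination -hn - a | linear_combination a - hn)
      · rw [hgg] at h
        exact (Subgroup.mul_mem_cancel_right _ hCn).1 h
    obtain ⟨m, hm⟩ := hmem.2
    exact Or.inl ⟨hgc, m + 1, by rw [pow_succ', pow_mul, pow_two, hm]⟩

end H47.PSp
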