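import Cfsg.Agent.H47.PSp.QuatOdd

/-!
A Sylow 2-subgroup of the quaternionic unitary group and its normaliser.
-/

set_option autoImplicit false
set_option linter.unusedSectionVars false
set_option linter.unusedSimpArgs false
set_option linter.style.haveILetI false
set_option maxHeartbeats 1000000

namespace H47.PSp

open Equiv Subgroup

variable {F : Type*} [Field F] {ι : Type*} [Fintype ι] [DecidableEq ι]

/-- The monomial elements with permutation in `P` and entries in `R`. -/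
def sylS (P : Subgroup (Perm ι)) (R : Subgroup (SL1 F)) : Subgroup (SpH ι F) where
  carrier := {g | ∃ π ∈ P, ∃ d : ι → SL1 F, (∀ b, d b ∈ R) ∧ g = mon π d}
  one_mem' := ⟨1, P.one_mem, _, fun _ => R.one_mem, mon_one.symm⟩
  mul_mem' := by
    rintro _ _ ⟨π, hπ, d, hd, rfl⟩ ⟨π', hπ', d', hd', rfl⟩
    exact ⟨_, P.mul_mem hπ hπ', _, fun b => R.mul_mem (hd _) (hd' _), mon_mul _ _ _ _⟩
  inv_mem' := by
    rintro _ ⟨π, hπ, d, hd, rfl⟩
    exact ⟨_, P.inv_mem hπ, _, fun b => R.inv_mem (hd _), mon_inv _ _⟩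

variable {P : Subgroup (Perm ι)} {R : Subgroup (SL1 F)}

theorem mem_sylS {g : SpH ι F} :
    g ∈ sylS P R ↔ ∃ π ∈ P, ∃ d : ι → SL1 F, (∀ b, d b ∈ R) ∧ g = mon π d := Iff.rfl

theorem mon_mem_sylS {π : Perm ι} {d : ι → SL1 F} :
    mon π d ∈ sylS P R ↔ π ∈ P ∧ ∀ b, d b ∈ R := by
  refine ⟨?_, fun h => ⟨π, h.1, d, h.2, rfl⟩⟩
  rintro ⟨π', hπ', d', hd', h⟩
  obtain ⟨rfl, rfl⟩ := mon_inj h
  exact ⟨hπ', hd'⟩

theorem diag_mem_sylS {d : ι → SL1 F} : diag d ∈ sylS P R ↔ ∀ b, d b ∈ R := by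
  rw [diag_def, mon_mem_sylS]
  exact ⟨fun h => h.2, fun h => ⟨P.one_mem, h⟩⟩

theorem diag_single_mem_sylS {a : ι} {x : SL1 F} (hx : x ∈ R) :
    diag (Pi.mulSingle a x) ∈ sylS P R := by
  refine diag_mem_sylS.2 fun b => ?_
  by_cases h : b = a
  · rw [h, Pi.mulSingle_eq_same]; exact hx
  · rw [Pi.mulSingle_eq_of_ne h]; exact R.one_mem

theorem zB_mem_sylS (hn : negOne ∈ R) (B : Finset ι) : zB B ∈ sylS P R := by
  refine diag_mem_sylS.2 fun b => ?_
  split_ifs
  exacts [hn, R.one_mem]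

theorem isPGroup_sylS (hP : IsPGroup 2 P) (hR : IsPGroup 2 R) [Finite F] :
    IsPGroup 2 (sylS P R) := by
  haveI : Fact (Nat.Prime 2) := ⟨Nat.prime_two⟩
  rintro ⟨g, π, hπ, d, hd, rfl⟩
  obtain ⟨j, hj⟩ := hP ⟨π, hπ⟩
  have hj' : π ^ 2 ^ j = 1 := congrArg Subtype.val hj
  have hk : ∀ k : ℕ, ∃ e : ι → SL1 F, (∀ b, e b ∈ R) ∧ mon π d ^ k = mon (π ^ k) e := by
    intro k
    induction k with
    | zero => exact ⟨_, fun _ => R.one_mem, by rw [pow_zero, pow_zero]; exact mon_one.symm⟩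
    | succ k ih =>
      obtain ⟨e, he, hek⟩ := ih
      exact ⟨_, fun b => R.mul_mem (he _) (hd _), by rw [pow_succ, pow_succ, hek, mon_mul]⟩
  obtain ⟨e, he, hej⟩ := hk (2 ^ j)
  rw [hj'] at hej
  obtain ⟨r, hr⟩ := IsPGroup.iff_card.1 hR
  refine ⟨j + r, Subtype.ext ?_⟩
  show mon π d ^ 2 ^ (j + r) = 1
  rw [pow_add, pow_mul, hej, ← diag_def, ← map_pow]
  convert map_one (diag (F := F) (ι := ι))
  funext b
  rw [Pi.pow_apply, Pi.one_apply]
  have := pow_card_eq_one' (x := (⟨e b, he b⟩ : R))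
  rw [hr] at this
  exact congrArg Subtype.val this

variable (h2 : (2 : F) ≠ 0)
include h2

theorem two_mul_normSq_eq_one {x : HQ F} (h : (1 : HQ F) - 2 * (x * star x) = 0) :
    2 * Quaternion.normSq x = 1 := by
  rw [sub_eq_zero, Quaternion.self_mul_star, two_mul, ← Quaternion.coe_add, ← Quaternion.coe_one] at h
  rw [two_mul]
  exact (Quaternion.coe_inj.1 h).symm

/-- A conjugate of a sign change which is monomial: it is a sign change or a transposition. -/
theorem mon_conj_z_cases (k : SpH ι F) (a : ι) {π : Perm ι} {d : ι → SL1 F}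
    (hy : k * z a * k⁻¹ = mon π d) :
    (π = 1 ∧ ∃ e, k * z a * k⁻¹ = z e) ∨
      ∃ c b, c ≠ b ∧ π = swap c b ∧ 2 * Quaternion.normSq ((k : Matrix ι ι (HQ F)) c a) = 1 ∧
        (k : Matrix ι ι (HQ F)) b a = -((d c : HQ F) * (k : Matrix ι ι (HQ F)) c a) ∧
        ∀ f, f ≠ c → f ≠ b → (k : Matrix ι ι (HQ F)) f a = 0 := by
  have hval : ∀ f c, (if f = π c then (d c : HQ F) else 0) = (if f = c then 1 else 0) -
      2 * ((k : Matrix ι ι (HQ F)) f a * star ((k : Matrix ι ι (HQ F)) c a)) := by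
    intro f c
    rw [← conj_z_apply, hy, mon_apply]
  set u : ι → HQ F := fun c => (k : Matrix ι ι (HQ F)) c a
  by_cases hπ : π = 1
  · left
    refine ⟨hπ, ?_⟩
    have hex : ∃ c, u c ≠ 0 := by
      by_contra h
      push Not at h
      have hn := col_norm k a a
      rw [if_pos rfl, Finset.sum_eq_zero (fun c _ => by rw [show (k : Matrix ι ι (HQ F)) c a = 0 from h c, mul_zero])] at hn
      exact zero_ne_one hn
    obtain ⟨e, he⟩ := hex
    refine ⟨e, conj_z_eq_z_of_single k a e fun c hc => ?_⟩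
    have h1 := hval c e
    rw [hπ, Perm.one_apply, if_neg hc, if_neg hc, zero_sub, eq_comm, neg_eq_zero] at h1
    have hz := two_mul_cancel h2 h1
    have hne := hval e e
    rw [hπ, Perm.one_apply, if_pos rfl, if_pos rfl] at hne
    -- `N (u e)` is `0` or `1`
    set N := Quaternion.normSq (u e) with hN
    have hNe : u e * star (u e) = (N : HQ F) := Quaternion.self_mul_star _
    by_cases hN0 : N = 0
    · -- then every product vanishes
      exfalso
      have hall : ∀ f, u e * (star (u f) * u f) = 0 := by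
        intro f
        by_cases hf : f = e
        · rw [hf, ← mul_assoc, hNe, hN0, Quaternion.coe_zero, zero_mul]
        · have h3 := hval e f
          rw [hπ, Perm.one_apply, if_neg (Ne.symm hf), if_neg (Ne.symm hf), zero_sub, eq_comm, neg_eq_zero] at h3
          rw [← mul_assoc, two_mul_cancel h2 h3, zero_mul]
      have h4 : u e * ∑ f, star (u f) * u f = 0 := by
        rw [Finset.mul_sum]
        exact Finset.sum_eq_zero fun f _ => hall f
      rw [show (∑ f, star (u f) * u f) = 1 by simpa using col_norm k a a, mul_one] at h4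
      exact he h4
    · have h5 : (k : Matrix ι ι (HQ F)) c a * (star (u e) * u e) = 0 := by
        rw [← mul_assoc]; show u c * star (u e) * u e = 0; rw [hz, zero_mul]
      rw [Quaternion.star_mul_self, ← Quaternion.coe_commutes, Quaternion.coe_mul_eq_smul] at h5
      exact (smul_eq_zero.1 h5).resolve_left hN0
  · right
    obtain ⟨c, hc⟩ : ∃ c, π c ≠ c := by
      by_contra h
      push Not at h
      exact hπ (Equiv.ext h)
    refine ⟨c, π c, Ne.symm hc, ?_⟩
    have hcc := hval c c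
    rw [if_neg (Ne.symm hc), if_pos rfl] at hcc
    have hN := two_mul_normSq_eq_one h2 hcc.symm
    have hNne : Quaternion.normSq (u c) ≠ 0 := fun h => by rw [h, mul_zero] at hN; exact zero_ne_one hN
    have hf0 : ∀ f, f ≠ c → f ≠ π c → u f = 0 := by
      intro f hfc hfb
      have h1 := hval f c
      rw [if_neg hfb, if_neg hfc, zero_sub, eq_comm, neg_eq_zero] at h1
      have h5 : u f * (star (u c) * u c) = 0 := by rw [← mul_assoc, two_mul_cancel h2 h1, zero_mul]
      rw [Quaternion.star_mul_self, ← Quaternion.coe_commutes, Quaternion.coe_mul_eq_smul] at h5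
      exact (smul_eq_zero.1 h5).resolve_left hNne
    have hfix : ∀ f, f ≠ c → f ≠ π c → π f = f := by
      intro f hfc hfb
      by_contra hne
      have h1 := hval f f
      rw [if_neg (Ne.symm hne), if_pos rfl, show (k : Matrix ι ι (HQ F)) f a = 0 from hf0 f hfc hfb,
        zero_mul, mul_zero, sub_zero] at h1
      exact zero_ne_one h1
    refine ⟨?_, hN, ?_, hf0⟩
    · have hbc : π (π c) = c := by
        by_contra hne
        exact hc (π.injective (π.injective (hfix _ hne (fun h => hc (π.injective h)))))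
      ext f
      by_cases h1 : f = c
      · rw [h1, swap_apply_left]
      by_cases h3 : f = π c
      · rw [h3, swap_apply_right, hbc]
      · rw [swap_apply_of_ne_of_ne h1 h3, hfix f h1 h3]
    · have hbc := hval (π c) c
      rw [if_pos rfl, if_neg hc, zero_sub] at hbc
      rw [hbc, neg_mul, neg_neg, mul_assoc, mul_assoc, Quaternion.star_mul_self, ← Quaternion.coe_commutes,
        Quaternion.coe_mul_eq_smul, mul_smul_comm, two_mul, ← two_smul F, smul_smul, mul_comm, hN, one_smul]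

omit h2 in
theorem sq_diag_single (a : ι) :
    diag (Pi.mulSingle a (qi : SL1 F)) * diag (Pi.mulSingle a qi) = (z a : SpH ι F) := by
  rw [← map_mul, z, zB]
  congr 1
  funext b
  rw [Pi.mul_apply]
  by_cases h : b = a
  · subst h
    rw [Pi.mulSingle_eq_same, if_pos (Finset.mem_singleton_self _)]
    apply SL1.ext <;> simp [coe_mul_SL1, coe_negOne, Quaternion.re_one, Quaternion.imI_one,
      Quaternion.imJ_one, Quaternion.imK_one]
  · rw [Pi.mulSingle_eq_of_ne h, if_neg (by simpa using h), mul_one]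

/-- The normaliser of `sylS`. -/
theorem normalizer_sylS [Finite F] (hP : Good P) (hQR : Q8 F ≤ R) {g : SpH ι F}
    (hg : g ∈ normalizer (sylS P R : Set (SpH ι F))) :
    ∃ ρ ∈ P, ∃ d : ι → SL1 F, g = mon ρ d ∧ (∀ b, d b ∈ normalizer (R : Set (SL1 F))) ∧
      ∀ b c, d b * (d c)⁻¹ ∈ R := by
  have hMon : g ∈ Mon ι F := by
    refine mem_Mon_of_conj h2 fun a => ?_
    obtain ⟨π, hπ, d, hd, hs⟩ := (mem_normalizer_iff.1 hg _).1
      (diag_single_mem_sylS (P := P) (a := a) (hQR qi_mem_Q8))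
    have hy : g * z a * g⁻¹ = mon (π * π) (fun b => d (π b) * d b) := by
      rw [← mon_mul, ← hs, ← sq_diag_single]
      simp [mul_assoc]
    rcases mon_conj_z_cases h2 g a hy with ⟨-, e, he⟩ | ⟨c, b, hcb, hπ2, -⟩
    · exact ⟨e, he⟩
    · exfalso
      have := congrArg Perm.sign hπ2
      rw [map_mul, Perm.sign_swap hcb, Int.units_mul_self] at this
      exact absurd this (by decide)
  obtain ⟨ρ, d, rfl⟩ := hMon
  have hperm : ∀ σ ∈ P, ρ * σ * ρ⁻¹ ∈ P ∧ ∀ b, d (σ (ρ⁻¹ b)) * (d (ρ⁻¹ b))⁻¹ ∈ R := by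
    intro σ hσ
    have h := (mem_normalizer_iff.1 hg (mon σ fun _ => 1)).1 (mon_mem_sylS.2 ⟨hσ, fun _ => R.one_mem⟩)
    rw [mon_inv, mon_mul, mon_mul, mon_mem_sylS] at h
    exact ⟨h.1, fun b => by simpa using h.2 b⟩
  have hent : ∀ b, d b ∈ normalizer (R : Set (SL1 F)) := by
    intro b
    rw [mem_normalizer_iff_map_conj_eq]
    refine Subgroup.eq_of_le_of_card_ge ?_ (le_of_eq (card_map_of_injective (MulAut.conj (d b)).injective).symm)
    rintro _ ⟨x, hx, rfl⟩
    have h := (mem_normalizer_iff.1 hg _).1 (diag_single_mem_sylS (P := P) (a := b) hx)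
    rw [mon_conj_diag, diag_mem_sylS] at h
    simpa using h (ρ b)
  have hρ : ρ ∈ P := by
    rw [← hP.norm, mem_normalizer_iff_map_conj_eq]
    refine Subgroup.eq_of_le_of_card_ge ?_ (le_of_eq (card_map_of_injective (MulAut.conj ρ).injective).symm)
    rintro _ ⟨σ, hσ, rfl⟩
    exact (hperm σ hσ).1
  refine ⟨ρ, hρ, d, rfl, hent, fun b c => ?_⟩
  obtain ⟨σ, hσ, hcb⟩ := hP.trans c b
  simpa [hcb] using (hperm σ hσ).2 (ρ c)

/-- The element `w` in every coordinate. -/
def wAll (ι : Type*) [Fintype ι] [DecidableEq ι] : SpH ι F := diag fun _ => qw h2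

theorem wAll_mem_normalizer [Finite F] : wAll h2 ι ∈ normalizer (sylS P (Q8 F) : Set (SpH ι F)) := by
  rw [mem_normalizer_iff_map_conj_eq]
  refine Subgroup.eq_of_le_of_card_ge ?_ (le_of_eq (card_map_of_injective (MulAut.conj (wAll h2 ι)).injective).symm)
  rintro _ ⟨x, ⟨π, hπ, d, hd, rfl⟩, rfl⟩
  show wAll h2 ι * mon π d * (wAll h2 ι)⁻¹ ∈ _
  rw [wAll, diag_def, mon_inv, mon_mul, mon_mul, inv_one, mul_one, one_mul]
  exact mon_mem_sylS.2 ⟨hπ, fun b => by simpa using (mem_normalizer_iff.1 (qw_mem_normalizer h2) _).1 (hd b)⟩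

theorem wAll_cube : wAll h2 ι ^ 3 = 1 := by
  rw [wAll, ← map_pow, ← map_one (diag (F := F) (ι := ι))]
  congr 1
  funext b
  exact qw_cube h2

theorem normalizer_sylS_nonsquare [Finite F] (hsq : ¬ IsSquare (2 : F)) (hP : Good P) [Nonempty ι]
    {g : SpH ι F} (hg : g ∈ normalizer (sylS P (Q8 F) : Set (SpH ι F))) :
    ∃ s ∈ sylS P (Q8 F), ∃ n < 3, g = s * wAll h2 ι ^ n := by
  obtain ⟨ρ, hρ, d, rfl, hN, hrat⟩ := normalizer_sylS h2 hP le_rfl hg
  obtain ⟨b0⟩ := (inferInstance : Nonempty ι)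
  obtain ⟨n, hn, q, hq, hd0⟩ := normalizer_Q8 h2 hsq (hN b0)
  refine ⟨mon ρ (fun b => d b * (qw h2 ^ n)⁻¹), mon_mem_sylS.2 ⟨hρ, fun b => ?_⟩, n, hn, ?_⟩
  · rw [show d b * (qw h2 ^ n)⁻¹ = d b * (d b0)⁻¹ * (d b0 * (qw h2 ^ n)⁻¹) by simp [mul_assoc]]
    refine mul_mem (hrat b b0) ?_
    rw [hd0]
    exact (mem_normalizer_iff.1 (pow_mem (qw_mem_normalizer h2) n) q).1 hq
  · rw [wAll, ← map_pow, diag_def, mon_mul, mul_one]
    congr 1
    funext b
    simp

theorem normalizer_sylS_square [Finite F] (hP : Good P) (hQR : Q8 F ≤ R)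
    (hN : normalizer (R : Set (SL1 F)) = R) :
    normalizer (sylS P R : Set (SpH ι F)) = sylS P R := by
  refine le_antisymm (fun g hg => ?_) le_normalizer
  obtain ⟨ρ, hρ, d, rfl, hd, -⟩ := normalizer_sylS h2 hP hQR hg
  exact mon_mem_sylS.2 ⟨hρ, fun b => hN ▸ hd b⟩

/-- `sylS` is a maximal 2-subgroup. -/
theorem sylS_maximal [Finite F] [Nonempty ι] (hP : Good P) (hR : IsPGroup 2 R) (hQR : Q8 F ≤ R)
    (hns : ¬ IsSquare (2 : F) → R = Q8 F)
    (hsqN : IsSquare (2 : F) → normalizer (R : Set (SL1 F)) = R)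
    {T : Subgroup (SpH ι F)} (hT : IsPGroup 2 T) (hle : sylS P R ≤ T) : T = sylS P R := by
  haveI : Fact (Nat.Prime 2) := ⟨Nat.prime_two⟩
  by_cases hsq : IsSquare (2 : F)
  · exact eq_of_pGroup_ge hT hle fun g hg _ _ => (normalizer_sylS_square h2 hP hQR (hsqN hsq)).le hg
  obtain rfl := hns hsq
  refine eq_of_pGroup_ge hT hle fun g hg j hj => ?_
  obtain ⟨s, hs, n, hn, rfl⟩ := normalizer_sylS_nonsquare h2 hsq hP hg
  set W := wAll h2 ι ^ n with hW
  have hWN : W ∈ normalizer (sylS P (Q8 F) : Set (SpH ι F)) := pow_mem (wAll_mem_normalizer h2) n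
  have hpow : ∀ k : ℕ, ∃ s' ∈ sylS P (Q8 F), (s * W) ^ k = s' * W ^ k := by
    intro k
    induction k with
    | zero => exact ⟨1, one_mem _, by simp⟩
    | succ k ih =>
      obtain ⟨s', hs', he⟩ := ih
      refine ⟨s' * (W ^ k * s * (W ^ k)⁻¹),
        mul_mem hs' ((mem_normalizer_iff.1 (pow_mem hWN k) s).1 hs), ?_⟩
      rw [pow_succ, he, pow_succ]
      simp [mul_assoc]
  obtain ⟨s', hs', he⟩ := hpow (2 ^ j)
  rw [hj] at he
  have hWj : W ^ 2 ^ j ∈ sylS P (Q8 F) := by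
    rw [eq_inv_of_mul_eq_one_right he.symm]
    exact inv_mem hs'
  rw [hW, ← pow_mul, wAll, ← map_pow, diag_mem_sylS] at hWj
  obtain ⟨b⟩ := (inferInstance : Nonempty ι)
  have hb := hWj b
  rw [Pi.pow_apply] at hb
  have h3 : (n * 2 ^ j) % 3 = 0 := by
    by_contra h
    have hlt : n * 2 ^ j % 3 < 3 := Nat.mod_lt _ (by norm_num)
    rw [pow_eq_pow_mod (n * 2 ^ j) (qw_cube h2)] at hb
    apply qw_not_mem_Q8 h2
    rcases (show n * 2 ^ j % 3 = 1 ∨ n * 2 ^ j % 3 = 2 by omega) with e | e <;> rw [e] at hb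
    · simpa using hb
    · have := pow_mem hb 2
      rwa [← pow_mul, show 2 * 2 = 3 + 1 from rfl, pow_succ, qw_cube, one_mul] at this
  have hn0 : n = 0 := by
    have h := (((by norm_num : Nat.Coprime 3 2).pow_right j).dvd_of_dvd_mul_right (Nat.dvd_of_mod_eq_zero h3))
    obtain ⟨t, rfl⟩ := h
    omega
  rw [hW, hn0, pow_zero, mul_one]
  exact hs

end H47.PSp
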