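import Cfsg.Agent.H47.PSp.SylowS
import Cfsg.Agent.H73.Conj

/-!
Subgroups of odd order of `U_2` normalised by the diagonal quaternion groups centralise the sign change.
-/

set_option autoImplicit false
set_option linter.unusedSectionVars false
set_option linter.unusedSimpArgs false
set_option linter.style.haveILetI false
set_option maxHeartbeats 1000000

namespace H47.PSp

open Matrix Subgroup
open scoped Quaternion commutatorElement

variable {F : Type*} [Field F]

theorem eq_zero_of_mul_Q8_mul (h2 : (2 : F) ≠ 0) {c x : HQ F}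
    (h : ∀ β ∈ Q8 F, c * (β : HQ F) * x = 0) (hx : x ≠ 0) : c = 0 := by
  obtain ⟨γ, hγ⟩ : ∃ γ : HQ F, (x * γ).re ≠ 0 := by
    by_contra hne
    push Not at hne
    refine hx ?_
    have a0 := hne 1
    have a1 := hne ((qi : SL1 F) : HQ F)
    have a2 := hne ((qj : SL1 F) : HQ F)
    have a3 := hne ((qk : SL1 F) : HQ F)
    simp at a0 a1 a2 a3
    ext <;> simp [a0, a1, a2, a3]
  have key : ∀ β ∈ Q8 F, c * ((β : HQ F) * (x * γ) * star (β : HQ F)) = 0 := fun β hβ => by
    rw [show c * ((β : HQ F) * (x * γ) * star (β : HQ F)) = c * (β : HQ F) * x * (γ * star (β : HQ F)) by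
      simp only [mul_assoc], h β hβ, zero_mul]
  generalize hy : x * γ = y at hγ key
  have hsum : y + ((qi : SL1 F) : HQ F) * y * star ((qi : SL1 F) : HQ F) +
      ((qj : SL1 F) : HQ F) * y * star ((qj : SL1 F) : HQ F) +
      ((qk : SL1 F) : HQ F) * y * star ((qk : SL1 F) : HQ F) = ((4 * y.re : F) : HQ F) := by
    ext <;> simp <;> ring
  have h1 := key 1 (one_mem _)
  rw [coe_one_SL1, one_mul, star_one, mul_one] at h1
  have hz : c * ((4 * y.re : F) : HQ F) = 0 := by
    rw [← hsum, mul_add, mul_add, mul_add, h1, key qi qi_mem_Q8, key qj qj_mem_Q8, key qk qk_mem_Q8]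
    simp
  rw [← Quaternion.coe_commutes, Quaternion.coe_mul_eq_smul] at hz
  refine (smul_eq_zero.1 hz).resolve_left (mul_ne_zero ?_ hγ)
  rw [show (4 : F) = 2 * 2 by norm_num]
  exact mul_ne_zero h2 h2

variable [Finite F] (h2 : (2 : F) ≠ 0)
include h2

theorem commute_z_of_rows {g : SpH (Fin 2) F} (h01 : (g : Matrix (Fin 2) (Fin 2) (HQ F)) 0 1 = 0)
    (h10 : (g : Matrix (Fin 2) (Fin 2) (HQ F)) 1 0 = 0) : g * z 0 = z 0 * g := by
  refine SpH.ext fun a b => ?_
  simp only [mul_apply', Fin.sum_univ_two, z_apply]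
  fin_cases a <;> fin_cases b <;> simp [h01, h10]

theorem upper_zero_of_commute {g : SpH (Fin 2) F} (h : g * z 0 = z 0 * g) :
    (g : Matrix (Fin 2) (Fin 2) (HQ F)) 0 1 = 0 := by
  have e : ((g * z 0 : SpH (Fin 2) F) : Matrix (Fin 2) (Fin 2) (HQ F)) 0 1 =
      ((z 0 * g : SpH (Fin 2) F) : Matrix (Fin 2) (Fin 2) (HQ F)) 0 1 := by rw [h]
  simp [mul_apply', Fin.sum_univ_two, z_apply] at e
  exact eq_zero_of_neg h2 (e.symm)

/-- The crucial computation: `⁅g, g'⁆` has nonzero corner unless `g` is trivial or unipotent. -/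
theorem invert_cases {g : SpH (Fin 2) F} (hinv : z 0 * g * z 0 = g⁻¹) (hg : g * z 0 ≠ z 0 * g)
    (hcomm : ⁅g, diag ![qi, 1] * g * (diag ![qi, 1])⁻¹⁆ * z 0 =
      z 0 * ⁅g, diag ![qi, 1] * g * (diag ![qi, 1])⁻¹⁆) :
    g ^ 4 = 1 ∨ ∃ (α : F) (b : HQ F), b ≠ 0 ∧ α ≠ 0 ∧
      (g : Matrix (Fin 2) (Fin 2) (HQ F)) 0 1 = b ∧ (g : Matrix (Fin 2) (Fin 2) (HQ F)) 1 0 = -star b ∧
      ∀ k : ℕ, ((g ^ k : SpH (Fin 2) F) : Matrix (Fin 2) (Fin 2) (HQ F)) 0 1 =
        ((k : F) * α ^ (k - 1)) • b := by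
  have hent : ∀ a c, ((z 0 * g * z 0 : SpH (Fin 2) F) : Matrix (Fin 2) (Fin 2) (HQ F)) a c =
      star ((g : Matrix (Fin 2) (Fin 2) (HQ F)) c a) := by
    intro a c; rw [hinv, inv_apply]
  have e00 := hent 0 0
  have e01 := hent 0 1
  have e11 := hent 1 1
  simp [mul_apply', Fin.sum_univ_two, z_apply] at e00 e01 e11
  set b := (g : Matrix (Fin 2) (Fin 2) (HQ F)) 0 1 with hb
  have g10 : (g : Matrix (Fin 2) (Fin 2) (HQ F)) 1 0 = -star b := by
    have := congrArg star e01
    simp at this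
    rw [← this]
  have hb0 : b ≠ 0 := by
    intro h
    exact hg (commute_z_of_rows h2 h (by rw [g10, h, star_zero, neg_zero]))
  have s0 := scalar_of_star_eq h2 e00.symm
  have s1 := scalar_of_star_eq h2 e11.symm
  set α := ((g : Matrix (Fin 2) (Fin 2) (HQ F)) 0 0).re
  set δ := ((g : Matrix (Fin 2) (Fin 2) (HQ F)) 1 1).re
  set N := Quaternion.normSq b with hN
  have r00 := row_norm g 0 0
  have r01 := row_norm g 0 1
  rw [if_pos rfl, Fin.sum_univ_two, s0, ← hb, Quaternion.star_coe, Quaternion.self_mul_star,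
    ← Quaternion.coe_mul, ← Quaternion.coe_add, ← Quaternion.coe_one] at r00
  have hnorm : α * α + N = 1 := Quaternion.coe_inj.1 r00
  rw [if_neg (by decide), Fin.sum_univ_two, s0, s1, g10, ← hb, Quaternion.star_coe, star_neg, star_star,
    mul_neg, Quaternion.coe_mul_eq_smul, ← Quaternion.coe_commutes, Quaternion.coe_mul_eq_smul,
    ← neg_smul, ← add_smul, smul_eq_zero] at r01
  have hδ : δ = α := by
    have := r01.resolve_right hb0
    linear_combination this
  rw [hδ] at s1
  set q : SpH (Fin 2) F := diag ![qi, 1] with hq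
  set g' := q * g * q⁻¹ with hg'
  have G : ∀ a c, (g' : Matrix (Fin 2) (Fin 2) (HQ F)) a c =
      ((![qi, 1] a : SL1 F) : HQ F) * (g : Matrix (Fin 2) (Fin 2) (HQ F)) a c *
        star ((![qi, 1] c : SL1 F) : HQ F) := by
    intro a c
    rw [hg', hq, mul_apply', Fin.sum_univ_two, mul_apply', mul_apply', Fin.sum_univ_two, Fin.sum_univ_two,
      inv_apply, inv_apply, diag_apply, diag_apply, diag_apply, diag_apply]
    fin_cases a <;> fin_cases c <;> simp
  have hh := upper_zero_of_commute h2 hcomm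
  rw [commutatorElement_def, show g * g' * g⁻¹ * g'⁻¹ = (g * g') * (g⁻¹ * g'⁻¹) by simp only [mul_assoc]] at hh
  simp only [mul_apply', Fin.sum_univ_two, inv_apply, G, s0, s1, g10, ← hb] at hh
  simp only [Matrix.cons_val_zero, Matrix.cons_val_one, Matrix.head_cons, coe_one_SL1, star_one, one_mul,
    mul_one, star_mul, star_star, Quaternion.star_coe, star_neg] at hh
  set i : HQ F := ((qi : SL1 F) : HQ F) with hi
  have hii : i * star i = 1 := mul_star_coe qi
  have hsi : star i = -i := by ext <;> simp [hi]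
  rw [hsi] at hh
  have hi2 : i * i = -1 := by rw [← neg_eq_iff_eq_neg, ← mul_neg, ← hsi, hii]
  have bb : b * star b = (N : HQ F) := Quaternion.self_mul_star b
  have hcN : ∀ x : HQ F, (N : HQ F) * x = x * (N : HQ F) := fun x => Quaternion.coe_commutes N x
  have hcα : ∀ x : HQ F, (α : HQ F) * x = x * (α : HQ F) := fun x => Quaternion.coe_commutes α x
  have key : (-(2 * α * N : F)) • ((i - 1) * b) = 0 := by
    rw [← hh]
    have a1 : ∀ x, b * (star b * x) = N • x := fun x => by
      rw [← mul_assoc, bb, Quaternion.coe_mul_eq_smul]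
    have a1' : b * star b = N • (1 : HQ F) := by
      rw [bb, ← mul_one ((N : F) : HQ F), Quaternion.coe_mul_eq_smul]
    have a2 : ∀ x, i * (i * x) = -x := fun x => by rw [← mul_assoc, hi2, neg_one_mul]
    simp only [Quaternion.coe_mul_eq_smul, Quaternion.mul_coe_eq_smul, smul_mul_assoc, mul_smul_comm,
      mul_neg, neg_mul, neg_neg, mul_add, add_mul, mul_sub, sub_mul, mul_assoc, a1, a1', a2, hi2, smul_add,
      smul_neg, smul_smul, mul_one, one_mul, smul_sub]
    module
  have hcases : α = 0 ∨ N = 0 := by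
    rcases smul_eq_zero.1 key with h | h
    · rw [neg_eq_zero] at h
      rcases mul_eq_zero.1 h with h | h
      · exact Or.inl ((mul_eq_zero.1 h).resolve_left h2)
      · exact Or.inr h
    · exfalso
      have h' : (-i - 1) * ((i - 1) * b) = 0 := by rw [h, mul_zero]
      rw [← mul_assoc, show (-i - 1) * (i - 1) = 2 by
        rw [show (-i - 1) * (i - 1) = -(i * i) + 1 by noncomm_ring, hi2, neg_neg, one_add_one_eq_two]] at h'
      exact hb0 (two_mul_cancel h2 h')
  rcases hcases with hα | hN0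
  · left
    have hN1 : N = 1 := by rw [hα] at hnorm; linear_combination hnorm
    have g2 : g * g = diag fun _ => negOne := by
      refine SpH.ext fun a c => ?_
      rw [mul_apply', Fin.sum_univ_two, diag_apply]
      fin_cases a <;> fin_cases c <;>
        simp [s0, s1, g10, ← hb, hα, coe_negOne, bb, hN1, Quaternion.star_mul_self, ← hN]
    rw [show (4 : ℕ) = 2 * 2 from rfl, pow_mul, pow_two g, g2, ← map_pow]
    convert map_one (diag (F := F) (ι := Fin 2))
    funext
    simp [pow_two, negOne_mul_self]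
  · right
    have hα0 : α ≠ 0 := fun h => by rw [h, hN0] at hnorm; simp at hnorm
    refine ⟨α, b, hb0, hα0, rfl, g10, fun k => ?_⟩
    have hk : ∀ k : ℕ, ((g ^ k : SpH (Fin 2) F) : Matrix (Fin 2) (Fin 2) (HQ F)) 0 0 = ((α ^ k : F) : HQ F) ∧
        ((g ^ k : SpH (Fin 2) F) : Matrix (Fin 2) (Fin 2) (HQ F)) 0 1 = ((k : F) * α ^ (k - 1)) • b := by
      intro k
      induction k with
      | zero =>
        rw [pow_zero, OneMemClass.coe_one, Matrix.one_apply, Matrix.one_apply, if_pos rfl,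
          if_neg (by decide), pow_zero, Quaternion.coe_one, Nat.cast_zero, zero_mul, zero_smul]
        exact ⟨rfl, rfl⟩
      | succ k ih =>
        obtain ⟨i0, i1⟩ := ih
        rw [pow_succ, mul_apply', mul_apply', Fin.sum_univ_two, Fin.sum_univ_two, i0, i1, s0, s1, g10,
          ← hb]
        constructor
        · rw [smul_mul_assoc, mul_neg, bb, hN0, Quaternion.coe_zero, neg_zero, smul_zero, add_zero,
            ← Quaternion.coe_mul, pow_succ]
        · rw [smul_mul_assoc, ← Quaternion.coe_commutes, Quaternion.coe_mul_eq_smul,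
            Quaternion.coe_mul_eq_smul, smul_smul, ← add_smul]
          congr 1
          rcases k with _ | k
          · simp
          · rw [Nat.add_sub_cancel, Nat.add_sub_cancel, Nat.cast_add (k + 1) 1, Nat.cast_one, pow_succ]
            ring
    exact (hk k).2

/-- Odd subgroups normalised by `Q8 × Q8` centralise the sign change. -/
theorem two_core {N : Subgroup (SpH (Fin 2) F)} (hN : Odd (Nat.card N))
    (hB : ∀ d : Fin 2 → SL1 F, (∀ b, d b ∈ Q8 F) → diag d ∈ normalizer (N : Set (SpH (Fin 2) F))) :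
    ∀ g ∈ N, g * z 0 = z 0 * g := by
  classical
  haveI : Fact (Nat.Prime 2) := ⟨Nat.prime_two⟩
  set B := sylS (⊥ : Subgroup (Equiv.Perm (Fin 2))) (Q8 F)
  have hBp : IsPGroup 2 B := isPGroup_sylS IsPGroup.of_bot isPGroup_Q8
  have hdB : ∀ d : Fin 2 → SL1 F, (∀ b, d b ∈ Q8 F) → diag d ∈ B := fun d hd => diag_mem_sylS.2 hd
  have hBN : B ≤ normalizer (N : Set (SpH (Fin 2) F)) := by
    rintro _ ⟨π, hπ, d, hd, rfl⟩
    rw [Subgroup.mem_bot] at hπ
    subst hπ
    exact hB d hd
  set W : Subgroup (SpH (Fin 2) F) := centralizer {z 0}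
  have hW : ∀ g, g ∈ W ↔ g * z 0 = z 0 * g := fun g => mem_centralizer_singleton_iff.trans eq_comm |>.trans eq_comm
  suffices h : N ≤ W from fun g hg => (hW g).1 (h hg)
  refine H8.le_of_forall_sylowIn fun r hr => ?_
  haveI := Fact.mk hr
  obtain ⟨Q0, hQ0, hQn⟩ := H8.exists_inv_sylowIn (q := r) hBp hBN
    (fun h => Nat.not_even_iff_odd.2 hN (even_iff_two_dvd.2 h))
  refine ⟨Q0, hQ0, ?_⟩
  suffices h : ∀ n, ∀ Q : Subgroup (SpH (Fin 2) F), Nat.card Q = n → IsPGroup r Q → Q ≤ N →
      B ≤ normalizer (Q : Set (SpH (Fin 2) F)) → Q ≤ W from h _ Q0 rfl hQ0.isPGroup hQ0.le hQn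
  intro n
  induction n using Nat.strong_induction_on with
  | _ n ih =>
    rintro Q rfl hQp hQN hQB
    intro g0 hg0
    by_contra hg0W
    have hQb : Q ≠ ⊥ := fun h => hg0W (by rw [h, Subgroup.mem_bot] at hg0; rw [hg0]; exact one_mem _)
    haveI : Nontrivial Q := (nontrivial_iff_ne_bot Q).2 hQb
    haveI : Group.IsNilpotent Q := hQp.isNilpotent
    have hlt : ⁅Q, Q⁆ < Q := by
      have h := Group.IsSolvable.commutator_lt_top_of_nontrivial (G := Q)
      have h' := (Subgroup.map_lt_map_iff_of_injective Q.subtype_injective).2 h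
      rwa [_root_.commutator_def, map_commutator, ← MonoidHom.range_eq_map, range_subtype] at h'
    have hQ' : ⁅Q, Q⁆ ≤ W := by
      refine ih _ ?_ _ rfl (hQp.to_le hlt.le) (hlt.le.trans hQN) ?_
      · exact lt_of_le_of_ne (card_le_of_le hlt.le) fun e => hlt.ne (eq_of_le_of_card_ge hlt.le e.ge)
      · intro a ha
        rw [H73.mem_normalizer_iff_cj, H73.cj_commutator, H73.mem_normalizer_iff_cj.1 (hQB ha)]
    have htB : z (0 : Fin 2) ∈ B := zB_mem_sylS negOne_mem_Q8 _
    set g := g0⁻¹ * (z 0 * g0 * (z 0)⁻¹) with hgdef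
    have hgQ : g ∈ Q := mul_mem (inv_mem hg0) ((mem_normalizer_iff.1 (hQB htB) g0).1 hg0)
    have hinv : z 0 * g * z 0 = g⁻¹ := by
      rw [hgdef, z_inv, _root_.mul_inv_rev, _root_.mul_inv_rev, _root_.mul_inv_rev, inv_inv, z_inv]
      simp only [mul_assoc, z_sq, mul_one]
    have hodd : Odd (orderOf g) := hN.of_dvd_nat (Subgroup.orderOf_dvd_natCard _ (hQN hgQ))
    have hgne : g * z 0 ≠ z 0 * g := by
      intro h
      have hh : g = g⁻¹ := by rw [← hinv, ← h, mul_assoc, z_sq, mul_one]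
      have h1 : g = 1 := eq_one_of_odd hodd (by nth_rewrite 2 [hh]; exact mul_inv_cancel g)
      refine hg0W ((hW g0).2 ?_)
      rw [hgdef, inv_mul_eq_one, eq_mul_inv_iff_mul_eq] at h1
      exact h1
    set q : SpH (Fin 2) F := diag ![qi, 1]
    have hqB : q ∈ B := hdB _ fun b => by fin_cases b <;> simp [qi_mem_Q8]
    have hcomm : ⁅g, q * g * q⁻¹⁆ ∈ ⁅Q, Q⁆ :=
      commutator_mem_commutator hgQ ((mem_normalizer_iff.1 (hQB hqB) g).1 hgQ)
    rcases invert_cases h2 hinv hgne ((hW _).1 (hQ' hcomm)) with h4 | ⟨α, b, hb, hα, hb01, hb10, hpow⟩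
    · have : g = 1 := by
        have hc : Nat.Coprime (orderOf g) 4 := by
          rw [show (4 : ℕ) = 2 ^ 2 from rfl]
          exact (Nat.coprime_two_right.2 hodd).pow_right 2
        have := pow_gcd_eq_one.2 ⟨pow_orderOf_eq_one g, h4⟩
        rwa [hc.gcd_eq_one, pow_one] at this
      exact hgne (by rw [this]; simp)
    · -- `r` is the characteristic
      obtain ⟨p, hp⟩ := CharP.exists F
      haveI := Fintype.ofFinite F
      haveI : Fact p.Prime := ⟨CharP.char_is_prime F p⟩
      obtain ⟨e, he⟩ := hQp ⟨g, hgQ⟩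
      have he' : g ^ r ^ e = 1 := congrArg Subtype.val he
      have h0 := hpow (r ^ e)
      rw [he', OneMemClass.coe_one, Matrix.one_apply, if_neg (by decide)] at h0
      have hk : ((r ^ e : ℕ) : F) = 0 :=
        (mul_eq_zero.1 ((smul_eq_zero.1 h0.symm).resolve_right hb)).resolve_right (pow_ne_zero _ hα)
      have hpr : p = r := (Nat.prime_dvd_prime_iff_eq Fact.out hr).1
        ((Fact.out : p.Prime).dvd_of_dvd_pow ((CharP.cast_eq_zero_iff F p _).1 hk))
      subst hpr
      letI : MulAction Q (Fin 2 → HQ F) :=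
        { smul := fun x v => ((x : SpH (Fin 2) F) : Matrix (Fin 2) (Fin 2) (HQ F)) *ᵥ v
          one_smul := fun v => Matrix.one_mulVec v
          mul_smul := fun x y v => (Matrix.mulVec_mulVec v _ _).symm }
      have hcard : p ∣ Nat.card (Fin 2 → HQ F) := by
        obtain ⟨m, -, hm⟩ := FiniteField.card F p
        have hc : Nat.card (HQ F) = p ^ (m : ℕ) * (p ^ (m : ℕ) * (p ^ (m : ℕ) * p ^ (m : ℕ))) := by
          have e : HQ F ≃ F × F × F × F := QuaternionAlgebra.equivProd (-1 : F) 0 (-1)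
          rw [Nat.card_congr e, Nat.card_prod, Nat.card_prod, Nat.card_prod,
            Nat.card_eq_fintype_card (α := F), hm]
        rw [Nat.card_fun, hc]
        exact dvd_pow (dvd_mul_of_dvd_left (dvd_pow_self p m.pos.ne') _) (by simp)
      obtain ⟨x, hx, hx0⟩ := hQp.exists_fixed_point_of_prime_dvd_card_of_fixed_point (Fin 2 → HQ F) hcard
        (a := 0) (fun y => Matrix.mulVec_zero _)
      have hfix : ∀ y ∈ Q, (y : Matrix (Fin 2) (Fin 2) (HQ F)) *ᵥ x = x := fun y hy => hx ⟨y, hy⟩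
      have hfixB : ∀ β : SpH (Fin 2) F, β ∈ B → (g : Matrix (Fin 2) (Fin 2) (HQ F)) *ᵥ
          ((β : Matrix (Fin 2) (Fin 2) (HQ F)) *ᵥ x) = (β : Matrix (Fin 2) (Fin 2) (HQ F)) *ᵥ x := by
        intro β hβ
        have hm : β⁻¹ * g * β ∈ Q := by
          simpa using (mem_normalizer_iff.1 (hQB (inv_mem hβ)) g).1 hgQ
        have := hfix _ hm
        calc (g : Matrix (Fin 2) (Fin 2) (HQ F)) *ᵥ ((β : Matrix (Fin 2) (Fin 2) (HQ F)) *ᵥ x)
            = ((β * (β⁻¹ * g * β) : SpH (Fin 2) F) : Matrix (Fin 2) (Fin 2) (HQ F)) *ᵥ x := by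
              rw [Matrix.mulVec_mulVec, show β * (β⁻¹ * g * β) = g * β by simp [mul_assoc]]
              rfl
          _ = (β : Matrix (Fin 2) (Fin 2) (HQ F)) *ᵥ ((((β⁻¹ * g * β : SpH (Fin 2) F)) : Matrix (Fin 2) (Fin 2) (HQ F)) *ᵥ x) := by
              rw [Matrix.mulVec_mulVec]; rfl
          _ = (β : Matrix (Fin 2) (Fin 2) (HQ F)) *ᵥ x := by rw [this]
      have hrow : ∀ d : Fin 2 → SL1 F, (∀ c, d c ∈ Q8 F) → ∀ a : Fin 2,
          (g : Matrix (Fin 2) (Fin 2) (HQ F)) a 0 * ((d 0 : HQ F) * x 0) +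
            (g : Matrix (Fin 2) (Fin 2) (HQ F)) a 1 * ((d 1 : HQ F) * x 1) = (d a : HQ F) * x a := by
        intro d hd a
        have := congrFun (hfixB _ (hdB d hd)) a
        have ev : ∀ c, ((diag d : SpH (Fin 2) F) : Matrix (Fin 2) (Fin 2) (HQ F)) *ᵥ x = c →
            c = fun c' => (d c' : HQ F) * x c' := by
          intro c hc
          rw [← hc]
          funext c'
          fin_cases c' <;> simp [Matrix.mulVec, dotProduct, Fin.sum_univ_two, diag_apply]
        rw [ev _ rfl] at this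
        simpa [Matrix.mulVec, dotProduct, Fin.sum_univ_two] using this
      by_cases hx00 : x 0 = 0
      · have hx1 : x 1 ≠ 0 := fun h => hx0 (funext fun c => by fin_cases c <;> simp [hx00, h])
        refine hb (eq_zero_of_mul_Q8_mul h2 (fun β hβ => ?_) hx1)
        have := hrow ![1, β] (fun c => by fin_cases c <;> simp [hβ, one_mem]) 0
        simpa [hx00, hb01, mul_assoc] using this
      · refine hb ?_
        have : -star b = 0 := by
          refine eq_zero_of_mul_Q8_mul h2 (fun β hβ => ?_) hx00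
          have e1 := hrow ![β, 1] (fun c => by fin_cases c <;> simp [hβ, one_mem]) 1
          have e2 := hrow ![negOne * β, 1]
            (fun c => by fin_cases c <;> simp [hβ, one_mem, mul_mem negOne_mem_Q8 hβ]) 1
          simp [hb10, coe_mul_SL1, coe_negOne] at e1 e2
          rw [mul_assoc]
          refine two_mul_cancel h2 ?_
          linear_combination (norm := noncomm_ring) e1 - e2
        simpa using this

end H47.PSp
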